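import Cfsg.Agent.Lib.CoprimeBase.Frame

/-!
Vectors with a maximal line stabiliser, the centraliser of the stabiliser, and classes of vectors in its eigenspace
that cannot be moved onto each other by its elements of small order.
-/

set_option autoImplicit false
set_option linter.unusedSectionVars false
set_option linter.style.haveILetI false

namespace Cfsg.Lib.CoprimeBase

open MulAction Cfsg.Lib.OddBase
open scoped commutatorElement

universe v

variable {A V : Type v} [Group A] [Finite A] [AddCommGroup V] [Finite V] [DistribMulAction A V] {p : ℕ}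

namespace Setting

variable (s : Setting A V p)

/-- The order of the centre. -/
noncomputable def z : ℕ := Nat.card (Subgroup.center s.N)

theorem isCyclic_center : IsCyclic (Subgroup.center s.N) := s.hcyc _ inferInstance inferInstance

theorem z_pos : 0 < s.z := Nat.card_pos

theorem pow_z {k : s.N} (hk : k ∈ Subgroup.center s.N) : k ^ s.z = 1 :=
  congrArg Subtype.val (pow_card_eq_one' (x := (⟨k, hk⟩ : Subgroup.center s.N)))

theorem pow_z_mem (x : s.N) : x ^ s.z ∈ Subgroup.center s.N := Cfsg.Lib.SolvBase.pow_mem_center s.hcl x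

theorem exists_q [Fact p.Prime] : ∃ f : ℕ, 0 < f ∧ s.z + 1 = p ^ f := by
  obtain ⟨f, hf⟩ := s.hq
  refine ⟨f, Nat.pos_of_ne_zero fun h => ?_, hf⟩
  subst h
  have := s.z_pos
  rw [pow_zero] at hf
  have : s.z + 1 = 1 := hf
  omega

theorem z_even [Fact p.Prime] : Even s.z := by
  obtain ⟨f, hf0, hf⟩ := s.exists_q
  have hodd : Odd (p ^ f) := ((Fact.out : p.Prime).odd_of_ne_two s.hp2).pow
  rw [← hf, Nat.odd_add_one, Nat.not_odd_iff_even] at hodd
  exact hodd

theorem zsmul_center {e : V} {k : s.N} (hk : k ∈ Subgroup.center s.N) {x : s.N} (hx : x • e = k • e) (n : ℕ) :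
    x ^ n • e = k ^ n • e := by
  induction n with
  | zero => simp
  | succ n ih => rw [pow_succ, mul_smul, hx, s.comm_center hk, ih, smul_smul, ← pow_succ']

theorem pow_z_of_mem_line {e : V} (he : e ≠ 0) {x : s.N} (hx : x ∈ s.line e) : x ^ s.z = 1 := by
  obtain ⟨k, hk, h⟩ := hx
  refine s.hfpf _ (s.pow_z_mem x) e he ?_
  rw [s.zsmul_center hk h, s.pow_z hk, one_smul]

theorem commute_of_mem_line {e : V} (he : e ≠ 0) {x y : s.N} (hx : x ∈ s.line e) (hy : y ∈ s.line e) :
    Commute x y := by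
  obtain ⟨k, hk, h1⟩ := hx
  obtain ⟨l, hl, h2⟩ := hy
  have hc : ⁅x, y⁆ = 1 := by
    refine s.hfpf _ (s.commutator_mem x y) e he ?_
    have e1 : (x * y) • e = (y * x) • e := by
      rw [mul_smul, mul_smul, h2, h1, s.comm_center hl x e, h1, s.comm_center hk y e, h2, smul_smul, smul_smul,
        Subgroup.mem_center_iff.1 hk l]
    rw [show x * y = ⁅x, y⁆ * (y * x) by rw [commutatorElement_def]; group, mul_smul] at e1
    have e2 : (y * x) • e = (l * k) • e := by
      rw [mul_smul, h1, s.comm_center hk, h2, smul_smul, Subgroup.mem_center_iff.1 hk l]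
    rw [e2, ← mul_smul, Subgroup.mem_center_iff.1 (mul_mem hl hk) ⁅x, y⁆, mul_smul] at e1
    exact smul_left_cancel _ e1
  exact commutatorElement_eq_one_iff_mul_comm.1 hc

theorem line_le_mid {e : V} (he : e ≠ 0) : s.line e ≤ s.mid e := fun x hx =>
  s.mem_mid.2 fun y hy => (s.commute_of_mem_line he hy hx).eq

theorem line_le_line_of_mem_eig {e w : V} (hw : w ∈ s.eig e) : s.line e ≤ s.line w := fun x hx => by
  obtain ⟨k, hk, h⟩ := hx
  exact ⟨k, hk, hw x k hk h⟩

theorem mk_commute' (e : V) (a b : s.N ⧸ s.mid e) : a * b = b * a := by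
  induction a using QuotientGroup.induction_on with
  | H a =>
    induction b using QuotientGroup.induction_on with
    | H b =>
      rw [← QuotientGroup.mk_mul, ← QuotientGroup.mk_mul, QuotientGroup.eq]
      have h : (a * b)⁻¹ * (b * a) = ⁅b⁻¹, a⁻¹⁆ := by rw [commutatorElement_def]; group
      rw [h]
      exact s.center_le_mid e (s.commutator_mem _ _)

/-- A vector with a maximal line stabiliser. -/
structure Max (e : V) : Prop where
  ne : e ≠ 0
  line_eq : ∀ w ∈ s.eig e, w ≠ 0 → s.line w = s.line e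
  maxc : ∀ x ∈ s.mid e, x ^ s.z = 1 → x ∈ s.line e

theorem exists_max [Nontrivial V] : ∃ e : V, s.Max e := by
  haveI := s.isCyclic_center
  obtain ⟨zc, hzc⟩ := IsCyclic.exists_generator (α := Subgroup.center s.N)
  have hzC : Subgroup.zpowers (zc : s.N) = Subgroup.center s.N :=
    le_antisymm (Subgroup.zpowers_le.2 zc.2) fun c hc => by
      obtain ⟨i, hi⟩ := Subgroup.mem_zpowers_iff.1 (hzc ⟨c, hc⟩)
      exact ⟨i, congrArg Subtype.val hi⟩
  obtain ⟨U, hCU, hab, hexp, hmax⟩ := Cfsg.Lib.SolvBase.exists_maximal_exp (N := s.N)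
  have hord : orderOf (zc : s.N) = s.z := by
    rw [← Nat.card_zpowers, hzC]; rfl
  obtain ⟨v, hv, heig⟩ := exists_eigenvector (V := V) hab (hCU zc.2) (by rw [hzC]; exact s.hfpf)
    (fun y hy => by rw [hord]; exact hexp y hy)
  rw [hzC] at heig
  have hle : U ≤ s.line v := fun y hy => heig y hy
  have key : ∀ w : V, w ≠ 0 → U ≤ s.line w → s.line w = U := fun w hw h => le_antisymm (fun x hx =>
    hmax x (s.pow_z_of_mem_line hw hx) fun y hy => s.commute_of_mem_line hw hx (h hy)) h
  refine ⟨v, hv, fun w hw hw0 => ?_, fun x hx hxz => ?_⟩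
  · rw [key w hw0 (hle.trans (s.line_le_line_of_mem_eig hw)), key v hv hle]
  · rw [key v hv hle]
    exact hmax x hxz fun y hy => (s.mem_mid.1 hx y (hle hy)).symm

variable {s} {e : V}

theorem Max.smul_eq_of_fix (he : s.Max e) {f : V} (hf : f ∈ s.eig e) (hf0 : f ≠ 0) {m : s.N}
    (h : m • f = f) : ∀ w ∈ s.eig e, m • w = w := by
  intro w hw
  have hm : m ∈ s.line e := by
    rw [← he.line_eq f hf hf0]
    exact ⟨1, one_mem _, by rw [h, one_smul]⟩
  obtain ⟨k, hk, hme⟩ := hm
  have h1 : k = 1 := s.hfpf k hk f hf0 (by rw [← hf m k hk hme, h])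
  rw [hw m k hk hme, h1, one_smul]

theorem Max.mid_dichotomy [Fact p.Prime] (he : s.Max e) :
    s.mid e = s.line e ∨ (Odd (s.z / 2) ∧ ∀ x : s.N, (x ^ s.z) ^ 2 = 1) := by
  rcases Cfsg.Lib.SolvBase.pow_card_center_dichotomy s.hcl s.hcyc with h | ⟨⟨m, hm, hzm⟩, h⟩
  · exact Or.inl (le_antisymm (fun x hx => he.maxc x hx (h x)) (s.line_le_mid he.ne))
  · refine Or.inr ⟨?_, h⟩
    show Odd (Nat.card (Subgroup.center s.N) / 2)
    rw [hzm, Nat.mul_div_cancel_left _ two_pos]
    exact hm

theorem Max.sq_mem_line [Fact p.Prime] (he : s.Max e) {m : s.N} (hm : m ∈ s.mid e) : m ^ 2 ∈ s.line e := by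
  rcases he.mid_dichotomy with h | ⟨-, h⟩
  · rw [← h]; exact pow_mem hm 2
  · refine he.maxc _ (pow_mem hm 2) ?_
    rw [← pow_mul, mul_comm, pow_mul, h]

theorem invol_unique (s : Setting A V p) {a b : s.N} (ha : a ∈ Subgroup.center s.N)
    (hb : b ∈ Subgroup.center s.N) (ha2 : a ^ 2 = 1) (hb2 : b ^ 2 = 1) (ha1 : a ≠ 1) (hb1 : b ≠ 1) : a = b := by
  classical
  haveI := s.isCyclic_center
  haveI := Fintype.ofFinite (Subgroup.center s.N)
  by_contra hne
  have hsub : ({1, ⟨a, ha⟩, ⟨b, hb⟩} : Finset (Subgroup.center s.N)) ⊆ Finset.univ.filter fun k => k ^ 2 = 1 := by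
    intro k hk
    refine Finset.mem_filter.2 ⟨Finset.mem_univ _, ?_⟩
    simp only [Finset.mem_insert, Finset.mem_singleton] at hk
    rcases hk with rfl | rfl | rfl
    exacts [one_pow 2, Subtype.ext ha2, Subtype.ext hb2]
  have h := (Finset.card_le_card hsub).trans (IsCyclic.card_pow_eq_one_le two_pos)
  rw [Finset.card_insert_of_notMem, Finset.card_pair] at h
  · omega
  · exact fun h' => hne (congrArg Subtype.val h')
  · simp only [Finset.mem_insert, Finset.mem_singleton, not_or]
    exact ⟨fun h' => ha1 (congrArg Subtype.val h').symm, fun h' => hb1 (congrArg Subtype.val h').symm⟩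

theorem Max.four_cosets [Fact p.Prime] (he : s.Max e) :
    ∃ R : Finset s.N, R.card ≤ 4 ∧ (∀ c ∈ R, c ∈ s.mid e) ∧ ∀ m ∈ s.mid e, ∃ c ∈ R, c⁻¹ * m ∈ s.line e := by
  classical
  by_cases hall : ∀ m ∈ s.mid e, m ∈ s.line e
  · exact ⟨{1}, by simp, fun c hc => by rw [Finset.mem_singleton.1 hc]; exact one_mem _,
      fun m hm => ⟨1, by simp, by simpa using hall m hm⟩⟩
  push Not at hall
  obtain ⟨x, hx, hxU⟩ := hall
  obtain hd | ⟨-, hsq⟩ := he.mid_dichotomy
  · exact absurd (hd ▸ hx) hxU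
  by_cases hall2 : ∀ m ∈ s.mid e, m ∈ s.line e ∨ x⁻¹ * m ∈ s.line e
  · refine ⟨{1, x}, (Finset.card_insert_le _ _).trans (by simp), fun c hc => ?_, fun m hm => ?_⟩
    · rcases Finset.mem_insert.1 hc with rfl | hc
      · exact one_mem _
      · rw [Finset.mem_singleton.1 hc]; exact hx
    · rcases hall2 m hm with h | h
      · exact ⟨1, by simp, by simpa using h⟩
      · exact ⟨x, by simp, h⟩
  push Not at hall2
  obtain ⟨y, hy, hyU, hxy⟩ := hall2
  refine ⟨{1, x, y, x * y}, Finset.card_le_four, fun c hc => ?_, fun m hm => ?_⟩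
  · simp only [Finset.mem_insert, Finset.mem_singleton] at hc
    rcases hc with rfl | rfl | rfl | rfl
    exacts [one_mem _, hx, hy, mul_mem hx hy]
  by_contra hnone
  push Not at hnone
  simp only [Finset.mem_insert, Finset.mem_singleton, forall_eq_or_imp, forall_eq, inv_one, one_mul] at hnone
  obtain ⟨hm1, hm2, hm3, hm4⟩ := hnone
  have hinv : ∀ a b : s.N, a ∈ s.mid e → a⁻¹ * b ∉ s.line e → a * b ∉ s.line e := by
    intro a b ha hab h
    apply hab
    rw [show a⁻¹ * b = (a ^ 2)⁻¹ * (a * b) by group]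
    exact mul_mem (inv_mem (he.sq_mem_line ha)) h
  -- the pairing takes only its non-trivial value on independent cosets
  set t := s.z.choose 2 with ht
  haveI := s.isCyclic_center
  have hinvol : ∀ a b : s.N, a ∈ s.mid e → b ∈ s.mid e → a ∉ s.line e → b ∉ s.line e → a * b ∉ s.line e →
      ⁅b, a⁆ ^ t ≠ 1 := by
    intro a b ha hb haU hbU habU h
    apply habU
    refine he.maxc _ (mul_mem ha hb) ?_
    rw [Cfsg.Lib.PGroup.mul_pow_of_class_two s.hcl, h, mul_one]
    have hune : ∀ c : s.N, c ∈ s.mid e → c ∉ s.line e → c ^ s.z ≠ 1 := fun c hc hcU h1 => hcU (he.maxc c hc h1)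
    rw [invol_unique s (s.pow_z_mem a) (s.pow_z_mem b) (hsq a) (hsq b) (hune a ha haU) (hune b hb hbU), ← sq]
    exact hsq b
  have hxy' : x * y ∉ s.line e := hinv x y hx hxy
  have e1 := hinvol x y hx hy hxU hyU hxy'
  have e2 := hinvol x m hx hm hxU hm1 (hinv x m hx hm2)
  have e3 := hinvol x (y * m) hx (mul_mem hy hm) hxU (hinv y m hy hm3)
    (by rw [← mul_assoc]; exact hinv (x * y) m (mul_mem hx hy) hm4)
  rw [Cfsg.Lib.PGroup.commutatorElement_mul_left s.hcl,
    (show Commute ⁅y, x⁆ ⁅m, x⁆ from Subgroup.mem_center_iff.1 (s.commutator_mem m x) _).mul_pow] at e3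
  have hsquare : ∀ b : s.N, (⁅b, x⁆ ^ t) ^ 2 = 1 := by
    intro b
    have h2 : ⁅b, x⁆ ^ (2 * t) = 1 := by
      obtain ⟨d, hd⟩ : s.z ∣ 2 * t := by
        refine ⟨s.z - 1, ?_⟩
        rw [ht, Nat.choose_two_right, Nat.mul_div_cancel' (Nat.two_dvd_mul_sub_one _)]
      rw [hd, pow_mul, s.pow_z (s.commutator_mem b x), one_pow]
    rw [← pow_mul, mul_comm]
    exact h2
  refine e3 ?_
  rw [invol_unique s (pow_mem (s.commutator_mem y x) t) (pow_mem (s.commutator_mem m x) t) (hsquare y) (hsquare m)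
    e1 e2, ← sq]
  exact hsquare m

/-- The images of a vector under the elements whose fourth power fixes it. -/
def fourImages (s : Setting A V p) (e X : V) : Set V := {Y | ∃ u ∈ s.mid e, u ^ 4 • X = X ∧ u • X = Y}

theorem Max.card_fourImages [Fact p.Prime] (he : s.Max e) {X : V} (hX : X ∈ s.eig e) (hX0 : X ≠ 0) :
    (s.mid e = s.line e → Nat.card (fourImages s e X) ≤ 4 ∧ (Odd (s.z / 2) → Nat.card (fourImages s e X) ≤ 2)) ∧
      (s.mid e ≠ s.line e → Nat.card (fourImages s e X) ≤ 8) := by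
  classical
  haveI := s.isCyclic_center
  haveI := Fintype.ofFinite (Subgroup.center s.N)
  haveI := Fintype.ofFinite V
  let Z4 : Finset (Subgroup.center s.N) := Finset.univ.filter fun k => k ^ 4 = 1
  have hZ4 : Z4.card ≤ 4 := IsCyclic.card_pow_eq_one_le (by norm_num)
  have hZ2 : Odd (s.z / 2) → Z4.card ≤ 2 := by
    intro hodd
    refine le_trans (Finset.card_le_card fun k hk => ?_) (IsCyclic.card_pow_eq_one_le two_pos)
    refine Finset.mem_filter.2 ⟨Finset.mem_univ _, ?_⟩
    have h4 := (Finset.mem_filter.1 hk).2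
    have h := pow_gcd_eq_one.2 ⟨h4, (pow_card_eq_one' : k ^ Nat.card (Subgroup.center s.N) = 1)⟩
    have hz : Nat.card (Subgroup.center s.N) = 2 * (s.z / 2) := (Nat.two_mul_div_two_of_even s.z_even).symm
    rw [hz, show (4 : ℕ) = 2 * 2 by norm_num, Nat.gcd_mul_left,
      Nat.Coprime.gcd_eq_one (Nat.coprime_two_left.2 hodd), mul_one] at h
    exact h
  have main : ∀ R : Finset s.N, (∀ c ∈ R, c ∈ s.mid e) → (∀ m ∈ s.mid e, ∃ c ∈ R, c⁻¹ * m ∈ s.line e) →
      Nat.card (fourImages s e X) ≤ R.card * Z4.card := by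
    intro R hR hcov
    let first : s.N → V := fun c => if h : ∃ Y, ∃ u, u ∈ s.mid e ∧ c⁻¹ * u ∈ s.line e ∧ u ^ 4 • X = X ∧ u • X = Y
      then h.choose else 0
    have hsub : fourImages s e X ⊆
        ↑((R ×ˢ Z4).image fun ck => ((ck.2 : Subgroup.center s.N) : s.N) • first ck.1) := by
      rintro Y ⟨u, hu, hu4, rfl⟩
      obtain ⟨c, hc, hcu⟩ := hcov u hu
      have hex : ∃ Y, ∃ u, u ∈ s.mid e ∧ c⁻¹ * u ∈ s.line e ∧ u ^ 4 • X = X ∧ u • X = Y :=
        ⟨_, u, hu, hcu, hu4, rfl⟩
      obtain ⟨u', hu', hcu', hu'4, hu'X⟩ := hex.choose_spec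
      have hd : u'⁻¹ * u ∈ s.line e := by
        have := mul_mem (inv_mem hcu') hcu
        rwa [mul_inv_rev, inv_inv, mul_assoc, mul_inv_cancel_left] at this
      obtain ⟨k, hk, hke⟩ := hd
      have hkX : u • X = k • u' • X := by
        rw [← s.comm_center hk, ← hX _ k hk hke, smul_smul, mul_inv_cancel_left]
      have hpow : ∀ n : ℕ, u ^ n • X = k ^ n • u' ^ n • X := by
        intro n
        induction n with
        | zero => simp
        | succ n ih =>
          rw [pow_succ' u, mul_smul, ih, s.comm_center (pow_mem hk n)]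
          have hm : u' ^ n • X ∈ s.eig e := s.smul_mem_eig (pow_mem hu' n) hX
          rw [show u • u' ^ n • X = u' • k • u' ^ n • X by
            rw [← hm _ k hk hke, smul_smul u', mul_inv_cancel_left],
            s.comm_center hk u' (u' ^ n • X), smul_smul (k ^ n) k, ← pow_succ, smul_smul u', ← pow_succ']
      have hk4 : k ^ 4 = 1 := by
        refine s.hfpf _ (pow_mem hk 4) X hX0 ?_
        rw [hpow 4, hu'4] at hu4
        exact hu4
      refine Finset.mem_coe.2 (Finset.mem_image.2 ⟨(c, ⟨k, hk⟩), Finset.mem_product.2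
        ⟨hc, Finset.mem_filter.2 ⟨Finset.mem_univ _, Subtype.ext hk4⟩⟩, ?_⟩)
      simp only [first, dif_pos hex]
      rw [hkX, hu'X]
    refine (Nat.card_mono (Finset.finite_toSet _) hsub).trans ?_
    rw [Nat.card_coe_set_eq, Set.ncard_coe_finset]
    exact Finset.card_image_le.trans_eq (Finset.card_product _ _)
  constructor
  · intro hM
    have h := main {1} (fun c hc => by rw [Finset.mem_singleton.1 hc]; exact one_mem _)
      (fun m hm => ⟨1, by simp, by rw [hM] at hm; simpa using hm⟩)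
    rw [Finset.card_singleton, one_mul] at h
    exact ⟨h.trans hZ4, fun hodd => h.trans (hZ2 hodd)⟩
  · intro hM
    obtain h | ⟨hodd, -⟩ := he.mid_dichotomy
    · exact absurd h hM
    obtain ⟨R, hR4, hR, hcov⟩ := he.four_cosets
    exact (main R hR hcov).trans (le_trans (Nat.mul_le_mul hR4 (hZ2 hodd)) le_rfl)

/-- The small exceptional configurations. -/
def Exceptional (s : Setting A V p) (e : V) : Prop :=
  (s.mid e = s.line e ∧ Nat.card (s.eig e) = s.z + 1 ∧ (s.z = 2 ∨ s.z = 4 ∨ s.z = 8)) ∨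
    (s.mid e ≠ s.line e ∧ s.z = 2 ∧ Nat.card (s.eig e) = 9)

/-- Three vectors none of which is moved to another one by an element whose fourth power fixes it. -/
def ThreeClasses (s : Setting A V p) (e : V) : Prop :=
  ∃ F : Fin 3 → V, (∀ i, F i ∈ s.eig e ∧ F i ≠ 0) ∧
    ∀ i j, i ≠ j → ∀ u ∈ s.mid e, u ^ 4 • F i = F i → u • F i ≠ F j

theorem small_orders : ∀ p ∈ [3, 5, 7, 11, 13, 17], ∀ f ∈ [1, 2, 3, 4], ∀ j ∈ [0, 1, 2, 3, 4],
    p ^ f ≤ p ^ j → ((p ^ j ≤ 9 → ((p ^ f - 1) / 2 % 2 = 1 → p ^ j ≤ 5) →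
        p ^ j = p ^ f ∧ (p ^ f = 3 ∨ p ^ f = 5 ∨ p ^ f = 9)) ∧
      (p ^ j ≤ 17 → p ^ f < p ^ j → (p ^ f - 1) / 2 % 2 = 1 → p ^ f = 3 ∧ p ^ j = 9)) := by
  decide +kernel

theorem Max.threeClasses_or [Fact p.Prime] (he : s.Max e) : ThreeClasses s e ∨ Exceptional s e := by
  classical
  haveI := Fintype.ofFinite V
  have hpp := (Fact.out : p.Prime)
  obtain ⟨f, hf0, hf⟩ := s.exists_q
  obtain ⟨j, hj⟩ := card_eq_pow (V := s.eig e) (p := p) fun x => Subtype.ext (s.hp (x : V))
  let emb : Option (Subgroup.center s.N) → s.eig e := fun o => o.elim 0 fun k =>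
    ⟨(k : s.N) • e, s.center_smul_mem_eig k.2 (s.self_mem_eig e)⟩
  have hne : ∀ k : Subgroup.center s.N, (k : s.N) • e ≠ 0 := fun k h =>
    he.ne ((smul_eq_zero_iff_eq (k : s.N)).1 h)
  have hinj : Function.Injective emb := by
    rintro (_ | k) (_ | l) h
    · rfl
    · exact absurd (congrArg Subtype.val h).symm (hne l)
    · exact absurd (congrArg Subtype.val h) (hne k)
    · exact congrArg some (Subtype.ext (s.hfpf.eq_of_smul_eq k.2 l.2 he.ne (congrArg Subtype.val h)))
  have hq : s.z + 1 ≤ Nat.card (s.eig e) :=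
    (Finite.card_option).symm.trans_le (Nat.card_le_card_of_injective emb hinj)
  have hstrict : s.mid e ≠ s.line e → s.z + 1 < Nat.card (s.eig e) := by
    intro hM
    refine lt_of_le_of_ne hq fun h => hM ?_
    have hsurj : Function.Surjective emb := by
      haveI := Fintype.ofFinite (Option (Subgroup.center s.N))
      haveI := Fintype.ofFinite (s.eig e)
      refine ((Fintype.bijective_iff_injective_and_card emb).2 ⟨hinj, ?_⟩).2
      rw [← Nat.card_eq_fintype_card, ← Nat.card_eq_fintype_card, ← h, Finite.card_option]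
      rfl
    refine le_antisymm (fun m hm => ?_) (s.line_le_mid he.ne)
    obtain ⟨o, ho⟩ := hsurj ⟨m • e, s.smul_mem_eig hm (s.self_mem_eig e)⟩
    rcases o with _ | k
    · exact absurd ((smul_eq_zero_iff_eq m).1 (congrArg Subtype.val ho).symm) he.ne
    · exact ⟨k, k.2, (congrArg Subtype.val ho).symm⟩
  -- many vectors give three classes
  have pick : ∀ g : ℕ, (∀ X ∈ s.eig e, X ≠ 0 → Nat.card (fourImages s e X) ≤ g) →
      1 + 2 * g < Nat.card (s.eig e) → ThreeClasses s e := by
    intro g hg hlt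
    have hself : ∀ X : V, X ∈ fourImages s e X := fun X => ⟨1, one_mem _, by simp, one_smul _ X⟩
    have hsymm : ∀ X Y : V, Y ∈ fourImages s e X → X ∈ fourImages s e Y := by
      rintro X Y ⟨u, hu, h4, rfl⟩
      refine ⟨u⁻¹, inv_mem hu, ?_, inv_smul_smul u X⟩
      rw [inv_pow, inv_smul_eq_iff, smul_smul, ← pow_succ, pow_succ', mul_smul, h4]
    have hsz : ∀ S : Set V, Nat.card S < Nat.card (s.eig e) → ∃ Y ∈ s.eig e, Y ∉ S := by
      intro S hS
      by_contra hall
      push Not at hall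
      exact absurd (Nat.card_mono (Set.toFinite S) hall) (not_le.2 hS)
    obtain ⟨Y, hY, hYn⟩ := hsz (insert 0 (fourImages s e e)) (by
      rw [Nat.card_coe_set_eq]
      refine lt_of_le_of_lt (Set.ncard_insert_le _ _) ?_
      rw [← Nat.card_coe_set_eq]
      have := hg e (s.self_mem_eig e) he.ne
      omega)
    simp only [Set.mem_insert_iff, not_or] at hYn
    obtain ⟨W, hW, hWn⟩ := hsz (insert 0 (fourImages s e e ∪ fourImages s e Y)) (by
      rw [Nat.card_coe_set_eq]
      refine lt_of_le_of_lt (Set.ncard_insert_le _ _) ?_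
      have h1 := Set.ncard_union_le (fourImages s e e) (fourImages s e Y)
      rw [← Nat.card_coe_set_eq (fourImages s e e), ← Nat.card_coe_set_eq (fourImages s e Y)] at h1
      have := hg e (s.self_mem_eig e) he.ne
      have := hg Y hY hYn.1
      omega)
    simp only [Set.mem_insert_iff, Set.mem_union, not_or] at hWn
    refine ⟨![e, Y, W], fun i => ?_, fun i j hij u hu h4 heq => ?_⟩
    · fin_cases i
      exacts [⟨s.self_mem_eig e, he.ne⟩, ⟨hY, hYn.1⟩, ⟨hW, hWn.1⟩]
    · have hm : ![e, Y, W] j ∈ fourImages s e (![e, Y, W] i) := ⟨u, hu, h4, heq⟩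
      fin_cases i <;> fin_cases j
      · exact hij rfl
      · exact hYn.2 hm
      · exact hWn.2.1 hm
      · exact hYn.2 (hsymm _ _ hm)
      · exact hij rfl
      · exact hWn.2.2 hm
      · exact hWn.2.1 (hsymm _ _ hm)
      · exact hWn.2.2 (hsymm _ _ hm)
      · exact hij rfl
  by_cases hT : ThreeClasses s e
  · exact Or.inl hT
  right
  have hE17 : Nat.card (s.eig e) ≤ 17 := by
    by_contra h
    refine hT (pick 8 (fun X hX hX0 => ?_) (by omega))
    by_cases hM : s.mid e = s.line e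
    · exact ((he.card_fourImages hX hX0).1 hM).1.trans (by norm_num)
    · exact (he.card_fourImages hX hX0).2 hM
  have hp3 : 3 ≤ p := by
    have := hpp.two_le
    have := s.hp2
    omega
  have hp18 : p < 18 := by
    have h1 := Nat.le_self_pow hf0.ne' p
    omega
  have hb : ∀ i : ℕ, p ^ i ≤ 17 → i < 5 := by
    intro i hi
    by_contra h
    have h1 := Nat.pow_le_pow_left hp3 i
    have h2 := Nat.pow_le_pow_right (show 1 ≤ 3 by norm_num) (show 5 ≤ i by omega)
    omega
  have hso := small_orders p (by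
      interval_cases p <;> first | (simp; done) | (norm_num at hpp; done))
    f (by have := hb f (by omega); simp only [List.mem_cons, List.not_mem_nil, or_false]; omega)
    j (by have := hb j (by omega); simp only [List.mem_cons, List.not_mem_nil, or_false]; omega) (by omega)
  have hpar : (p ^ f - 1) / 2 % 2 = 1 ↔ Odd (s.z / 2) := by
    rw [Nat.odd_iff, ← hf, Nat.add_sub_cancel]
  by_cases hM : s.mid e = s.line e
  · left
    obtain ⟨h1, h2⟩ := hso.1 (by
      by_contra h
      exact hT (pick 4 (fun X hX hX0 => ((he.card_fourImages hX hX0).1 hM).1) (by omega)))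
      (fun hodd => by
        by_contra h
        exact hT (pick 2 (fun X hX hX0 => ((he.card_fourImages hX hX0).1 hM).2 (hpar.1 hodd)) (by omega)))
    exact ⟨hM, by omega, by omega⟩
  · right
    obtain hd | ⟨hodd, -⟩ := he.mid_dichotomy
    · exact absurd hd hM
    have hlt := hstrict hM
    obtain ⟨h1, h2⟩ := hso.2 (by omega) (by omega) (hpar.2 hodd)
    exact ⟨hM, by omega, by omega⟩

end Setting

end Cfsg.Lib.CoprimeBase
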