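import Mathlib.Algebra.BigOperators.Fin
import Mathlib.Algebra.BigOperators.Group.Finset.Basic
import Mathlib.Algebra.BigOperators.Intervals
import Mathlib.Algebra.Group.Hom.Defs
import Mathlib.Data.List.Forall2
import Mathlib.Data.List.GetD
import Mathlib.Algebra.Module.Basic
import Mathlib.Algebra.Module.BigOperators
import Mathlib.Algebra.BigOperators.GroupWithZero.Action
import Mathlib.Data.Nat.Log
import Mathlib.Tactic.Ring
import Mathlib.Tactic.Linarith
import Mathlib.Tactic.Abel

/-!
A checker for stabilisers of two vectors in the normaliser of a finite monomial-like group over a small prime field,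
and its soundness. Vectors are numbers whose base sixteen digits are the coordinates.
-/

set_option autoImplicit false
set_option linter.unusedSectionVars false

namespace Cfsg.Lib.CoprimeBase.Cert

/-- A coordinate. -/
def get (l i : ℕ) : ℕ := (l >>> (4 * i)) % 16

/-- An operator, given by the sparse rows of its matrix. -/
abbrev Op := List (List (ℕ × ℕ))

/-- The value of a row at a vector. -/
def rowVal (l : ℕ) : List (ℕ × ℕ) → ℕ
  | [] => 0
  | e :: row => e.2 * get l e.1 + rowVal l row

/-- Application of an operator. -/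
def app (p : ℕ) : Op → ℕ → ℕ
  | [], _ => 0
  | row :: o, l => rowVal l row % p + 16 * app p o l

/-- Evaluation of the argument before use. -/
def force {α : Type} (l : ℕ) (k : ℕ → α) : α :=
  match l with
  | 0 => k 0
  | m + 1 => k (m + 1)

/-- The product of the operators selected by the binary digits. -/
def act (p : ℕ) : List Op → ℕ → ℕ → ℕ
  | [], _, l => l
  | o :: os, k, l => force l fun l' => if k % 2 = 1 then act p os (k / 2) (app p o l') else act p os (k / 2) l'

/-- One coordinate of a linear combination. -/
def comb : List ℕ → List ℕ → ℕ → ℕ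
  | c :: cs, b :: bs, j => if c = 0 then comb cs bs j else c * get b j + comb cs bs j
  | _, _, _ => 0

/-- Packing of coordinates. -/
def packAt (p : ℕ) : ℕ → (ℕ → ℕ) → ℕ
  | 0, _ => 0
  | k + 1, f => f 0 % p + 16 * packAt p k (fun j => f (j + 1))

/-- The terms with non-zero coefficients, evaluated. -/
def support {β : Type} : List ℕ → List ℕ → (List ℕ → List ℕ → β) → β
  | c :: cs, b :: bs, k =>
    if c = 0 then support cs bs k else force b fun b' => support cs bs fun a a' => k (c :: a) (b' :: a')
  | _, _, k => k [] []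

/-- A linear combination. -/
def lin (p n : ℕ) (cc B : List ℕ) : ℕ := support cc B fun cc' B' => packAt p n (comb cc' B')

/-- A constraint: a word of the images applied to a fixed vector is a combination of the images of the basis. -/
structure Con where
  /-- the fixed vector -/
  start : ℕ
  /-- indices of generators -/
  word : List ℕ
  /-- coefficients -/
  coef : List ℕ

/-- A group generated by operators. -/
structure Model where
  /-- the prime -/
  p : ℕ
  /-- the dimension -/
  n : ℕ
  /-- the generators -/
  ops : List Op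
  /-- the products of the generators, each as one operator -/
  table : List Op

/-- The data of one pair. -/
structure Data where
  /-- the first vector -/
  v : ℕ
  /-- the second vector -/
  w : ℕ
  /-- generators whose words give a basis on the first vector -/
  gens : List Op
  /-- constraints by level -/
  levels : List (List Con)
  /-- coordinates of the unit vectors in that basis -/
  units : List (List ℕ)
  /-- the possible non-trivial elements -/
  sols : List (List ℕ)
  /-- dependencies excluding the other candidates -/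
  kills : List (List ℕ)

variable (m : Model)

/-- The unit vectors. -/
def one : List ℕ := (List.range m.n).map fun i => 16 ^ i

/-- Application of a matrix given by columns. -/
def mat (M : List ℕ) (l : ℕ) : ℕ := lin m.p m.n ((List.range m.n).map (get l)) M

/-- A map with evaluation of the values before they are passed on. -/
def mapK {β : Type} (f : ℕ → ℕ) : List ℕ → (List ℕ → β) → β
  | [], k => k []
  | x :: xs, k => force (f x) fun y => mapK f xs fun ys => k (y :: ys)

/-- Words in one more generator. -/
def grow (B : List ℕ) (h : Op) : List ℕ := B ++ B.map (app m.p h)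

/-- A constraint holds. -/
def holds (hs : List Op) (B : List ℕ) (c : Con) : Bool :=
  c.word.foldl (fun l t => app m.p (hs.getD t []) l) c.start == lin m.p m.n c.coef B

/-- Exhaustive search. -/
def search (fin : List ℕ → Bool) : List (List Con) → List Op → List ℕ → Bool
  | [], _, B => fin B
  | L :: rest, hs, B => m.table.all fun h => mapK (app m.p h) B fun B₂ =>
      !(L.all (holds m (hs ++ [h]) (B ++ B₂))) || search fin rest (hs ++ [h]) (B ++ B₂)

/-- The test of a complete candidate. -/
def fin (d : Data) (Bg B : List ℕ) : Bool :=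
  (one m :: d.sols).any (fun M => B == Bg.map (mat m M)) || d.kills.any (fun c => lin m.p m.n c B == 0)

/-- The constraints hold for the generators. -/
def goodGens (v w : ℕ) : List (List Con) → List Op → List Op → List ℕ → Bool
  | [], [], _, _ => true
  | L :: rest, g :: gs, hs, B =>
      m.table.contains g &&
        L.all (fun c => (c.start == v || c.start == w) && c.word.all (fun t => decide (t < hs.length + 1)) &&
          holds m (hs ++ [g]) (grow m B g) c) && goodGens v w rest gs (hs ++ [g]) (grow m B g)
  | _, _, _, _ => false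

/-- The whole test. -/
def check (d : Data) : Bool :=
  mapK id (d.gens.foldl (grow m) [d.v]) fun Bg =>
  goodGens m d.v d.w d.levels d.gens [] [d.v] &&
    d.kills.all (fun c => !(lin m.p m.n c Bg == 0)) &&
    ((List.range m.n).all fun i => lin m.p m.n (d.units.getD i []) Bg == 16 ^ i) &&
    ((one m :: d.sols).all fun M => (List.range m.n).all fun i =>
      lin m.p m.n (d.units.getD i []) (Bg.map (mat m M)) == M.getD i 0) &&
    decide (d.levels ≠ [])

/-- A part of the search, by the first generator. -/
def checkPart (d : Data) (i : ℕ) : Bool :=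
  mapK id (d.gens.foldl (grow m) [d.v]) fun Bg => ((m.table.drop (16 * i)).take 16).all fun h =>
    mapK (app m.p h) [d.v] fun B₂ =>
      !((d.levels.headD []).all (holds m [h] ([d.v] ++ B₂))) ||
        search m (fin m d Bg) d.levels.tail [h] ([d.v] ++ B₂)

/-- All parts. -/
def checkAll (d : Data) (c : ℕ) : Bool :=
  check m d && decide (m.table.length ≤ 16 * c) && (List.range c).all (checkPart m d)

/-- The table lists the products of the generators. -/
def tableOK : Bool :=
  decide (m.table.length = 2 ^ m.ops.length) &&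
    (List.range m.table.length).all fun k =>
      (List.range m.n).all fun i => app m.p (m.table.getD k []) (16 ^ i) == act m.p m.ops k (16 ^ i)

/-- Well-formed operators. -/
def wf : Bool :=
  decide (0 < m.p) && decide (m.p ≤ 16) &&
    (m.ops ++ m.table).all (fun o => decide (o.length = m.n) && o.all (fun row => row.all fun e => decide (e.1 < m.n)))

/-- A vector is canonical. -/
def canonB (l : ℕ) : Bool := decide (l < 16 ^ m.n) && (List.range m.n).all fun i => decide (get l i < m.p)

/-- No non-trivial product fixes the vector. -/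
def regular (l : ℕ) : Bool :=
  canonB m l && m.table.all fun o =>
    !(app m.p o l == l) || (List.range m.n).all fun i => app m.p o (16 ^ i) == 16 ^ i

/-- No product moves the first vector to the second. -/
def apart (l l' : ℕ) : Bool :=
  m.table.all fun o => !(app m.p o l == l') && !(app m.p o l' == l)

theorem checkAll_of {d : Data} {c : ℕ} (h : check m d = true) (hl : m.table.length ≤ 16 * c)
    (hparts : ∀ i < c, checkPart m d i = true) : checkAll m d c = true := by
  simp only [checkAll, h, decide_eq_true hl, Bool.true_and, List.all_eq_true, List.mem_range]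
  exact hparts

section Arith

variable {m}

theorem get_zero_left (i : ℕ) : get 0 i = 0 := by simp [get]

theorem get_eq (l i : ℕ) : get l i = l / 16 ^ i % 16 := by
  rw [get, Nat.shiftRight_eq_div_pow, pow_mul]; norm_num

theorem get_cons_zero {a b : ℕ} (ha : a < 16) : get (a + 16 * b) 0 = a := by
  rw [get_eq, pow_zero, Nat.div_one, Nat.add_mul_mod_self_left, Nat.mod_eq_of_lt ha]

theorem get_cons_succ {a b i : ℕ} (ha : a < 16) : get (a + 16 * b) (i + 1) = get b i := by
  rw [get_eq, get_eq, pow_succ', ← Nat.div_div_eq_div_mul, Nat.add_mul_div_left _ _ (by norm_num),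
    Nat.div_eq_of_lt ha, zero_add]

theorem ext_get : ∀ {n l l' : ℕ}, l < 16 ^ n → l' < 16 ^ n → (∀ i < n, get l i = get l' i) → l = l'
  | 0, l, l', hl, hl', _ => by rw [pow_zero] at hl hl'; omega
  | n + 1, l, l', hl, hl', h => by
    have h0 := h 0 (Nat.succ_pos n)
    simp only [get_eq, pow_zero, Nat.div_one] at h0
    have h1 : l / 16 = l' / 16 := by
      refine ext_get (n := n) ?_ ?_ fun i hi => ?_
      · rw [pow_succ] at hl; omega
      · rw [pow_succ] at hl'; omega
      · have := h (i + 1) (by omega)
        simpa only [get_eq, pow_succ', ← Nat.div_div_eq_div_mul] using this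
    omega

theorem get_pow {i j : ℕ} : get (16 ^ i) j = if i = j then 1 else 0 := by
  rw [get_eq]
  rcases lt_trichotomy i j with h | rfl | h
  · rw [if_neg h.ne, Nat.div_eq_of_lt (Nat.pow_lt_pow_right (by norm_num) h)]
  · rw [if_pos rfl, Nat.div_self (by positivity)]
  · rw [if_neg h.ne', Nat.pow_div h.le (by norm_num), show i - j = (i - j - 1) + 1 by omega, pow_succ,
      Nat.mul_mod_left]

theorem app_lt {p : ℕ} (hp : 0 < p) (hp16 : p ≤ 16) : ∀ (o : Op) (l : ℕ), app p o l < 16 ^ o.length
  | [], _ => by simp [app]
  | row :: o, l => by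
    have := app_lt hp hp16 o l
    have := Nat.mod_lt (rowVal l row) hp
    rw [app, List.length_cons, pow_succ]
    omega

theorem get_app {p : ℕ} (hp : 0 < p) (hp16 : p ≤ 16) : ∀ (o : Op) (l j : ℕ),
    get (app p o l) j = rowVal l (o.getD j []) % p
  | [], l, j => by simp [app, get_zero_left, rowVal, List.getD]
  | row :: o, l, 0 => by
    rw [app, get_cons_zero (lt_of_lt_of_le (Nat.mod_lt _ hp) hp16)]
    simp [List.getD]
  | row :: o, l, j + 1 => by
    rw [app, get_cons_succ (lt_of_lt_of_le (Nat.mod_lt _ hp) hp16), get_app hp hp16 o l j]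
    simp [List.getD]

theorem packAt_lt {p : ℕ} (hp : 0 < p) (hp16 : p ≤ 16) : ∀ (k : ℕ) (f : ℕ → ℕ), packAt p k f < 16 ^ k
  | 0, _ => by simp [packAt]
  | k + 1, f => by
    have := packAt_lt hp hp16 k fun j => f (j + 1)
    have := Nat.mod_lt (f 0) hp
    rw [packAt, pow_succ]
    omega

theorem get_packAt {p : ℕ} (hp : 0 < p) (hp16 : p ≤ 16) : ∀ (k : ℕ) (f : ℕ → ℕ) (j : ℕ), j < k →
    get (packAt p k f) j = f j % p
  | k + 1, f, 0, _ => get_cons_zero (lt_of_lt_of_le (Nat.mod_lt _ hp) hp16)
  | k + 1, f, j + 1, h => by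
    rw [packAt, get_cons_succ (lt_of_lt_of_le (Nat.mod_lt _ hp) hp16),
      get_packAt hp hp16 k _ j (Nat.lt_of_succ_lt_succ h)]

theorem mapK_eq {β : Type} (f : ℕ → ℕ) : ∀ (B : List ℕ) (k : List ℕ → β), mapK f B k = k (B.map f)
  | [], _ => rfl
  | x :: xs, k => by
    show force (f x) _ = _
    cases hfx : f x with
    | zero => show mapK f xs _ = _; rw [mapK_eq f xs]; simp [hfx]
    | succ n => show mapK f xs _ = _; rw [mapK_eq f xs]; simp [hfx]

theorem force_eq {α : Type} (l : ℕ) (k : ℕ → α) : force l k = k l := by cases l <;> rfl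

theorem support_eq {β : Type} : ∀ (cc B : List ℕ) (k : List ℕ → List ℕ → β),
    ∃ cc' B', support cc B k = k cc' B' ∧ ∀ j, comb cc' B' j = comb cc B j
  | [], _, k => ⟨[], [], by simp [support], fun j => by simp [comb]⟩
  | _ :: _, [], k => ⟨[], [], by simp [support], fun j => by simp [comb]⟩
  | c :: cs, b :: bs, k => by
    by_cases hc : c = 0
    · obtain ⟨a, a', h1, h2⟩ := support_eq cs bs k
      exact ⟨a, a', by rw [support, if_pos hc, h1], fun j => by rw [h2, comb, if_pos hc]⟩
    · obtain ⟨a, a', h1, h2⟩ := support_eq cs bs fun x x' => k (c :: x) (b :: x')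
      exact ⟨c :: a, b :: a', by rw [support, if_neg hc, force_eq, h1],
        fun j => by rw [comb, if_neg hc, comb, if_neg hc, h2]⟩

theorem lin_eq (p n : ℕ) (cc B : List ℕ) : lin p n cc B = packAt p n (comb cc B) := by
  obtain ⟨a, a', h1, h2⟩ := support_eq cc B fun cc' B' => packAt p n (comb cc' B')
  rw [lin, h1, show comb a a' = comb cc B from funext h2]

theorem rowVal_eq_sum {n : ℕ} (l : ℕ) : ∀ row : List (ℕ × ℕ), (∀ e ∈ row, e.1 < n) →
    rowVal l row = ∑ i ∈ Finset.range n, get l i * rowVal (16 ^ i) row
  | [], _ => by simp [rowVal]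
  | e :: row, h => by
    simp only [rowVal, mul_add, Finset.sum_add_distrib, ← rowVal_eq_sum l row fun e' he' => h e' (by simp [he'])]
    congr 1
    rw [Finset.sum_eq_single_of_mem e.1 (Finset.mem_range.2 (h e (by simp))) fun i _ hi => by
      rw [get_pow, if_neg hi, mul_zero, mul_zero]]
    rw [get_pow, if_pos rfl, mul_one, mul_comm]

/-- Canonical vectors. -/
def Canon (p n l : ℕ) : Prop := l < 16 ^ n ∧ ∀ i < n, get l i < p

theorem canon_of_canonB {l : ℕ} (h : canonB m l = true) : Canon m.p m.n l := by
  simp only [canonB, Bool.and_eq_true, List.all_eq_true, decide_eq_true_eq, List.mem_range] at h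
  exact h

theorem wf_iff (h : wf m = true) : 0 < m.p ∧ m.p ≤ 16 ∧
    ∀ o ∈ m.ops ++ m.table, o.length = m.n ∧ ∀ row ∈ o, ∀ e ∈ row, (e : ℕ × ℕ).1 < m.n := by
  simp only [wf, Bool.and_eq_true, List.all_eq_true, decide_eq_true_eq] at h
  exact ⟨h.1.1, h.1.2, fun o ho => ⟨(h.2 o ho).1, (h.2 o ho).2⟩⟩

theorem canon_lin {p n : ℕ} (hp : 0 < p) (hp16 : p ≤ 16) (cc B : List ℕ) : Canon p n (lin p n cc B) :=
  ⟨by rw [lin_eq]; exact packAt_lt hp hp16 _ _, fun i hi => by rw [lin_eq, get_packAt hp hp16 _ _ _ hi]; exact Nat.mod_lt _ hp⟩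

theorem canon_app {p n : ℕ} (hp : 0 < p) (hp16 : p ≤ 16) {o : Op} (ho : o.length = n) (l : ℕ) :
    Canon p n (app p o l) :=
  ⟨ho ▸ app_lt hp hp16 o l, fun i _ => by rw [get_app hp hp16]; exact Nat.mod_lt _ hp⟩

theorem canon_act {p n : ℕ} (hp : 0 < p) (hp16 : p ≤ 16) : ∀ (ops : List Op) (k l : ℕ),
    (∀ o ∈ ops, o.length = n) → Canon p n l → Canon p n (act p ops k l)
  | [], _, _, _, hl => hl
  | o :: os, k, l, h, hl => by
    rw [act, force_eq]
    split_ifs
    · exact canon_act hp hp16 os _ _ (fun o' ho' => h o' (by simp [ho'])) (canon_app hp hp16 (h o (by simp)) l)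
    · exact canon_act hp hp16 os _ _ (fun o' ho' => h o' (by simp [ho'])) hl

theorem canon_pow {p n i : ℕ} (hp : 1 < p) (hi : i < n) : Canon p n (16 ^ i) :=
  ⟨Nat.pow_lt_pow_right (by norm_num) hi, fun j _ => by rw [get_pow]; split_ifs <;> omega⟩

end Arith

section Sound

variable {m} {V : Type*} [AddCommGroup V]

/-- The vector with given coordinates. -/
def toV (b : Fin m.n → V) (l : ℕ) : V := ∑ i : Fin m.n, get l i • b i

variable {b : Fin m.n → V}

theorem toV_pow (i : Fin m.n) : toV b (16 ^ (i : ℕ)) = b i := by
  rw [toV, Finset.sum_eq_single i (fun j _ hj => by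
    rw [get_pow, if_neg (fun h => hj (Fin.ext h.symm)), zero_smul]) (by simp)]
  rw [get_pow, if_pos rfl, one_smul]

theorem toV_zero : toV b 0 = 0 := Finset.sum_eq_zero fun i _ => by rw [get_zero_left, zero_smul]

theorem nsmul_mod {hp : ∀ x : V, m.p • x = 0} (a : ℕ) (x : V) : (a % m.p) • x = a • x := by
  conv_rhs => rw [← Nat.div_add_mod a m.p, add_smul, mul_smul, hp, zero_add]

theorem toV_packAt (hp : ∀ x : V, m.p • x = 0) (h0 : 0 < m.p) (h16 : m.p ≤ 16) (f : ℕ → ℕ) :
    toV b (packAt m.p m.n f) = ∑ i : Fin m.n, f i • b i :=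
  Finset.sum_congr rfl fun i _ => by rw [get_packAt h0 h16 _ _ _ i.2, nsmul_mod (hp := hp)]

theorem toV_comb (cc : List ℕ) : ∀ B : List ℕ,
    ∑ i : Fin m.n, comb cc B i • b i = ((List.zip cc B).map fun x => x.1 • toV b x.2).sum := by
  induction cc with
  | nil => intro B; simp [comb]
  | cons c cs ih =>
    intro B
    cases B with
    | nil => simp [comb]
    | cons x bs =>
      rw [List.zip_cons_cons, List.map_cons, List.sum_cons, ← ih bs]
      simp only [toV, Finset.smul_sum, smul_smul, ← Finset.sum_add_distrib, ← add_smul]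
      refine Finset.sum_congr rfl fun i _ => ?_
      rw [comb]
      split_ifs with h
      · rw [h, zero_mul, zero_add]
      · rfl

theorem toV_lin (hp : ∀ x : V, m.p • x = 0) (h0 : 0 < m.p) (h16 : m.p ≤ 16) (cc B : List ℕ) :
    toV b (lin m.p m.n cc B) = ((List.zip cc B).map fun x => x.1 • toV b x.2).sum := by
  rw [lin_eq, toV_packAt hp h0 h16, toV_comb]

theorem map_lin (hp : ∀ x : V, m.p • x = 0) (h0 : 0 < m.p) (h16 : m.p ≤ 16) (a : V →+ V) (cc : List ℕ)
    {B B' : List ℕ} (hB : List.Forall₂ (fun x y => a (toV b x) = toV b y) B B') :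
    a (toV b (lin m.p m.n cc B)) = toV b (lin m.p m.n cc B') := by
  rw [toV_lin hp h0 h16, toV_lin hp h0 h16]
  induction hB generalizing cc with
  | nil => simp
  | @cons x y xs ys hxy _ ih =>
    cases cc with
    | nil => simp
    | cons c cs => simp only [List.zip_cons_cons, List.map_cons, List.sum_cons, map_add, map_nsmul, hxy, ih cs]

/-- A map acting on the basis as an operator acts on all canonical vectors as it. -/
theorem realises_of_basis (hp : ∀ x : V, m.p • x = 0) (h0 : 0 < m.p) (h16 : m.p ≤ 16) {o : Op}
    (ho : o.length = m.n) (hrow : ∀ row ∈ o, ∀ e ∈ row, (e : ℕ × ℕ).1 < m.n) (f : V →+ V)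
    (hf : ∀ i : Fin m.n, f (b i) = toV b (app m.p o (16 ^ (i : ℕ)))) (l : ℕ) :
    f (toV b l) = toV b (app m.p o l) := by
  simp only [toV, map_sum, map_nsmul, hf, get_app h0 h16, nsmul_mod (hp := hp), Finset.smul_sum, smul_smul]
  rw [Finset.sum_comm]
  refine Finset.sum_congr rfl fun j _ => ?_
  have hlt : (j : ℕ) < o.length := ho.symm ▸ j.2
  have hmem : o.getD j [] ∈ o := by
    rw [List.getD_eq_getElem o [] hlt]; exact List.getElem_mem hlt
  rw [rowVal_eq_sum (n := m.n) l _ (hrow _ hmem), Finset.sum_range, Finset.sum_smul]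

variable (b) in
/-- The map normalises the group of products. -/
def Normalises (a : V →+ V) : Prop :=
  ∀ o ∈ m.table, ∃ o' ∈ m.table, ∀ l l', Canon m.p m.n l → Canon m.p m.n l' → a (toV b l) = toV b l' →
    a (toV b (app m.p o l)) = toV b (app m.p o' l')

theorem sound_aux (hp : ∀ x : V, m.p • x = 0) (hw : wf m = true)
    (hinj : ∀ l l', Canon m.p m.n l → Canon m.p m.n l' → toV b l = toV b l' → l = l')
    {v w : ℕ} (hv : Canon m.p m.n v) (hwc : Canon m.p m.n w) {a : V →+ V} (hav : a (toV b v) = toV b v)
    (haw : a (toV b w) = toV b w) (hnorm : Normalises b a) (F : List ℕ → Bool) :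
    ∀ (levels : List (List Con)) (gens gs hs : List Op) (Bg B : List ℕ),
      goodGens m v w levels gens gs Bg = true → search m F levels hs B = true →
      List.Forall₂ (fun g h => ∀ l l', Canon m.p m.n l → Canon m.p m.n l' → a (toV b l) = toV b l' →
        a (toV b (app m.p g l)) = toV b (app m.p h l')) gs hs →
      (∀ o ∈ gs ++ hs, o ∈ m.table) →
      List.Forall₂ (fun x y => Canon m.p m.n x ∧ Canon m.p m.n y ∧ a (toV b x) = toV b y) Bg B →
      ∃ B', F B' = true ∧
        List.Forall₂ (fun x y => Canon m.p m.n x ∧ Canon m.p m.n y ∧ a (toV b x) = toV b y)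
          (gens.foldl (grow m) Bg) B' := by
  obtain ⟨h0, h16, hops⟩ := wf_iff hw
  have hlen : ∀ o ∈ m.table, o.length = m.n := fun o ho => (hops o (List.mem_append_right _ ho)).1
  intro levels
  induction levels with
  | nil =>
    intro gens gs hs Bg B hg hsr _ _ hB
    cases gens with
    | nil => exact ⟨B, hsr, hB⟩
    | cons g gens => exact absurd hg (by simp [goodGens])
  | cons L rest ih =>
    intro gens gs hs Bg B hg hsr hgs hmem hB
    cases gens with
    | nil => exact absurd hg (by simp [goodGens])
    | cons g gens =>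
      simp only [goodGens, Bool.and_eq_true, decide_eq_true_eq, List.contains_iff_mem, List.all_eq_true, Bool.or_eq_true,
        beq_iff_eq] at hg
      obtain ⟨⟨hgsz, hL⟩, hrest⟩ := hg
      obtain ⟨h, hh, hrel⟩ := hnorm g hgsz
      have hgs' := List.rel_append hgs (List.Forall₂.cons hrel List.Forall₂.nil)
      have hB' : List.Forall₂ (fun x y => Canon m.p m.n x ∧ Canon m.p m.n y ∧ a (toV b x) = toV b y)
          (grow m Bg g) (grow m B h) :=
        List.rel_append hB (List.forall₂_map_left_iff.2 (List.forall₂_map_right_iff.2 (hB.imp fun x y hxy =>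
          ⟨canon_app h0 h16 (hlen g hgsz) x, canon_app h0 h16 (hlen h hh) y,
            hrel x y hxy.1 hxy.2.1 hxy.2.2⟩)))
      simp only [search, mapK_eq, List.all_eq_true, Bool.or_eq_true] at hsr
      have hmg : ∀ o ∈ gs ++ [g], o ∈ m.table := fun o ho => by
        rcases List.mem_append.1 ho with h' | h'
        exacts [hmem o (List.mem_append_left _ h'), List.mem_singleton.1 h' ▸ hgsz]
      have hmh : ∀ o ∈ hs ++ [h], o ∈ m.table := fun o ho => by
        rcases List.mem_append.1 ho with h' | h'
        exacts [hmem o (List.mem_append_right _ h'), List.mem_singleton.1 h' ▸ hh]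
      rcases hsr h hh with hfail | hok
      · exfalso
        rw [Bool.not_eq_true', List.all_eq_false] at hfail
        obtain ⟨c, hc, hcf⟩ := hfail
        obtain ⟨⟨hstart, hword⟩, hholds⟩ := hL c hc
        apply hcf
        simp only [holds, beq_iff_eq] at hholds ⊢
        have hs0 : Canon m.p m.n c.start ∧ a (toV b c.start) = toV b c.start := by
          rcases hstart with e | e <;> rw [e]
          exacts [⟨hv, hav⟩, ⟨hwc, haw⟩]
        have hfold : ∀ (wd : List ℕ) (x y : ℕ), (∀ t ∈ wd, t < (gs ++ [g]).length) →
            Canon m.p m.n x → Canon m.p m.n y → a (toV b x) = toV b y →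
            Canon m.p m.n (wd.foldl (fun l t => app m.p ((gs ++ [g]).getD t []) l) x) ∧
              Canon m.p m.n (wd.foldl (fun l t => app m.p ((hs ++ [h]).getD t []) l) y) ∧
              a (toV b (wd.foldl (fun l t => app m.p ((gs ++ [g]).getD t []) l) x)) =
                toV b (wd.foldl (fun l t => app m.p ((hs ++ [h]).getD t []) l) y) := by
          intro wd
          induction wd with
          | nil => exact fun x y _ hx hy hxy => ⟨hx, hy, hxy⟩
          | cons t wd ihw =>
            intro x y ht hx hy hxy
            simp only [List.foldl_cons]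
            have htl := ht t (by simp)
            have htl' : t < (hs ++ [h]).length := hgs'.length_eq ▸ htl
            rw [List.getD_eq_getElem _ _ htl, List.getD_eq_getElem _ _ htl']
            exact ihw _ _ (fun t' ht' => ht t' (by simp [ht']))
              (canon_app h0 h16 (hlen _ (hmg _ (List.getElem_mem htl))) x)
              (canon_app h0 h16 (hlen _ (hmh _ (List.getElem_mem htl'))) y)
              ((List.forall₂_iff_get.1 hgs').2 t htl htl' x y hx hy hxy)
        have hh' := hfold c.word c.start c.start (fun t ht => by simpa using hword t ht) hs0.1 hs0.1 hs0.2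
        rw [hholds] at hh'
        refine hinj _ _ hh'.2.1 (canon_lin h0 h16 _ _) ?_
        rw [← hh'.2.2]
        exact map_lin hp h0 h16 a c.coef (hB'.imp fun _ _ hxy => hxy.2.2)
      · exact ih gens _ _ _ _ hrest hok hgs'
          (fun o ho => (List.mem_append.1 ho).elim (hmg o) (hmh o)) hB'

theorem matrix_of_basis (hp : ∀ x : V, m.p • x = 0) (h0 : 0 < m.p) (h16 : m.p ≤ 16) {a : V →+ V} {M : List ℕ}
    (hM : ∀ i : Fin m.n, a (b i) = toV b (M.getD i 0)) (l : ℕ) : a (toV b l) = toV b (mat m M l) := by
  rw [mat, toV_lin hp h0 h16]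
  have key : ((List.zip ((List.range m.n).map (get l)) M).map fun x => x.1 • toV b x.2).sum =
      ∑ i : Fin m.n, get l i • toV b (M.getD i 0) := by
    have gen : ∀ (n : ℕ) (g : ℕ → ℕ) (M : List ℕ),
        ((List.zip ((List.range n).map g) M).map fun x => x.1 • toV b x.2).sum =
          ∑ i ∈ Finset.range n, g i • toV b (M.getD i 0) := by
      intro n
      induction n with
      | zero => intro g M; simp
      | succ n ihn =>
        intro g M
        rw [Finset.sum_range_succ', List.range_succ_eq_map]
        cases M with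
        | nil => simp [List.getD, toV_zero]
        | cons x M =>
          simp only [List.map_cons, List.map_map, List.zip_cons_cons, List.sum_cons]
          rw [ihn (g ∘ Nat.succ) M, add_comm]
          simp [List.getD]
    rw [gen, Finset.sum_range]
  rw [key, toV, map_sum]
  simp only [map_nsmul, hM]

/-- Soundness: a normalising map fixing the two vectors is the identity or one of the listed solutions. -/
theorem sound (hp : ∀ x : V, m.p • x = 0) (hw : wf m = true)
    (hinj : ∀ l l', Canon m.p m.n l → Canon m.p m.n l' → toV b l = toV b l' → l = l') (d : Data)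
    {c : ℕ} (hall : checkAll m d c = true) (hv : Canon m.p m.n d.v) (hwc : Canon m.p m.n d.w) {a : V →+ V}
    (hav : a (toV b d.v) = toV b d.v) (haw : a (toV b d.w) = toV b d.w) (hnorm : Normalises b a)
    (hker : ∀ l, Canon m.p m.n l → a (toV b l) = 0 → toV b l = 0) :
    ∃ M ∈ one m :: d.sols, ∀ i : Fin m.n, a (b i) = toV b (M.getD i 0) := by
  obtain ⟨h0, h16, hops⟩ := wf_iff hw
  simp only [checkAll, check, mapK_eq, List.map_id, Bool.and_eq_true, decide_eq_true_eq] at hall
  obtain ⟨⟨⟨⟨⟨⟨hgood, hkills⟩, hunits⟩, hsols⟩, hne⟩, hlenT⟩, hparts⟩ := hall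
  have hsearch : search m (fin m d (d.gens.foldl (grow m) [d.v])) d.levels [] [d.v] = true := by
    obtain ⟨L, rest, hlev⟩ := List.exists_cons_of_ne_nil hne
    simp only [hlev, search, mapK_eq, List.all_eq_true, List.nil_append]
    intro h hh
    obtain ⟨i, hi, rfl⟩ := List.getElem_of_mem hh
    have hpart := (List.all_eq_true.1 hparts) (i / 16) (List.mem_range.2 (by omega))
    simp only [checkPart, mapK_eq, List.map_id, hlev, List.headD_cons, List.tail_cons, List.all_eq_true] at hpart
    refine hpart _ (List.mem_iff_getElem.2 ⟨i % 16, ?_, ?_⟩)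
    · simp only [List.length_take, List.length_drop]; omega
    · simp only [List.getElem_take, List.getElem_drop, show 16 * (i / 16) + i % 16 = i from Nat.div_add_mod i 16]
  obtain ⟨B', hfin, hrel⟩ := sound_aux hp hw hinj hv hwc hav haw hnorm _ _ _ [] [] _ _ hgood hsearch
    List.Forall₂.nil (by simp) (List.Forall₂.cons ⟨hv, hv, hav⟩ List.Forall₂.nil)
  have hmap : ∀ cc, a (toV b (lin m.p m.n cc (d.gens.foldl (grow m) [d.v]))) = toV b (lin m.p m.n cc B') :=
    fun cc => map_lin hp h0 h16 a cc (hrel.imp fun _ _ h => h.2.2)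
  simp only [fin, Bool.or_eq_true, List.any_eq_true, beq_iff_eq] at hfin
  simp only [List.all_eq_true, List.mem_range, beq_iff_eq, Bool.not_eq_true', beq_eq_false_iff_ne] at hunits hsols hkills
  rcases hfin with ⟨M, hM, hB'⟩ | ⟨c, hc, hc0⟩
  · refine ⟨M, hM, fun i => ?_⟩
    rw [← toV_pow (b := b) i, ← hunits i i.2, hmap, hB', hsols M hM i i.2]
  · exfalso
    refine hkills c hc (hinj _ _ (canon_lin h0 h16 _ _) ⟨by positivity, fun i _ => by rw [get_zero_left]; exact h0⟩ ?_)
    rw [toV_zero]
    refine hker _ (canon_lin h0 h16 _ _) ?_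
    rw [hmap, hc0, toV_zero]

end Sound

end Cfsg.Lib.CoprimeBase.Cert
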