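import Cfsg.Agent.Lib.SolvBase.Main
import Mathlib.Tactic.Module
import Mathlib.Tactic.LinearCombination

/-!
Three colours distinguish a soluble permutation group of order prime to three.
-/

set_option autoImplicit false
set_option linter.unusedSectionVars false
set_option linter.unusedSimpArgs false
set_option linter.style.haveILetI false

namespace Cfsg.Lib.CoprimeBase

open MulAction Cfsg.Lib.OddBase
open scoped Pointwise

universe u v

/-- Only elements acting trivially preserve the colouring. -/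
def Col3Regular (G : Type u) {Ω : Type v} [Group G] [MulAction G Ω] (f : Ω → Fin 3) : Prop :=
  ∀ g : G, (∀ x, f (g • x) = f x) → ∀ x : Ω, g • x = x

/-- A colouring with three colours, for sets smaller than the bound. -/
def Col3Below (n : ℕ) : Prop :=
  ∀ (G Ω : Type v) [Group G] [Finite G] [Group.IsSolvable G] [Finite Ω] [MulAction G Ω],
    Nat.card Ω < n → ¬ 3 ∣ Nat.card G → ∃ f : Ω → Fin 3, Col3Regular G f

theorem image3_add_eq_self : ∀ S : Finset (Fin 3), ∀ d : Fin 3, d ≠ 0 →
    S.image (fun x => x + d) = S → S = ∅ ∨ S = Finset.univ := by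
  decide

theorem three_colourings {H : Type u} [Group H] [Finite H] (h3 : ¬ 3 ∣ Nat.card H) {X : Type v} [Finite X]
    [Nonempty X] [MulAction H X] {f : X → Fin 3} (hf : Col3Regular H f) :
    ∃ F : Fin 3 → X → Fin 3, (∀ i, Col3Regular H (F i)) ∧
      ∀ i j, ∀ h : H, (∀ x, F i (h • x) = F j x) → i = j := by
  classical
  haveI := Fintype.ofFinite X
  set S := Finset.univ.image f with hS
  refine ⟨fun i x => f x + i, fun i g hg => hf g fun x => add_right_cancel (hg x), fun i j h hh => ?_⟩
  by_contra hij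
  have hfh : ∀ x, f (h • x) = f x + (j - i) := fun x => by
    have := hh x
    rw [← eq_sub_iff_add_eq] at this
    rw [this, add_sub_assoc]
  have h1 : S.image (fun c => c + (j - i)) = S := by
    rw [hS, Finset.image_image]
    ext c
    simp only [Finset.mem_image, Finset.mem_univ, true_and, Function.comp_apply, ← hfh]
    exact ⟨fun ⟨x, hx⟩ => ⟨h • x, hx⟩, fun ⟨x, hx⟩ => ⟨h⁻¹ • x, by rw [smul_inv_smul]; exact hx⟩⟩
  -- the translation would have order three
  have hpow : ∀ (n : ℕ) (x : X), f (h ^ n • x) = f x + n • (j - i) := fun n => by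
    induction n with
    | zero => intro x; simp
    | succ n ih =>
      intro x
      rw [pow_succ', mul_smul, hfh, ih, succ_nsmul, add_assoc]
  obtain ⟨x⟩ := ‹Nonempty X›
  have h2 := hpow (Nat.card H) x
  rw [pow_card_eq_one', one_smul, left_eq_add] at h2
  haveI := Fact.mk Nat.prime_three
  have hd : addOrderOf (j - i) = 3 := addOrderOf_eq_prime
    ((by decide : ∀ d : Fin 3, 3 • d = 0) _) (sub_ne_zero.2 (Ne.symm hij))
  exact h3 (hd ▸ addOrderOf_dvd_iff_nsmul_eq_zero.2 h2)

section Primitive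

variable {H M : Type v} [Group H] [Finite H] [AddCommGroup M] [DistribMulAction H M]

theorem eq_one_of_order_six (h3 : ¬ 3 ∣ Nat.card H) {x y z : M}
    (hreg : ∀ h : H, h • x = x → h • y = y → h • z = z → h = 1) (g : H)
    (hx : g ^ 6 • x = x) (hy : g ^ 6 • y = y) (hz : g ^ 6 • z = z) : g ^ 2 = 1 := by
  have h6 := hreg _ hx hy hz
  have hd : orderOf g ∣ 6 := orderOf_dvd_of_pow_eq_one h6
  refine orderOf_dvd_iff_pow_eq_one.1 ?_
  have hn3 : ¬ 3 ∣ orderOf g := fun h => h3 (h.trans (orderOf_dvd_natCard g))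
  exact ((Nat.prime_three.coprime_iff_not_dvd.2 hn3).symm.dvd_mul_left).1 (show orderOf g ∣ 3 * 2 from hd)

theorem not_fixed_two {x : M} {g : H} (h : g ^ 2 = 1) : g • g • x = x := by
  rw [smul_smul, ← pow_two, h, one_smul]

/-- An element preserving three regular points is one of three transpositions. -/
theorem transposition_of_preserved (h3 : ¬ 3 ∣ Nat.card H) {x y z : M} (hxy : x ≠ y) (hxz : x ≠ z) (hyz : y ≠ z)
    (hreg : ∀ h : H, h • x = x → h • y = y → h • z = z → h = 1) {h : H} (h1 : h ≠ 1)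
    (hT : ∀ w ∈ ({x, y, z} : Set M), h • w ∈ ({x, y, z} : Set M)) :
    (h • x = x ∧ h • y = z ∧ h • z = y) ∨ (h • y = y ∧ h • x = z ∧ h • z = x) ∨
      (h • z = z ∧ h • x = y ∧ h • y = x) := by
  have hx := hT x (by simp)
  have hy := hT y (by simp)
  have hz := hT z (by simp)
  simp only [Set.mem_insert_iff, Set.mem_singleton_iff] at hx hy hz
  have hi := MulAction.injective (β := M) h
  have hcyc : ∀ a b c : M, h • a = b → h • b = c → h • c = a → h ^ 3 • a = a := fun a b c e1 e2 e3 => by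
    rw [pow_succ, pow_two, mul_smul, mul_smul, e1, e2, e3]
  have hnc : ¬ (h ^ 3 • x = x ∧ h ^ 3 • y = y ∧ h ^ 3 • z = z) := fun ⟨a, b, c⟩ => by
    have h33 := hreg _ a b c
    refine h1 (orderOf_eq_one_iff.1 ?_)
    rcases (Nat.dvd_prime Nat.prime_three).1 (orderOf_dvd_of_pow_eq_one h33) with e | e
    · exact e
    · exact absurd (e ▸ orderOf_dvd_natCard h) h3
  rcases hx with ex | ex | ex <;> rcases hy with ey | ey | ey <;> rcases hz with ez | ez | ez <;>
    first
      | exact absurd (hi (ex.trans ey.symm)) hxy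
      | exact absurd (hi (ex.trans ez.symm)) hxz
      | exact absurd (hi (ey.trans ez.symm)) hyz
      | exact absurd (hreg h ex ey ez) h1
      | exact Or.inl ⟨ex, ey, ez⟩
      | exact Or.inr (Or.inl ⟨ey, ex, ez⟩)
      | exact Or.inr (Or.inr ⟨ez, ex, ey⟩)
      | exact (hnc ⟨hcyc x y z ex ey ez, hcyc y z x ey ez ex, hcyc z x y ez ex ey⟩).elim
      | exact (hnc ⟨hcyc x z y ex ez ey, hcyc y x z ey ex ez, hcyc z y x ez ey ex⟩).elim

/-- A set of at most three vectors with trivial stabiliser, from a regular pair. -/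
theorem marked_of_pair (h3 : ¬ 3 ∣ Nat.card H) {a b : M} (ha : a ≠ 0) (hb : b ≠ 0) (hab : a ≠ b)
    (hreg : ∀ h : H, h • a = a → h • b = b → h = 1) :
    ∃ α : Set M, (0 : M) ∉ α ∧ ∀ h : H, (∀ w, h • w ∈ α ↔ w ∈ α) → h = 1 := by
  by_cases hsum : a + b = 0
  · refine ⟨{a}, fun h => ha (Set.mem_singleton_iff.1 h).symm, fun h hh => ?_⟩
    have h1 : h • a = a := (hh a).2 rfl
    exact hreg h h1 (by rw [eq_neg_of_add_eq_zero_right hsum, smul_neg, h1])
  by_contra hnone
  push Not at hnone
  have swap : ∀ x y : M, x ≠ 0 → y ≠ 0 → (∀ h : H, h • x = x → h • y = y → h = 1) →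
      ∃ h : H, h • x = y ∧ h • y = x := by
    intro x y hx hy hxy
    obtain ⟨h, hh, h1⟩ := hnone {x, y} (by simp [hx.symm, hy.symm])
    have ex := (hh x).2 (by simp)
    have ey := (hh y).2 (by simp)
    simp only [Set.mem_insert_iff, Set.mem_singleton_iff] at ex ey
    rcases ex with ex | ex <;> rcases ey with ey | ey
    · have : x = y := MulAction.injective h (ex.trans ey.symm)
      exact absurd (hxy h ex (this ▸ ex)) h1
    · exact absurd (hxy h ex ey) h1
    · exact ⟨h, ex, ey⟩
    · have : x = y := MulAction.injective h (ex.trans ey.symm)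
      exact absurd (hxy h (this.symm ▸ ex) ey) h1
  obtain ⟨h, ha', hb'⟩ := swap a b ha hb hreg
  obtain ⟨k, hka, hks⟩ := swap a (a + b) ha hsum (fun g g1 g2 => hreg g g1 (by
    rw [smul_add, g1] at g2
    exact add_left_cancel g2))
  have hkb : k • b = -b := by
    rw [smul_add, hka] at hks
    calc k • b = (a + b + k • b) - (a + b) := by abel
      _ = _ := by rw [hks]; abel
  set g := h * k with hg
  have g1 : g • a = a + b := by rw [hg, mul_smul, hka, smul_add, ha', hb', add_comm]
  have g2 : g • b = -a := by rw [hg, mul_smul, hkb, smul_neg, hb']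
  have hsq := eq_one_of_order_six h3 (z := (0 : M)) (fun h e1 e2 _ => hreg h e1 e2) g
    (by simp only [pow_succ, pow_zero, one_mul, mul_smul, smul_add, smul_neg, g1, g2]; abel)
    (by simp only [pow_succ, pow_zero, one_mul, mul_smul, smul_add, smul_neg, g1, g2]; abel)
    (smul_zero _)
  have := not_fixed_two (x := a) hsq
  rw [g1, smul_add, g1, g2] at this
  exact hab (by rw [← this]; abel)

/-- A set of at most three vectors with trivial stabiliser, from a regular triple. -/
theorem marked_of_triple (h3 : ¬ 3 ∣ Nat.card H) {a b c : M}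
    (hreg : ∀ h : H, h • a = a → h • b = b → h • c = c → h = 1)
    (hno : ∀ x y : M, ¬ ∀ h : H, h • x = x → h • y = y → h = 1) :
    ∃ α : Set M, (0 : M) ∉ α ∧ ∀ h : H, (∀ w, h • w ∈ α ↔ w ∈ α) → h = 1 := by
  by_contra hnone
  push Not at hnone
  have tr : ∀ x y z : M, (∀ h : H, h • x = x → h • y = y → h • z = z → h = 1) →
      ∃ h : H, (h • x = x ∧ h • y = z ∧ h • z = y) ∨ (h • y = y ∧ h • x = z ∧ h • z = x) ∨
        (h • z = z ∧ h • x = y ∧ h • y = x) := by
    intro x y z hxyz
    have hxy : x ≠ y := fun e => hno x z fun h e1 e2 => hxyz h e1 (e ▸ e1) e2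
    have hxz : x ≠ z := fun e => hno x y fun h e1 e2 => hxyz h e1 e2 (e ▸ e1)
    have hyz : y ≠ z := fun e => hno x y fun h e1 e2 => hxyz h e1 e2 (e ▸ e2)
    have hx : x ≠ 0 := fun e => hno y z fun h e1 e2 => hxyz h (e ▸ smul_zero h) e1 e2
    have hy : y ≠ 0 := fun e => hno x z fun h e1 e2 => hxyz h e1 (e ▸ smul_zero h) e2
    have hz : z ≠ 0 := fun e => hno x y fun h e1 e2 => hxyz h e1 e2 (e ▸ smul_zero h)
    obtain ⟨h, hh, h1⟩ := hnone {x, y, z} (by simp [hx.symm, hy.symm, hz.symm])
    exact ⟨h, transposition_of_preserved h3 hxy hxz hyz hxyz h1 fun w hw => (hh w).2 hw⟩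
  -- relabel so that the first transposition fixes `a`
  suffices main : ∀ a b c : M, (∀ h : H, h • a = a → h • b = b → h • c = c → h = 1) →
      ∀ t : H, t • a = a → t • b = c → t • c = b → False by
    obtain ⟨t, ⟨e1, e2, e3⟩ | ⟨e1, e2, e3⟩ | ⟨e1, e2, e3⟩⟩ := tr a b c hreg
    · exact main a b c hreg t e1 e2 e3
    · exact main b a c (fun h x y z => hreg h y x z) t e1 e2 e3
    · exact main c a b (fun h x y z => hreg h y z x) t e1 e2 e3
  intro a b c hreg t0 t0a t0b t0c
  have hab : a ≠ b := fun e => hno a c fun h e1 e2 => hreg h e1 (e ▸ e1) e2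
  have hac : a ≠ c := fun e => hno a b fun h e1 e2 => hreg h e1 e2 (e ▸ e1)
  have hbc : b ≠ c := fun e => hno a b fun h e1 e2 => hreg h e1 e2 (e ▸ e2)
  have hreg' : ∀ z : M, (∀ h : H, h • b = b → h • c = c → h • z = z → h • a = a) →
      ∀ h : H, h • c = c → h • (b + c) = b + c → h • z = z → h = 1 := fun z hz h e1 e2 e3 => by
    have eb : h • b = b := by rw [smul_add, e1] at e2; exact add_right_cancel e2
    exact hreg h (hz h eb e1 e3) eb e1
  have kill : ∀ (s t : H) (w : M), (s * t) ^ 6 • a = a → (s * t) ^ 6 • b = b → (s * t) ^ 6 • c = c →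
      (s * t) • (s * t) • w ≠ w → False := fun s t w e1 e2 e3 e4 =>
    e4 (not_fixed_two (eq_one_of_order_six h3 hreg (s * t) e1 e2 e3))
  obtain ⟨t1, h1⟩ := tr c (b + c) (a + c) (hreg' _ fun h eb ec e => by
    rw [smul_add, ec] at e; exact add_right_cancel e)
  obtain ⟨t2, h2⟩ := tr c (b + c) a (hreg' _ fun h _ _ e => e)
  obtain ⟨t4, h4⟩ := tr c (b + c) (a + b + c) (hreg' _ fun h eb ec e => by
    rw [smul_add, smul_add, eb, ec, add_assoc, add_assoc] at e; exact add_right_cancel e)
  -- linear relations among the three vectors are impossible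
  have six : ∀ (g : H) (w : M), g • g • g • g • g • g • w = w → g ^ 6 • w = w := fun g w e => by
    simpa [pow_succ, mul_smul] using e
  have noc : -c - b - b ≠ 0 := fun e => hno a b fun h ea eb => hreg h ea eb (by
    rw [show c = -b - b by linear_combination (norm := abel) (-1 : ℤ) • e, smul_sub, smul_neg, eb])
  have nob : -a - a - b - c ≠ 0 := fun e => hno a c fun h ea ec => hreg h ea (by
    rw [show b = -a - a - c by linear_combination (norm := abel) (-1 : ℤ) • e, smul_sub, smul_sub, smul_neg, ea, ec]) ec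
  have noca : c - a ≠ 0 := fun e => hac (sub_eq_zero.1 e).symm
  have noba : -b - a ≠ 0 := fun e => hno a c fun h ea ec => hreg h ea (by
    rw [show b = -a by linear_combination (norm := abel) (-1 : ℤ) • e, smul_neg, ea]) ec
  have nobb : b - a ≠ 0 := fun e => hab (sub_eq_zero.1 e).symm
  -- the survivors of the first two steps
  obtain ⟨t1a, t1b, t1c⟩ : t1 • a = -a ∧ t1 • b = b - a ∧ t1 • c = a + c := by
    rcases h1 with ⟨e1, e2, e3⟩ | ⟨e1, e2, e3⟩ | ⟨e1, e2, e3⟩ <;>
      simp only [smul_add, smul_sub, smul_neg] at e1 e2 e3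
    · exfalso
      rw [e1] at e2 e3
      have fb : t1 • b = a := add_right_cancel e2
      have fa : t1 • a = b := add_right_cancel e3
      have ga : (t0 * t1) • a = c := by rw [mul_smul, fa, t0b]
      have gb : (t0 * t1) • b = a := by rw [mul_smul, fb, t0a]
      have gc : (t0 * t1) • c = b := by rw [mul_smul, e1, t0c]
      refine kill t0 t1 a (six _ _ ?_) (six _ _ ?_) (six _ _ ?_) ?_
      iterate 3 simp only [ga, gb, gc]
      rw [ga, gc]; exact hab.symm
    · rw [e2] at e1 e3
      refine ⟨?_, ?_, e2⟩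
      · calc t1 • a = t1 • a + (a + c) - (a + c) := by abel
          _ = _ := by rw [e3]; abel
      · calc t1 • b = t1 • b + (a + c) - (a + c) := by abel
          _ = _ := by rw [e1]; abel
    · exfalso
      rw [e2] at e1 e3
      have fb : t1 • b = -b := by
        calc t1 • b = t1 • b + (b + c) - (b + c) := by abel
          _ = _ := by rw [e3]; abel
      have fa : t1 • a = a - b := by
        calc t1 • a = t1 • a + (b + c) - (b + c) := by abel
          _ = _ := by rw [e1]; abel
      have ga : (t0 * t1) • a = a - c := by rw [mul_smul, fa, smul_sub, t0a, t0b]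
      have gb : (t0 * t1) • b = -c := by rw [mul_smul, fb, smul_neg, t0b]
      have gc : (t0 * t1) • c = b + c := by rw [mul_smul, e2, smul_add, t0b, t0c, add_comm]
      refine kill t0 t1 b (six _ _ ?_) (six _ _ ?_) (six _ _ ?_) fun e => noc ?_
      all_goals try (simp only [smul_add, smul_sub, smul_neg, ga, gb, gc] <;> abel)
      rw [gb, smul_neg, gc] at e
      linear_combination (norm := abel) e
  obtain ⟨t2a, t2b, t2c⟩ : t2 • a = b + c ∧ t2 • b = a - c ∧ t2 • c = c := by
    rcases h2 with ⟨e1, e2, e3⟩ | ⟨e1, e2, e3⟩ | ⟨e1, e2, e3⟩ <;>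
      simp only [smul_add, smul_sub, smul_neg] at e1 e2 e3
    · rw [e1] at e2
      exact ⟨e3, eq_sub_of_add_eq e2, e1⟩
    · exfalso
      rw [e2] at e1
      have fb : t2 • b = b + c - a := eq_sub_of_add_eq e1
      have ga : (t1 * t2) • a = a + c := by rw [mul_smul, e3, t1c]
      have gb : (t1 * t2) • b = a + b + c := by rw [mul_smul, fb, smul_sub, smul_add, t1a, t1b, t1c]; abel
      have gc : (t1 * t2) • c = -a := by rw [mul_smul, e2, t1a]
      refine kill t1 t2 a (six _ _ ?_) (six _ _ ?_) (six _ _ ?_) fun e => noca ?_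
      all_goals try (simp only [smul_add, smul_sub, smul_neg, ga, gb, gc] <;> abel)
      rw [ga, smul_add, ga, gc] at e
      linear_combination (norm := abel) e
    · exfalso
      rw [e2] at e3
      have fb : t2 • b = -b := by
        calc t2 • b = t2 • b + (b + c) - (b + c) := by abel
          _ = _ := by rw [e3]; abel
      have ga : (t0 * t2) • a = a := by rw [mul_smul, e1, t0a]
      have gb : (t0 * t2) • b = -c := by rw [mul_smul, fb, smul_neg, t0b]
      have gc : (t0 * t2) • c = b + c := by rw [mul_smul, e2, smul_add, t0b, t0c, add_comm]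
      refine kill t0 t2 b (six _ _ ?_) (six _ _ ?_) (six _ _ ?_) fun e => noc ?_
      all_goals try (simp only [smul_add, smul_sub, smul_neg, ga, gb, gc] <;> abel)
      rw [gb, smul_neg, gc] at e
      linear_combination (norm := abel) e
  rcases h4 with ⟨e1, e2, e3⟩ | ⟨e1, e2, e3⟩ | ⟨e1, e2, e3⟩ <;>
    simp only [smul_add, smul_sub, smul_neg] at e1 e2 e3
  · rw [e1] at e2 e3
    have fb : t4 • b = a + b := add_right_cancel e2
    have fa : t4 • a = -a := by
      rw [fb] at e3
      calc t4 • a = t4 • a + (a + b) + c - (a + b + c) := by abel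
        _ = _ := by rw [e3]; abel
    have ga : (t2 * t4) • a = -b - c := by rw [mul_smul, fa, smul_neg, t2a]; abel
    have gb : (t2 * t4) • b = a + b := by rw [mul_smul, fb, smul_add, t2a, t2b]; abel
    have gc : (t2 * t4) • c = c := by rw [mul_smul, e1, t2c]
    refine kill t2 t4 a (six _ _ ?_) (six _ _ ?_) (six _ _ ?_) fun e => nob ?_
    all_goals try (simp only [smul_add, smul_sub, smul_neg, ga, gb, gc] <;> abel)
    rw [ga, smul_sub, smul_neg, gb, gc] at e
    linear_combination (norm := abel) e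
  · rw [e2] at e1 e3
    have fb : t4 • b = -a := by
      calc t4 • b = t4 • b + (a + b + c) - (a + b + c) := by abel
        _ = _ := by rw [e1]; abel
    have fa : t4 • a = -b := by
      rw [fb] at e3
      calc t4 • a = t4 • a + -a + (a + b + c) - (b + c) := by abel
        _ = _ := by rw [e3]; abel
    have ga : (t1 * t4) • a = a - b := by rw [mul_smul, fa, smul_neg, t1b]; abel
    have gb : (t1 * t4) • b = a := by rw [mul_smul, fb, smul_neg, t1a]; abel
    have gc : (t1 * t4) • c = b + c - a := by rw [mul_smul, e2, smul_add, smul_add, t1a, t1b, t1c]; abel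
    refine kill t1 t4 a (six _ _ ?_) (six _ _ ?_) (six _ _ ?_) fun e => noba ?_
    all_goals try (simp only [smul_add, smul_sub, smul_neg, ga, gb, gc] <;> abel)
    rw [ga, smul_sub, ga, gb] at e
    linear_combination (norm := abel) e
  · rw [e2] at e1 e3
    have fb : t4 • b = -b := by
      calc t4 • b = t4 • b + (b + c) - (b + c) := by abel
        _ = _ := by rw [e3]; abel
    have fa : t4 • a = a + b := by
      rw [fb] at e1
      calc t4 • a = t4 • a + -b + (b + c) - c := by abel
        _ = _ := by rw [e1]; abel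
    have ga : (t0 * t4) • a = a + c := by rw [mul_smul, fa, smul_add, t0a, t0b]
    have gb : (t0 * t4) • b = -c := by rw [mul_smul, fb, smul_neg, t0b]
    have gc : (t0 * t4) • c = b + c := by rw [mul_smul, e2, smul_add, t0b, t0c, add_comm]
    refine kill t0 t4 b (six _ _ ?_) (six _ _ ?_) (six _ _ ?_) fun e => noc ?_
    all_goals try (simp only [smul_add, smul_sub, smul_neg, ga, gb, gc] <;> abel)
    rw [gb, smul_neg, gc] at e
    linear_combination (norm := abel) e

end Primitive

section Colourings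

variable {G Ω : Type v} [Group G] [Finite G] [Group.IsSolvable G] [Finite Ω] [MulAction G Ω]

theorem colour3_on (hb : Col3Below.{v} (Nat.card Ω)) (h3 : ¬ 3 ∣ Nat.card G) {S : Set Ω} (hS : ∀ g : G, ∀ x ∈ S, g • x ∈ S)
    (hne : S ≠ Set.univ) :
    ∃ f : Ω → Fin 3, ∀ g : G, (∀ x ∈ S, f (g • x) = f x) → ∀ x ∈ S, g • x = x := by
  classical
  let T : SubMulAction G Ω := ⟨S, fun g x hx => hS g x hx⟩
  obtain ⟨y, hy⟩ := (Set.ne_univ_iff_exists_notMem S).1 hne
  obtain ⟨f, hf⟩ := hb G T (Finite.card_subtype_lt (p := (· ∈ S)) hy) h3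
  refine ⟨fun x => if h : x ∈ S then f ⟨x, h⟩ else 0, fun g hg x hx => ?_⟩
  refine congrArg Subtype.val (hf g (fun z => ?_) ⟨x, hx⟩)
  have h1 := hg z z.2
  dsimp only at h1
  rw [dif_pos (hS g z z.2), dif_pos (show (z : Ω) ∈ S from z.2)] at h1
  exact h1

theorem colour3_intransitive (hb : Col3Below.{v} (Nat.card Ω)) (h3 : ¬ 3 ∣ Nat.card G) (h : ¬ IsPretransitive G Ω) :
    ∃ f : Ω → Fin 3, Col3Regular G f := by
  classical
  obtain ⟨a, b, hab⟩ : ∃ a b : Ω, b ∉ orbit G a := by
    by_contra hc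
    push Not at hc
    exact h ⟨hc⟩
  have hinv : ∀ (g : G) x, g • x ∈ orbit G a ↔ x ∈ orbit G a := fun g x =>
    ⟨fun hx => by have := mem_orbit_of_mem_orbit g⁻¹ hx; rwa [inv_smul_smul] at this,
      mem_orbit_of_mem_orbit g⟩
  obtain ⟨f₁, h₁⟩ := colour3_on (G := G) hb h3 (S := orbit G a) (fun g x hx => (hinv g x).2 hx)
    (fun h => hab (h ▸ Set.mem_univ b))
  obtain ⟨f₂, h₂⟩ := colour3_on (G := G) hb h3 (S := (orbit G a)ᶜ) (fun g x hx h => hx ((hinv g x).1 h))
    (fun h => (Set.compl_ne_univ.2 ⟨a, mem_orbit_self a⟩) h)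
  refine ⟨fun x => if x ∈ orbit G a then f₁ x else f₂ x, fun g hg x => ?_⟩
  by_cases hx : x ∈ orbit G a
  · refine h₁ g (fun y hy => ?_) x hx
    have := hg y
    dsimp only at this
    rwa [if_pos ((hinv g y).2 hy), if_pos hy] at this
  · refine h₂ g (fun y hy => ?_) x hx
    have := hg y
    dsimp only at this
    rwa [if_neg (fun h => hy ((hinv g y).1 h)), if_neg hy] at this

theorem colour3_imprimitive (hb : Col3Below.{v} (Nat.card Ω)) (h3 : ¬ 3 ∣ Nat.card G) [IsPretransitive G Ω] {X : Set Ω} (hX : IsBlock G X)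
    (hX1 : ¬ X.Subsingleton) (hX2 : X ≠ Set.univ) : ∃ f : Ω → Fin 3, Col3Regular G f := by
  classical
  obtain ⟨x₀, hx₀, x₁, hx₁, hne⟩ := Set.not_subsingleton_iff.1 hX1
  have heq : ∀ g g' : G, ∀ x, x ∈ g • X → x ∈ g' • X → g • X = g' • X := fun g g' x h h' => by
    by_contra hc
    exact Set.disjoint_left.1 (hX hc) h h'
  let Ψ := orbit G X
  have ht : ∀ Y : Ψ, ∃ t : G, t • X = (Y : Set Ω) := fun Y => Y.2
  choose t ht using ht
  have huniq : ∀ (Y Y' : Ψ) (x : Ω), x ∈ (Y : Set Ω) → x ∈ (Y' : Set Ω) → Y = Y' := fun Y Y' x h h' =>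
    Subtype.ext (by rw [← ht Y] at h ⊢; rw [← ht Y'] at h' ⊢; exact heq _ _ x h h')
  have hcov : ∀ x : Ω, ∃ Y : Ψ, x ∈ (Y : Set Ω) := fun x => by
    obtain ⟨g, rfl⟩ := exists_smul_eq G x₀ x
    exact ⟨⟨g • X, g, rfl⟩, Set.smul_mem_smul_set hx₀⟩
  choose π hπ using hcov
  have hlt : Nat.card Ψ < Nat.card Ω := by
    have hsurj : Function.Surjective π := fun Y => by
      refine ⟨t Y • x₀, huniq _ _ _ (hπ _) ?_⟩
      rw [← ht Y]; exact Set.smul_mem_smul_set hx₀
    refine lt_of_le_of_ne (Nat.card_le_card_of_surjective π hsurj) fun he => hne ?_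
    have hbij := (Nat.bijective_iff_surjective_and_card π).2 ⟨hsurj, he.symm⟩
    refine hbij.1 ?_
    have hXm : X ∈ Ψ := mem_orbit_self X
    rw [huniq _ ⟨X, hXm⟩ _ (hπ x₀) hx₀, huniq _ ⟨X, hXm⟩ _ (hπ x₁) hx₁]
  obtain ⟨D, hD⟩ := hb G Ψ hlt h3
  let T : SubMulAction (stabilizer G X) Ω := ⟨X, fun h x hx => by
    have := Set.smul_mem_smul_set (a := (h : G)) hx
    rwa [mem_stabilizer_iff.1 h.2] at this⟩
  obtain ⟨y, hy⟩ := (Set.ne_univ_iff_exists_notMem X).1 hX2
  obtain ⟨f₀, hf₀⟩ := hb (stabilizer G X) T (Finite.card_subtype_lt (p := (· ∈ X)) hy)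
    (fun h => h3 (h.trans (Subgroup.card_subgroup_dvd_card _)))
  haveI : Nonempty T := ⟨⟨x₀, hx₀⟩⟩
  obtain ⟨F, hF, hFne⟩ := three_colourings (fun h => h3 (h.trans (Subgroup.card_subgroup_dvd_card _))) hf₀
  have hmem : ∀ x, (t (π x))⁻¹ • x ∈ X := fun x => by
    have := hπ x
    rw [← ht (π x), Set.mem_smul_set_iff_inv_smul_mem] at this
    exact this
  refine ⟨fun x => F (D (π x)) ⟨_, hmem x⟩, fun g hg x => ?_⟩
  have hh : ∀ Y : Ψ, (t (g • Y))⁻¹ * g * t Y ∈ stabilizer G X := fun Y => by
    rw [mem_stabilizer_iff, mul_smul, mul_smul, ht, inv_smul_eq_iff, ht, orbit.coe_smul]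
  have hval : ∀ (w : Ω) (Y : Ψ) (z : T), π w = Y → (t Y)⁻¹ • w = (z : Ω) →
      F (D (π w)) ⟨(t (π w))⁻¹ • w, hmem w⟩ = F (D Y) z := by
    rintro w _ z rfl hz
    exact congrArg _ (Subtype.ext hz)
  have key : ∀ (Y : Ψ) (z : T), F (D (g • Y)) ((⟨_, hh Y⟩ : stabilizer G X) • z) = F (D Y) z := by
    intro Y z
    have hy1 : t Y • (z : Ω) ∈ (Y : Set Ω) := by rw [← ht Y]; exact Set.smul_mem_smul_set z.2
    have hy2 : g • t Y • (z : Ω) ∈ ((g • Y : Ψ) : Set Ω) := by
      rw [orbit.coe_smul]; exact Set.smul_mem_smul_set hy1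
    have h1 := hg (t Y • (z : Ω))
    have e1 : π (t Y • (z : Ω)) = Y := huniq _ _ _ (hπ _) hy1
    have e2 : π (g • t Y • (z : Ω)) = g • Y := huniq _ _ _ (hπ _) hy2
    dsimp only at h1
    rwa [hval _ Y z e1 (inv_smul_smul _ _), hval _ (g • Y) ((⟨_, hh Y⟩ : stabilizer G X) • z) e2 (by
      show _ = ((t (g • Y))⁻¹ * g * t Y) • (z : Ω)
      rw [mul_smul, mul_smul])] at h1
  have hfix : ∀ Y : Ψ, g • Y = Y := hD g fun Y => hFne _ _ _ (key Y)
  obtain ⟨Y, z, rfl⟩ : ∃ (Y : Ψ) (z : T), t Y • (z : Ω) = x := ⟨π x, ⟨_, hmem x⟩, smul_inv_smul _ x⟩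
  have hst := hh Y
  have hk := key Y
  simp only [hfix Y] at hst hk
  have h1 := hF (D Y) ⟨_, hst⟩ hk z
  have h2 : ((t Y)⁻¹ * g * t Y) • (z : Ω) = z := congrArg Subtype.val h1
  rwa [mul_smul, mul_smul, inv_smul_eq_iff] at h2

set_option maxHeartbeats 800000 in
theorem colour3_primitive [FaithfulSMul G Ω] (h3 : ¬ 3 ∣ Nat.card G)
    (hprim : IsPreprimitive G Ω) : ∃ f : Ω → Fin 3, Col3Regular G f := by
  classical
  by_cases hG : Subsingleton G
  · exact ⟨fun _ => 0, fun g _ x => by rw [Subsingleton.elim g 1, one_smul]⟩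
  haveI := not_subsingleton_iff_nontrivial.1 hG
  obtain ⟨M, hM, -⟩ := Cfsg.Lib.Core.exists_isMinNormal (G := G) (N := ⊤) inferInstance top_ne_bot
  haveI := hM.1
  obtain ⟨hab, htr, hst, -⟩ := Cfsg.Lib.Solv.primitive_regular hprim hM.2.1 hM.2.2
  haveI := hab
  letI : CommGroup M := { (inferInstance : Group M) with mul_comm := mul_comm' }
  haveI : Nonempty Ω := by
    by_contra h
    rw [not_nonempty_iff] at h
    obtain ⟨g, hg⟩ := exists_ne (1 : G)
    exact hg (eq_of_smul_eq_smul fun ω : Ω => isEmptyElim ω)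
  obtain ⟨x₀⟩ := ‹Nonempty Ω›
  let e : M → Ω := fun m => m • x₀
  have he : Function.Bijective e := by
    refine ⟨fun a b h => ?_, fun y => htr.exists_smul_eq x₀ y⟩
    have : b⁻¹ * a ∈ stabilizer M x₀ := by
      rw [mem_stabilizer_iff, mul_smul, inv_smul_eq_iff]; exact h
    rw [hst, Subgroup.mem_bot, inv_mul_eq_one] at this
    exact this.symm
  let c : stabilizer G x₀ →* MulAut M := (MulAut.conjNormal : G →* MulAut M).comp (stabilizer G x₀).subtype
  letI : DistribMulAction (stabilizer G x₀) (Additive M) :=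
    { smul := fun h v => Additive.ofMul (c h (Additive.toMul v))
      one_smul := fun v => by
        show Additive.ofMul (c 1 (Additive.toMul v)) = v
        rw [map_one]; rfl
      mul_smul := fun h k v => by
        show Additive.ofMul (c (h * k) (Additive.toMul v)) = Additive.ofMul (c h (c k (Additive.toMul v)))
        rw [map_mul]; rfl
      smul_zero := fun h => congrArg Additive.ofMul (map_one (c h))
      smul_add := fun h v w => congrArg Additive.ofMul (map_mul (c h) _ _) }
  have hsmul : ∀ (h : stabilizer G x₀) (v : Additive M),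
      ((Additive.toMul (h • v) : M) : G) = (h : G) * (Additive.toMul v : M) * (h : G)⁻¹ :=
    fun h v => MulAut.conjNormal_apply _ _
  have hge : ∀ (h : stabilizer G x₀) (v : Additive M),
      (h : G) • e (Additive.toMul v) = e (Additive.toMul (h • v)) := fun h v => by
    show (h : G) • ((Additive.toMul v : M) : G) • x₀ = ((Additive.toMul (h • v) : M) : G) • x₀
    rw [hsmul, mul_smul, mul_smul]
    congr 2
    exact (inv_smul_eq_iff.2 (mem_stabilizer_iff.1 h.2).symm).symm
  have hirr : Irreducible' (stabilizer G x₀) (Additive M) := by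
    intro K hK
    let K' : Subgroup G :=
      { carrier := {g | ∃ hg : g ∈ M, Additive.ofMul (⟨g, hg⟩ : M) ∈ K}
        one_mem' := ⟨one_mem M, K.zero_mem⟩
        mul_mem' := fun {a b} ⟨ha, ha'⟩ ⟨hb, hb'⟩ => ⟨mul_mem ha hb, K.add_mem ha' hb'⟩
        inv_mem' := fun {a} ⟨ha, ha'⟩ => ⟨inv_mem ha, K.neg_mem ha'⟩ }
    have hK'n : K'.Normal := ⟨by
      rintro k ⟨hk, hk'⟩ g
      obtain ⟨m, hm₀⟩ := he.2 (g • x₀)
      have hh : (m : G)⁻¹ * g ∈ stabilizer G x₀ := by
        rw [mem_stabilizer_iff, mul_smul, ← hm₀]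
        exact inv_smul_smul (m : G) x₀
      have h1 := hK ⟨_, hh⟩ _ hk'
      refine ⟨hM.1.conj_mem k hk g, ?_⟩
      convert h1 using 2
      apply congrArg (fun x : M => x)
      refine Subtype.ext ?_
      show g * k * g⁻¹ = ((c ⟨_, hh⟩ ⟨k, hk⟩ : M) : G)
      have h2 := congrArg Subtype.val (mul_comm m (c ⟨_, hh⟩ ⟨k, hk⟩))
      simp only [Subgroup.coe_mul] at h2
      have h3 : ((c ⟨_, hh⟩ ⟨k, hk⟩ : M) : G) = ((m : G)⁻¹ * g) * k * ((m : G)⁻¹ * g)⁻¹ :=
        MulAut.conjNormal_apply _ _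
      calc g * k * g⁻¹ = (m : G) * (((m : G)⁻¹ * g) * k * ((m : G)⁻¹ * g)⁻¹) * (m : G)⁻¹ := by group
        _ = _ := by rw [← h3, h2, mul_inv_cancel_right]⟩
    rcases hM.2.2 K' hK'n (fun g hg => hg.1) with h | h
    · left
      refine eq_bot_iff.2 fun v hv => AddSubgroup.mem_bot.2 ?_
      have : ((Additive.toMul v : M) : G) ∈ K' := ⟨(Additive.toMul v : M).2, hv⟩
      rw [h, Subgroup.mem_bot] at this
      exact congrArg Additive.ofMul (Subtype.ext this : (Additive.toMul v : M) = 1)
    · right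
      refine eq_top_iff.2 fun v _ => ?_
      have : ((Additive.toMul v : M) : G) ∈ K' := by rw [h]; exact (Additive.toMul v : M).2
      exact this.2
  have hcardM : Nat.card (Additive M) = Nat.card Ω := (Nat.card_congr Additive.toMul).trans (Nat.card_eq_of_bijective e he)
  obtain ⟨τ, hτ⟩ := (Cfsg.Lib.SolvBase.joint_aux (Nat.card (Additive M))).1 (stabilizer G x₀) (Additive M) rfl
    (Cfsg.Lib.SolvBase.completelyReducible_of_irreducible hirr)
  haveI : Nontrivial (Additive M) := by
    haveI := M.nontrivial_iff_ne_bot.2 hM.2.1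
    exact inferInstanceAs (Nontrivial M)
  have hfaith : ∀ h : stabilizer G x₀, (∀ v : Additive M, h • v = v) → h = 1 := fun h hh => by
    refine Subtype.ext (eq_of_smul_eq_smul fun y : Ω => ?_)
    obtain ⟨m, rfl⟩ := he.2 y
    rw [show m = Additive.toMul (Additive.ofMul m) from rfl, hge, hh]
    simp
  have h3H : ¬ 3 ∣ Nat.card (stabilizer G x₀) := fun h => h3 (h.trans (Subgroup.card_subgroup_dvd_card _))
  obtain ⟨α, hα0, hα⟩ : ∃ α : Set (Additive M), (0 : Additive M) ∉ α ∧
      ∀ h : stabilizer G x₀, (∀ w, h • w ∈ α ↔ w ∈ α) → h = 1 := by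
    by_cases hpair : ∃ x y : Additive M, ∀ h : stabilizer G x₀, h • x = x → h • y = y → h = 1
    · obtain ⟨x, y, hxy⟩ := hpair
      by_cases hone : ∃ u : Additive M, u ≠ 0 ∧ ∀ h : stabilizer G x₀, h • u = u → h = 1
      · obtain ⟨u, hu, hreg⟩ := hone
        exact ⟨{u}, fun h => hu (Set.mem_singleton_iff.1 h).symm, fun h hh => hreg h ((hh u).2 rfl)⟩
      push Not at hone
      have hx : x ≠ 0 := fun e => by
        by_cases hy : y = 0
        · obtain ⟨u, hu⟩ := exists_ne (0 : Additive M)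
          obtain ⟨h, hh, h1⟩ := hone u hu
          exact h1 (hxy h (e ▸ smul_zero h) (hy ▸ smul_zero h))
        · obtain ⟨h, hh, h1⟩ := hone y hy
          exact h1 (hxy h (e ▸ smul_zero h) hh)
      have hy : y ≠ 0 := fun e => by
        obtain ⟨h, hh, h1⟩ := hone x hx
        exact h1 (hxy h hh (e ▸ smul_zero h))
      have hne : x ≠ y := fun e => by
        obtain ⟨h, hh, h1⟩ := hone x hx
        exact h1 (hxy h hh (e ▸ hh))
      exact marked_of_pair h3H hx hy hne hxy
    · push Not at hpair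
      refine marked_of_triple h3H (a := τ 0) (b := τ 1) (c := τ 2) (fun h e1 e2 e3 => hfaith h (hτ h fun k => ?_))
        fun x y hh => ?_
      · fin_cases k <;> assumption
      · obtain ⟨h, e1, e2, e3⟩ := hpair x y
        exact e3 (hh h e1 e2)
  refine ⟨fun y => if y = x₀ then 0 else if y ∈ (fun v => e (Additive.toMul v)) '' α then 1 else 2, fun g hg y => ?_⟩
  have hg₀ : g • x₀ = x₀ := by
    have h0 := hg x₀
    dsimp only at h0
    rw [if_pos rfl] at h0
    by_contra hne
    rw [if_neg hne] at h0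
    split_ifs at h0 <;> simp at h0
  set h : stabilizer G x₀ := ⟨g, hg₀⟩ with hdef
  have hinj : Function.Injective fun v : Additive M => e (Additive.toMul v) := fun a b hab =>
    Additive.toMul.injective (he.1 hab)
  have hne0 : ∀ v : Additive M, v ≠ 0 → e (Additive.toMul v) ≠ x₀ := fun v hv hh => hv (hinj (hh.trans (by simp [e])))
  have hh : h = 1 := hα h fun w => by
    by_cases hw : w = 0
    · rw [hw, smul_zero]
    have hw' : h • w ≠ 0 := fun h0 => hw ((smul_eq_zero_iff_eq h).1 h0)
    have h0 := hg (e (Additive.toMul w))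
    dsimp only at h0
    rw [show g • e (Additive.toMul w) = e (Additive.toMul (h • w)) from hge h w, if_neg (hne0 _ hw'),
      if_neg (hne0 _ hw), hinj.mem_set_image, hinj.mem_set_image] at h0
    constructor <;> intro hm <;> by_contra hn <;> simp only [hm, hn, if_true, if_false] at h0 <;>
      exact absurd h0 (by decide)
  rw [show g = ((1 : stabilizer G x₀) : G) from congrArg Subtype.val hh]
  exact one_smul G y

end Colourings

/-- Three colours for soluble groups of order prime to three. -/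
theorem three_colour_aux : ∀ (n : ℕ) (G Ω : Type v) [Group G] [Finite G] [Group.IsSolvable G] [Finite Ω]
    [MulAction G Ω], Nat.card Ω = n → ¬ 3 ∣ Nat.card G → ∃ f : Ω → Fin 3, Col3Regular G f := by
  intro n
  induction n using Nat.strong_induction_on with
  | _ n ih =>
    intro G Ω _ _ _ _ _ hn h3
    classical
    subst hn
    have hbc : Col3Below.{v} (Nat.card Ω) := fun G' Ω' _ _ _ _ _ hlt => ih _ hlt G' Ω' rfl
    let φ := MulAction.toPermHom G Ω
    haveI : Group.IsSolvable φ.range := Group.isSolvable_of_surjective φ.rangeRestrict_surjective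
    have h3' : ¬ 3 ∣ Nat.card φ.range := fun h => h3 (h.trans (Subgroup.card_range_dvd φ))
    suffices h : ∃ f : Ω → Fin 3, Col3Regular φ.range f by
      obtain ⟨f, h⟩ := h
      exact ⟨f, fun g hg x => h ⟨φ g, g, rfl⟩ hg x⟩
    by_cases htr : IsPretransitive φ.range Ω
    · by_cases hprim : ∀ X : Set Ω, IsBlock φ.range X → IsTrivialBlock X
      · exact colour3_primitive h3' { toIsPretransitive := htr, isTrivialBlock_of_isBlock := fun h => hprim _ h }
      · push Not at hprim
        obtain ⟨X, hX, hX'⟩ := hprim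
        exact colour3_imprimitive hbc h3' hX (fun h => hX' (Or.inl h)) (fun h => hX' (Or.inr h))
    · exact colour3_intransitive hbc h3' htr

end Cfsg.Lib.CoprimeBase
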