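import Cfsg.Agent.Lib.CoprimeBase.Count
import Cfsg.Agent.Lib.SolvBase.Main
import Mathlib.Algebra.GroupWithZero.Action.End
import Mathlib.Algebra.Group.Subgroup.Actions
import Mathlib.Algebra.Group.Action.Units
import Mathlib.Algebra.Ring.Action.Basic

/-!
The induction for regular pairs of a coprime soluble linear group: reducible, imprimitive and the remaining
primitive case of a maximal soluble group of order prime to the characteristic.
-/

set_option autoImplicit false
set_option linter.unusedSectionVars false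
set_option linter.style.haveILetI false

namespace Cfsg.Lib.CoprimeBase

open MulAction Cfsg.Lib.OddBase
open scoped Pointwise

universe u v

instance instFiniteEnd {V : Type u} [AddCommGroup V] [Finite V] : Finite (AddMonoid.End V) :=
  Finite.of_injective (fun f : AddMonoid.End V => (f : V → V)) DFunLike.coe_injective

instance instFiniteEndUnits {V : Type u} [AddCommGroup V] [Finite V] : Finite (AddMonoid.End V)ˣ :=
  Finite.of_injective Units.val Units.val_injective

/-- The translates of a proper non-zero subgroup form a direct system. -/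
def Imprimitive (A : Type u) (V : Type v) [Group A] [AddCommGroup V] [DistribMulAction A V] : Prop :=
  ∃ X : AddSubgroup V, X ≠ ⊥ ∧ X ≠ ⊤ ∧ ∀ (s : Finset (orbit A X)) (G : ↥(orbit A X) → V),
    (∀ Y : ↥(orbit A X), G Y ∈ (Y : AddSubgroup V)) → ∑ Y ∈ s, G Y = 0 → ∀ Y ∈ s, G Y = 0

/-- Pairs exist for soluble groups of coprime order on smaller modules. -/
def PairSmaller (n : ℕ) : Prop :=
  ∀ (A V : Type v) [Group A] [Finite A] [AddCommGroup V] [Finite V] [DistribMulAction A V],
    Nat.card V < n → Group.IsSolvable A → (Nat.card A).Coprime (Nat.card V) → HasPair A V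

/-- Soluble groups of order prime to `p` have distinguishing colourings with `p` colours. -/
def ColourProp (p : ℕ) : Prop :=
  ∀ (G Ω : Type v) [Group G] [Finite G] [Finite Ω] [MulAction G Ω], Group.IsSolvable G → ¬ p ∣ Nat.card G →
    ∃ f : Ω → Fin p, ∀ g : G, (∀ x, f (g • x) = f x) → ∀ x : Ω, g • x = x

/-- The primitive case: a maximal soluble subgroup of order prime to `p` of the automorphism group. -/
def PrimitiveProp : Prop :=
  ∀ (V : Type v) [AddCommGroup V] [Finite V] [Nontrivial V] (p : ℕ) [Fact p.Prime], p ≠ 2 →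
    (∀ x : V, p • x = 0) → ∀ (A : Subgroup (AddMonoid.End V)ˣ), Group.IsSolvable A → ¬ p ∣ Nat.card A →
    (∀ B : Subgroup (AddMonoid.End V)ˣ, A ≤ B → Group.IsSolvable B → ¬ p ∣ Nat.card B → B = A) →
    Irreducible' A V → ¬ Imprimitive A V → PairSmaller.{v} (Nat.card V) → HasPair A V

theorem card_eq_pow {V : Type v} [AddCommGroup V] [Finite V] {p : ℕ} [Fact p.Prime] (hp : ∀ x : V, p • x = 0) :
    ∃ d, Nat.card V = p ^ d := by
  have h : IsPGroup p (Multiplicative V) := fun x => ⟨1, by
    rw [pow_one]; exact congrArg Multiplicative.ofAdd (hp x.toAdd)⟩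
  obtain ⟨d, hd⟩ := IsPGroup.iff_card.1 h
  exact ⟨d, by rw [← hd]; rfl⟩

theorem imprimitive_hasPair {A V : Type v} [Group A] [Finite A] [AddCommGroup V] [Finite V] [DistribMulAction A V]
    {p : ℕ} [hpf : Fact p.Prime] (hp : ∀ x : V, p • x = 0) (hA : Group.IsSolvable A) (hpA : ¬ p ∣ Nat.card A)
    (hirr : Irreducible' A V) (himp : Imprimitive A V) (hb : PairSmaller.{v} (Nat.card V))
    (hcol : ColourProp.{v} p) : HasPair A V := by
  classical
  obtain ⟨X₀, hX₀, hX₀top, hindep'⟩ := himp
  let Ψ := orbit A X₀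
  have ht : ∀ Y : Ψ, ∃ t : A, t • X₀ = (Y : AddSubgroup V) := fun Y => Y.2
  choose t ht using ht
  haveI := Fintype.ofFinite Ψ
  have hindep : ∀ G : Ψ → V, (∀ Y : Ψ, G Y ∈ (Y : AddSubgroup V)) → ∑ Y : Ψ, G Y = 0 → ∀ Y, G Y = 0 :=
    fun G hG hsum Y => hindep' Finset.univ G hG hsum Y (Finset.mem_univ Y)
  have hmemY : ∀ (Y : Ψ) (x : V), x ∈ X₀ → t Y • x ∈ (Y : AddSubgroup V) := fun Y x hx => by
    rw [← ht Y]; exact AddSubgroup.smul_mem_pointwise_smul _ _ _ hx
  have hYmem : ∀ (Y : Ψ) (y : V), y ∈ (Y : AddSubgroup V) → (t Y)⁻¹ • y ∈ X₀ := fun Y y hy => by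
    rwa [← ht Y, AddSubgroup.mem_pointwise_smul_iff_inv_smul_mem] at hy
  have hspan : (⨆ Y : Ψ, (Y : AddSubgroup V)) = ⊤ := by
    refine (hirr _ fun a w hw => ?_).resolve_left fun h => hX₀ ?_
    · refine AddSubgroup.iSup_induction _ (C := fun w => a • w ∈ ⨆ Y : Ψ, (Y : AddSubgroup V)) hw ?_ ?_ ?_
      · intro Y y hy
        refine AddSubgroup.mem_iSup_of_mem (a • Y) ?_
        rw [orbit.coe_smul]
        exact AddSubgroup.smul_mem_pointwise_smul _ _ _ hy
      · simp only [smul_zero]; exact zero_mem _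
      · intro x y hx hy; simp only [smul_add]; exact add_mem hx hy
    · exact eq_bot_iff.2 (h ▸ le_iSup (fun Y : Ψ => (Y : AddSubgroup V)) ⟨X₀, mem_orbit_self X₀⟩)
  let H := stabilizer A X₀
  have hHX : ∀ h : H, ∀ x ∈ X₀, h • x ∈ X₀ := fun h x hx => by
    have := AddSubgroup.smul_mem_pointwise_smul x (h : A) X₀ hx
    rwa [mem_stabilizer_iff.1 h.2] at this
  letI := subAct X₀ hHX
  have hlt : Nat.card X₀ < Nat.card V := by
    obtain ⟨y, -, hy⟩ := SetLike.exists_of_lt (Ne.lt_top hX₀top)
    exact Finite.card_subtype_lt (p := (· ∈ X₀)) hy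
  have hcopH : (Nat.card H).Coprime (Nat.card X₀) := by
    obtain ⟨d, hd⟩ := card_eq_pow hp
    refine Nat.Coprime.coprime_dvd_right (X₀.card_addSubgroup_dvd_card) ?_
    rw [hd]
    exact Nat.Coprime.pow_right d ((hpf.out.coprime_iff_not_dvd.2 fun h =>
      hpA (h.trans (Subgroup.card_subgroup_dvd_card _))).symm)
  haveI := hA
  obtain ⟨v₁, w₁, hvw⟩ := hb H X₀ hlt inferInstance hcopH
  -- move a non-zero vector to the first place
  obtain ⟨v, w, hv, hreg⟩ : ∃ v w : X₀, v ≠ 0 ∧
      ∀ h : H, h • v = v → h • w = w → ∀ x : X₀, h • x = x := by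
    by_cases h0 : v₁ = 0
    · subst h0
      haveI : Nontrivial X₀ := (AddSubgroup.nontrivial_iff_ne_bot X₀).2 hX₀
      obtain ⟨v, hv⟩ := exists_ne (0 : X₀)
      exact ⟨v, w₁, hv, fun h _ h2 => hvw h (smul_zero h) h2⟩
    · exact ⟨v₁, w₁, h0, hvw⟩
  obtain ⟨f, hf⟩ := hcol A Ψ hA hpA
  let W : Ψ → X₀ := fun Y => w + (f Y : ℕ) • v
  let F₁ : Ψ → V := fun Y => t Y • (v : V)
  let F₂ : Ψ → V := fun Y => t Y • (W Y : V)
  refine ⟨∑ Y : Ψ, F₁ Y, ∑ Y : Ψ, F₂ Y, fun a h1 h2 => ?_⟩
  have hcomp : ∀ F : Ψ → V, (∀ Y : Ψ, F Y ∈ (Y : AddSubgroup V)) → a • ∑ Y : Ψ, F Y = ∑ Y : Ψ, F Y →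
      ∀ Y : Ψ, F (a • Y) = a • F Y := by
    intro F hF hfix Y
    have h0 := hindep (fun Z => a • F (a⁻¹ • Z) - F Z) (fun Z => sub_mem (by
        have := AddSubgroup.smul_mem_pointwise_smul _ a _ (hF (a⁻¹ • Z))
        rwa [orbit.coe_smul, smul_inv_smul] at this) (hF Z)) (by
      rw [Finset.sum_sub_distrib, ← Finset.smul_sum,
        show ∑ Z : Ψ, F (a⁻¹ • Z) = ∑ Z : Ψ, F Z from Equiv.sum_comp (MulAction.toPerm a⁻¹) F]
      exact sub_eq_zero.2 hfix) (a • Y)
    simp only [inv_smul_smul, sub_eq_zero] at h0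
    exact h0.symm
  have hc₁ := hcomp F₁ (fun Y => hmemY Y _ v.2) h1
  have hc₂ := hcomp F₂ (fun Y => hmemY Y _ (W Y).2) h2
  have hh : ∀ Y : Ψ, (t (a • Y))⁻¹ * a * t Y ∈ H := fun Y => by
    rw [mem_stabilizer_iff, mul_smul, mul_smul, ht, inv_smul_eq_iff, ht, orbit.coe_smul]
  have hmap : ∀ Y : Ψ, (⟨_, hh Y⟩ : H) • v = v ∧ (⟨_, hh Y⟩ : H) • W Y = W (a • Y) := fun Y => by
    constructor <;> refine Subtype.ext ?_
    · show ((t (a • Y))⁻¹ * a * t Y) • (v : V) = _
      rw [mul_smul, mul_smul, inv_smul_eq_iff]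
      exact (hc₁ Y).symm
    · show ((t (a • Y))⁻¹ * a * t Y) • (W Y : V) = _
      rw [mul_smul, mul_smul, inv_smul_eq_iff]
      exact (hc₂ Y).symm
  -- translating `w` by multiples of `v` gives inequivalent pairs
  have hineq : ∀ (h : H) (δ : ℤ), h • v = v → h • w = w + δ • v → (p : ℤ) ∣ δ := by
    intro h δ hhv hhw
    have hpow : ∀ k : ℕ, h ^ k • w = w + ((k : ℤ) * δ) • v := fun k => by
      induction k with
      | zero => simp
      | succ k ih =>
        rw [pow_succ', mul_smul, ih, smul_add, smul_comm h _ v, hhv, hhw, add_assoc, ← add_zsmul]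
        congr 2
        push_cast; ring
    have h3 := hpow (Nat.card H)
    rw [pow_card_eq_one', one_smul, left_eq_add] at h3
    have hord : addOrderOf v = p := addOrderOf_eq_prime (Subtype.ext (hp v)) hv
    have h4 := addOrderOf_dvd_iff_zsmul_eq_zero.2 h3
    rw [hord] at h4
    exact ((Nat.prime_iff_prime_int.1 hpf.out).dvd_or_dvd h4).resolve_left fun h5 =>
      hpA ((Int.natCast_dvd_natCast.1 h5).trans (Subgroup.card_subgroup_dvd_card _))
  have hfix : ∀ Y : Ψ, a • Y = Y := by
    refine hf a fun Y => ?_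
    obtain ⟨hv', hW⟩ := hmap Y
    set h : H := ⟨_, hh Y⟩
    have h5 : h • w = w + ((f (a • Y) : ℤ) - (f Y : ℤ)) • v := by
      have h6 : h • w + ((f Y : ℕ) : ℤ) • v = w + ((f (a • Y) : ℕ) : ℤ) • v := by
        rw [natCast_zsmul, natCast_zsmul]
        have := hW
        simp only [W, smul_add] at this
        rwa [smul_comm h _ v, hv'] at this
      rw [sub_zsmul, ← sub_eq_add_neg, ← add_sub_assoc, eq_sub_iff_add_eq]
      exact h6
    have h7 := hineq h _ hv' h5
    exact Fin.ext (by
      have := (f (a • Y)).2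
      have := (f Y).2
      obtain ⟨c, hc⟩ := h7
      rcases lt_trichotomy c 0 with hc0 | hc0 | hc0
      · nlinarith
      · subst hc0; omega
      · nlinarith)
  intro x
  have hx : x ∈ ⨆ Y : Ψ, (Y : AddSubgroup V) := hspan ▸ AddSubgroup.mem_top x
  refine AddSubgroup.iSup_induction _ (C := fun x => a • x = x) hx ?_ ?_ ?_
  · intro Y y hy
    obtain ⟨h1, h2⟩ := hmap Y
    have hst := hh Y
    simp only [hfix Y] at h1 h2 hst
    have h2' : (⟨_, hst⟩ : H) • w = w := by
      simp only [W, smul_add] at h2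
      rwa [smul_comm _ _ v, h1, add_left_inj] at h2
    have h3 := hreg ⟨_, hst⟩ h1 h2' ⟨_, hYmem Y y hy⟩
    have h4 : ((t Y)⁻¹ * a * t Y) • (t Y)⁻¹ • y = (t Y)⁻¹ • y := congrArg Subtype.val h3
    rwa [mul_smul, mul_smul, smul_inv_smul, smul_left_cancel_iff] at h4
  · exact smul_zero a
  · intro x y hx hy; simp only [smul_add, hx, hy]

/-- The induction. -/
theorem pair_main (hcol : ∀ p : ℕ, p.Prime → p ≠ 2 → ColourProp.{v} p) (hprim : PrimitiveProp.{v}) :
    ∀ (n : ℕ) (A V : Type v) [Group A] [Finite A] [AddCommGroup V] [Finite V] [DistribMulAction A V],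
      Nat.card V = n → Group.IsSolvable A → (Nat.card A).Coprime (Nat.card V) → HasPair A V := by
  intro n
  induction n using Nat.strong_induction_on with
  | _ n ih =>
    intro A V _ _ _ _ _ hn hA hcop
    subst hn
    have hb : PairSmaller.{v} (Nat.card V) := fun A' V' _ _ _ _ _ hlt => ih _ hlt A' V' rfl
    by_cases hirr : Irreducible' A V
    swap
    · simp only [Irreducible'] at hirr
      push Not at hirr
      obtain ⟨U, hU, hUbot, hUtop⟩ := hirr
      letI : MulDistribMulAction A (Multiplicative V) :=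
        { smul := fun a x => Multiplicative.ofAdd (a • x.toAdd)
          one_smul := fun x => congrArg Multiplicative.ofAdd (one_smul A x.toAdd)
          mul_smul := fun a b x => congrArg Multiplicative.ofAdd (mul_smul a b x.toAdd)
          smul_mul := fun a x y => congrArg Multiplicative.ofAdd (smul_add a x.toAdd y.toAdd)
          smul_one := fun a => congrArg Multiplicative.ofAdd (smul_zero a) }
      let N : Subgroup (Multiplicative V) := U.toSubgroup
      have hN : ∀ a : A, ∀ k ∈ N, a • k ∈ N := fun a k hk => hU a k.toAdd hk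
      letI := subgAct hN
      letI := quotAct hN
      have hUcard : Nat.card U < Nat.card V := by
        obtain ⟨y, -, hy⟩ := SetLike.exists_of_lt (Ne.lt_top hUtop)
        exact Finite.card_subtype_lt (p := (· ∈ U)) hy
      letI := subAct U hU
      obtain ⟨x₁, y₁, h₁⟩ := hb A U hUcard hA (hcop.coprime_dvd_right U.card_addSubgroup_dvd_card)
      letI : DistribMulAction A (V ⧸ U) :=
        { smul := fun a => QuotientAddGroup.map U U (DistribSMul.toAddMonoidHom V a) fun x hx => hU a x hx
          one_smul := fun q => QuotientAddGroup.induction_on q fun x => congrArg _ (one_smul A x)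
          mul_smul := fun a b q => QuotientAddGroup.induction_on q fun x => congrArg _ (mul_smul a b x)
          smul_zero := fun a => map_zero _
          smul_add := fun a x y => map_add _ x y }
      have hQcard : Nat.card (V ⧸ U) < Nat.card V := by
        have h1 := U.index_mul_card
        have h2 : 1 < Nat.card U := by
          haveI : Nontrivial U := (AddSubgroup.nontrivial_iff_ne_bot U).2 hUbot
          exact Finite.one_lt_card
        show U.index < _
        nlinarith [Nat.pos_of_ne_zero (AddSubgroup.index_ne_zero_of_finite (H := U))]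
      obtain ⟨x₂, y₂, h₂⟩ := hb A (V ⧸ U) hQcard hA (hcop.coprime_dvd_right U.card_quotient_dvd_card)
      haveI : N.Normal := inferInstance
      have h := sameFix_extension (A := A) (K := Multiplicative V) hA hcop hN
      obtain ⟨x, y, hxy⟩ := h.hasPair (hasPair_prod
        (⟨⟨Multiplicative.ofAdd (x₁ : V), x₁.2⟩, ⟨Multiplicative.ofAdd (y₁ : V), y₁.2⟩, fun a e₁ e₂ z =>
          Subtype.ext (congrArg Multiplicative.ofAdd (congrArg Subtype.val (h₁ a
            (Subtype.ext (congrArg Multiplicative.toAdd (congrArg Subtype.val e₁)))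
            (Subtype.ext (congrArg Multiplicative.toAdd (congrArg Subtype.val e₂))) ⟨z.1.toAdd, z.2⟩)))⟩)
        (by
          induction x₂ using QuotientAddGroup.induction_on with
          | _ x₂ =>
          induction y₂ using QuotientAddGroup.induction_on with
          | _ y₂ =>
          refine ⟨((Multiplicative.ofAdd x₂ : Multiplicative V) : Multiplicative V ⧸ N),
            ((Multiplicative.ofAdd y₂ : Multiplicative V) : Multiplicative V ⧸ N), fun a e₁ e₂ z => ?_⟩
          have key : ∀ u : V, a • ((u : V) : V ⧸ U) = (u : V ⧸ U) ↔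
              a • ((Multiplicative.ofAdd u : Multiplicative V) : Multiplicative V ⧸ N) =
                ((Multiplicative.ofAdd u : Multiplicative V) : Multiplicative V ⧸ N) := fun u => by
            show (((a • u : V)) : V ⧸ U) = (u : V ⧸ U) ↔
              (((Multiplicative.ofAdd (a • u) : Multiplicative V)) : Multiplicative V ⧸ N) = _
            rw [QuotientAddGroup.eq, QuotientGroup.eq]
            rfl
          induction z using QuotientGroup.induction_on with
          | H z => exact (key z.toAdd).1 (h₂ a ((key x₂).2 e₁) ((key y₂).2 e₂) _)))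
      exact ⟨x.toAdd, y.toAdd, fun a e₁ e₂ z => congrArg Multiplicative.toAdd
        (hxy a (congrArg Multiplicative.ofAdd e₁) (congrArg Multiplicative.ofAdd e₂) (Multiplicative.ofAdd z))⟩
    rcases subsingleton_or_nontrivial V with hV | hV
    · exact ⟨0, 0, fun a _ _ x => Subsingleton.elim _ _⟩
    obtain ⟨p, hp, hpV⟩ := Cfsg.Lib.SolvBase.exists_prime_nsmul hirr
    haveI := Fact.mk hp
    obtain ⟨d, hd⟩ := card_eq_pow hpV
    have hd0 : d ≠ 0 := fun h => by
      rw [h, pow_zero] at hd
      exact (Finite.one_lt_card (α := V)).ne' hd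
    have hpA : ¬ p ∣ Nat.card A := fun h =>
      hp.not_dvd_one (hcop ▸ Nat.dvd_gcd h (hd ▸ dvd_pow_self p hd0))
    -- the image in the automorphism group and a maximal overgroup
    let φ := (DistribMulAction.toAddMonoidEnd A V).toHomUnits
    haveI := hA
    have hφs : Group.IsSolvable φ.range := Group.isSolvable_of_surjective φ.rangeRestrict_surjective
    have hφp : ¬ p ∣ Nat.card φ.range := fun h => hpA (h.trans (Subgroup.card_range_dvd φ))
    suffices hrange : HasPair φ.range V by
      obtain ⟨x, y, h⟩ := hrange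
      exact ⟨x, y, fun a e₁ e₂ z => h ⟨φ a, a, rfl⟩ e₁ e₂ z⟩
    by_cases hp2 : p = 2
    · subst hp2
      have hodd : Odd (Nat.card φ.range) := Nat.not_even_iff_odd.1 fun he => hφp (even_iff_two_dvd.1 he)
      have hirr' : Irreducible' φ.range V := fun U hU => hirr U fun a w hw => hU ⟨φ a, a, rfl⟩ w hw
      obtain ⟨x, y, h⟩ := Cfsg.Lib.OddBase.exists_pair hodd (fun U hU => by
        rcases hirr' U hU with rfl | rfl
        · exact ⟨⊤, fun _ _ _ => trivial, by simp, by simp⟩
        · exact ⟨⊥, fun a w hw => by rw [AddSubgroup.mem_bot.1 hw, smul_zero]; exact zero_mem _, by simp, by simp⟩)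
      exact ⟨x, y, fun a e₁ e₂ z => by rw [h a e₁ e₂, one_smul]⟩
    obtain ⟨A', ⟨hle, hA's, hA'p⟩, hmax⟩ := Set.Finite.exists_maximal
      (s := {B : Subgroup (AddMonoid.End V)ˣ | φ.range ≤ B ∧ Group.IsSolvable B ∧ ¬ p ∣ Nat.card B})
      (Set.toFinite _) ⟨φ.range, le_rfl, hφs, hφp⟩
    suffices h' : HasPair A' V by
      obtain ⟨x, y, h⟩ := h'
      exact ⟨x, y, fun g e₁ e₂ z => h ⟨g, hle g.2⟩ e₁ e₂ z⟩
    have hirr' : Irreducible' A' V := fun U hU => hirr U fun a w hw => hU ⟨φ a, hle ⟨a, rfl⟩⟩ w hw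
    by_cases himp : Imprimitive A' V
    · exact imprimitive_hasPair hpV hA's hA'p hirr' himp hb (hcol p hp hp2)
    · exact hprim V p hp2 hpV A' hA's hA'p
        (fun B hB hBs hBp => le_antisymm (hmax ⟨hle.trans hB, hBs, hBp⟩ hB) hB) hirr' himp hb

end Cfsg.Lib.CoprimeBase
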