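import Cfsg.Agent.Lib.CoprimeBase.Colour3
import Cfsg.Agent.Lib.CoprimeBase.Reduce

/-!
Distinguishing colourings with `p` colours for soluble groups of order prime to the odd prime `p`.
-/

set_option autoImplicit false

namespace Cfsg.Lib.CoprimeBase

universe v

/-- For every odd prime `p`, soluble groups of order prime to `p` have distinguishing colourings with `p` colours. -/
theorem colourProp (p : ℕ) (hp : p.Prime) (h2 : p ≠ 2) : ColourProp.{v} p := by
  intro G Ω _ _ _ _ hsol hG
  haveI := hsol
  rcases eq_or_ne p 3 with rfl | h3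
  · obtain ⟨f, hf⟩ := three_colour_aux _ G Ω rfl hG
    exact ⟨f, hf⟩
  · have h4 : p ≠ 4 := by rintro rfl; norm_num at hp
    have h5 : 5 ≤ p := by have := hp.two_le; omega
    obtain ⟨f, hf⟩ := (Cfsg.Lib.SolvBase.joint_aux _).2 G Ω rfl
    exact ⟨fun x => Fin.castLE h5 (f x), fun g hg => hf g fun x => Fin.castLE_injective h5 (hg x)⟩

end Cfsg.Lib.CoprimeBase
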