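import Cfsg.Agent.Lib.Coprime.Action
import Mathlib.GroupTheory.SemidirectProduct
import Mathlib.GroupTheory.GroupAction.FixedPoints
import Mathlib.Algebra.Group.Action.Pi
import Mathlib.Algebra.Group.Action.Prod

/-!
Coprime action: the numbers of fixed points of the subgroups of the acting group are multiplicative along
invariant normal subgroups and over invariant Sylow subgroups, and they determine whether two points with common
stabiliser equal to the kernel exist.
-/

set_option autoImplicit false
set_option linter.unusedSectionVars false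
set_option linter.style.haveILetI false

namespace Cfsg.Lib.CoprimeBase

open MulAction

universe u v w

/-- Two points whose common stabiliser acts trivially. -/
def HasPair (A : Type u) (X : Type v) [SMul A X] : Prop :=
  ∃ x y : X, ∀ a : A, a • x = x → a • y = y → ∀ z : X, a • z = z

/-- All subgroups have the same numbers of fixed points. -/
def SameFix (A : Type u) [Group A] (X : Type v) (Y : Type w) [MulAction A X] [MulAction A Y] : Prop :=
  ∀ B : Subgroup A, Nat.card (fixedPoints B X) = Nat.card (fixedPoints B Y)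

section Marks

variable {A : Type u} [Group A] [Finite A] {X : Type v} {Y : Type w} [MulAction A X] [MulAction A Y]
  [Finite X] [Finite Y]

theorem mem_fixedPoints_iff_le_stabilizer (B : Subgroup A) (x : X) :
    x ∈ fixedPoints B X ↔ B ≤ stabilizer A x :=
  ⟨fun h b hb => h ⟨b, hb⟩, fun h b => h b.2⟩

theorem card_fixedPoints_eq_sum (B : Subgroup A) [Fintype (Subgroup A)] [DecidablePred (B ≤ ·)] :
    Nat.card (fixedPoints B X) =
      ∑ C ∈ Finset.univ.filter (B ≤ ·), Nat.card {x : X // stabilizer A x = C} := by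
  classical
  haveI := Fintype.ofFinite X
  simp only [Nat.card_eq_fintype_card, Fintype.card_subtype]
  rw [Finset.card_eq_sum_card_fiberwise (f := fun x : X => stabilizer A x)
    (t := Finset.univ.filter (B ≤ ·)) ?_]
  · refine Finset.sum_congr rfl fun C hC => congrArg _ ?_
    ext x
    simp only [Finset.mem_filter, Finset.mem_univ, true_and] at hC ⊢
    exact ⟨fun h => h.2, fun h => ⟨(mem_fixedPoints_iff_le_stabilizer B x).2 (h ▸ hC), h⟩⟩
  · intro x hx
    simp only [Finset.coe_filter, Finset.mem_univ, true_and, Set.mem_ofPred_eq] at hx ⊢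
    exact (mem_fixedPoints_iff_le_stabilizer B x).1 hx

/-- The numbers of fixed points determine the numbers of points with given stabiliser. -/
theorem SameFix.card_stabilizer_eq (h : SameFix A X Y) (B : Subgroup A) :
    Nat.card {x : X // stabilizer A x = B} = Nat.card {y : Y // stabilizer A y = B} := by
  classical
  haveI := Fintype.ofFinite (Subgroup A)
  induction B using WellFoundedGT.induction with
  | ind B ih =>
    have hX := card_fixedPoints_eq_sum (X := X) B
    have hY := card_fixedPoints_eq_sum (X := Y) B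
    have hB : B ∈ Finset.univ.filter (B ≤ ·) := by simp
    rw [← Finset.add_sum_erase _ _ hB] at hX hY
    have hsum : ∀ C ∈ (Finset.univ.filter (B ≤ ·)).erase B,
        Nat.card {x : X // stabilizer A x = C} = Nat.card {y : Y // stabilizer A y = C} := fun C hC => by
      simp only [Finset.mem_erase, Finset.mem_filter, Finset.mem_univ, true_and] at hC
      exact ih C (lt_of_le_of_ne hC.2 (Ne.symm hC.1))
    rw [Finset.sum_congr rfl hsum] at hX
    have := h B
    omega

theorem SameFix.smul_eq_iff (h : SameFix A X Y) (a : A) : (∀ x : X, a • x = x) ↔ ∀ y : Y, a • y = y := by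
  have key : ∀ (Z : Type v) [MulAction A Z] [Finite Z],
      (∀ z : Z, a • z = z) ↔ Nat.card (fixedPoints (Subgroup.zpowers a) Z) = Nat.card Z := by
    intro Z _ _
    refine ⟨fun hz => ?_, fun hz z => ?_⟩
    · refine Nat.card_congr (Equiv.subtypeUnivEquiv fun z => ?_)
      exact (mem_fixedPoints_iff_le_stabilizer _ z).2 (Subgroup.zpowers_le.2 (hz z))
    · have : fixedPoints (Subgroup.zpowers a) Z = Set.univ :=
        Set.eq_of_subset_of_ncard_le (Set.subset_univ _) (by rw [Set.ncard_univ, ← Nat.card_coe_set_eq, hz])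
      have hmem : z ∈ fixedPoints (Subgroup.zpowers a) Z := this ▸ Set.mem_univ z
      exact hmem ⟨a, Subgroup.mem_zpowers a⟩
  have key' : ∀ (Z : Type w) [MulAction A Z] [Finite Z],
      (∀ z : Z, a • z = z) ↔ Nat.card (fixedPoints (Subgroup.zpowers a) Z) = Nat.card Z := by
    intro Z _ _
    refine ⟨fun hz => ?_, fun hz z => ?_⟩
    · refine Nat.card_congr (Equiv.subtypeUnivEquiv fun z => ?_)
      exact (mem_fixedPoints_iff_le_stabilizer _ z).2 (Subgroup.zpowers_le.2 (hz z))
    · have : fixedPoints (Subgroup.zpowers a) Z = Set.univ :=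
        Set.eq_of_subset_of_ncard_le (Set.subset_univ _) (by rw [Set.ncard_univ, ← Nat.card_coe_set_eq, hz])
      have hmem : z ∈ fixedPoints (Subgroup.zpowers a) Z := this ▸ Set.mem_univ z
      exact hmem ⟨a, Subgroup.mem_zpowers a⟩
  have hcard : Nat.card X = Nat.card Y := by
    have h1 : ∀ (Z : Type v) [MulAction A Z], fixedPoints (⊥ : Subgroup A) Z = Set.univ := fun Z _ =>
      Set.eq_univ_of_forall fun z b => by rw [Subsingleton.elim b 1, one_smul]
    have h2 : ∀ (Z : Type w) [MulAction A Z], fixedPoints (⊥ : Subgroup A) Z = Set.univ := fun Z _ =>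
      Set.eq_univ_of_forall fun z b => by rw [Subsingleton.elim b 1, one_smul]
    have := h ⊥
    rwa [h1, h2, Nat.card_coe_set_eq, Nat.card_coe_set_eq, Set.ncard_univ, Set.ncard_univ] at this
  rw [key, key', h, hcard]

omit [Finite A] in
theorem SameFix.prod (h : SameFix A X Y) : SameFix A (X × X) (Y × Y) := fun B => by
  have e : ∀ (Z : Type v) [MulAction A Z], fixedPoints B (Z × Z) ≃ fixedPoints B Z × fixedPoints B Z :=
    fun Z _ =>
    { toFun := fun p => (⟨p.1.1, fun b => congrArg Prod.fst (p.2 b)⟩, ⟨p.1.2, fun b => congrArg Prod.snd (p.2 b)⟩)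
      invFun := fun p => ⟨(p.1.1, p.2.1), fun b => Prod.ext (p.1.2 b) (p.2.2 b)⟩
      left_inv := fun p => rfl
      right_inv := fun p => rfl }
  have e' : ∀ (Z : Type w) [MulAction A Z], fixedPoints B (Z × Z) ≃ fixedPoints B Z × fixedPoints B Z :=
    fun Z _ =>
    { toFun := fun p => (⟨p.1.1, fun b => congrArg Prod.fst (p.2 b)⟩, ⟨p.1.2, fun b => congrArg Prod.snd (p.2 b)⟩)
      invFun := fun p => ⟨(p.1.1, p.2.1), fun b => Prod.ext (p.1.2 b) (p.2.2 b)⟩
      left_inv := fun p => rfl
      right_inv := fun p => rfl }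
  rw [Nat.card_congr (e X), Nat.card_congr (e' Y), Nat.card_prod, Nat.card_prod, h B]

/-- A pair transfers along equal numbers of fixed points. -/
theorem SameFix.hasPair (h : SameFix A X Y) (hY : HasPair A Y) : HasPair A X := by
  obtain ⟨y₁, y₂, hy⟩ := hY
  have h2 := h.prod.card_stabilizer_eq (stabilizer A (y₁, y₂))
  have hpos : 0 < Nat.card {p : X × X // stabilizer A p = stabilizer A (y₁, y₂)} := by
    rw [h2]
    haveI : Nonempty {p : Y × Y // stabilizer A p = stabilizer A (y₁, y₂)} := ⟨⟨_, rfl⟩⟩
    exact Nat.card_pos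
  obtain ⟨⟨⟨x₁, x₂⟩, hx⟩⟩ := (Nat.card_pos_iff.1 hpos).1
  refine ⟨x₁, x₂, fun a h1 h2 => (h.smul_eq_iff a).2 ?_⟩
  have ha : a ∈ stabilizer A (y₁, y₂) := hx ▸ (show a • (x₁, x₂) = (x₁, x₂) from Prod.ext h1 h2)
  exact hy a (congrArg Prod.fst ha) (congrArg Prod.snd ha)

end Marks

theorem hasPair_prod {A : Type u} {X : Type v} {Y : Type w} [Group A] [MulAction A X] [MulAction A Y]
    (hX : HasPair A X) (hY : HasPair A Y) : HasPair A (X × Y) := by
  obtain ⟨x₁, x₂, hx⟩ := hX
  obtain ⟨y₁, y₂, hy⟩ := hY
  exact ⟨(x₁, y₁), (x₂, y₂), fun a h1 h2 z => Prod.ext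
    (hx a (congrArg Prod.fst h1) (congrArg Prod.fst h2) z.1)
    (hy a (congrArg Prod.snd h1) (congrArg Prod.snd h2) z.2)⟩

theorem hasPair_pi {A : Type u} {ι : Type w} {X : ι → Type v} [Group A] [∀ i, MulAction A (X i)]
    (h : ∀ i, HasPair A (X i)) : HasPair A (∀ i, X i) := by
  choose x y hxy using h
  exact ⟨x, y, fun a h1 h2 z => funext fun i => hxy i a (congrFun h1 i) (congrFun h2 i) (z i)⟩

section Coprime

variable {A : Type u} {K : Type v} [Group A] [Finite A] [Group K] [Finite K] [MulDistribMulAction A K]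

/-- The semidirect product. -/
abbrev Holo (A : Type u) (K : Type v) [Group A] [Group K] [MulDistribMulAction A K] : Type _ :=
  K ⋊[MulDistribMulAction.toMulAut A K] A

instance : Finite (Holo A K) := Finite.of_equiv _ SemidirectProduct.equivProd.symm

theorem inr_mul_inl_mul_inv (a : A) (k : K) :
    (SemidirectProduct.inr a : Holo A K) * SemidirectProduct.inl k * (SemidirectProduct.inr a)⁻¹ =
      SemidirectProduct.inl (a • k) := by
  rw [← map_inv]; exact (SemidirectProduct.inl_aut a k).symm

theorem map_inr_le_normalizer (B : Subgroup A) (H : Subgroup K) (hH : ∀ b ∈ B, ∀ k ∈ H, b • k ∈ H) :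
    B.map (SemidirectProduct.inr : A →* Holo A K) ≤
      Subgroup.normalizer ((H.map (SemidirectProduct.inl : K →* Holo A K) : Subgroup (Holo A K)) : Set (Holo A K)) := by
  rintro _ ⟨b, hb, rfl⟩
  rw [Subgroup.mem_normalizer_iff]
  intro y
  constructor
  · rintro ⟨k, hk, rfl⟩
    exact ⟨b • k, hH b hb k hk, (inr_mul_inl_mul_inv b k).symm⟩
  · rintro ⟨k, hk, hky⟩
    refine ⟨b⁻¹ • k, hH _ (inv_mem hb) k hk, ?_⟩
    rw [← inr_mul_inl_mul_inv, hky, map_inv]
    group

theorem mem_centralizer_map_inr {B : Subgroup A} {k : K} :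
    SemidirectProduct.inl k ∈ Subgroup.centralizer
      ((B.map (SemidirectProduct.inr : A →* Holo A K) : Subgroup (Holo A K)) : Set (Holo A K)) ↔
      k ∈ fixedPoints B K := by
  rw [Subgroup.mem_centralizer_iff]
  constructor
  · intro h b
    have h1 := h _ ⟨b, b.2, rfl⟩
    refine SemidirectProduct.inl_injective (?_ : (SemidirectProduct.inl ((b : A) • k) : Holo A K) = _)
    rw [← inr_mul_inl_mul_inv, h1, mul_inv_cancel_right]
  · rintro h _ ⟨b, hb, rfl⟩
    have := h ⟨b, hb⟩
    rw [← mul_inv_eq_iff_eq_mul, inr_mul_inl_mul_inv]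
    exact congrArg _ this

theorem coprime_map {B : Subgroup A} {H : Subgroup K} (hcop : (Nat.card A).Coprime (Nat.card K)) :
    (Nat.card (B.map (SemidirectProduct.inr : A →* Holo A K))).Coprime
      (Nat.card (H.map (SemidirectProduct.inl : K →* Holo A K))) := by
  rw [Subgroup.card_map_of_injective SemidirectProduct.inr_injective,
    Subgroup.card_map_of_injective SemidirectProduct.inl_injective]
  exact (hcop.coprime_dvd_left (Subgroup.card_subgroup_dvd_card B)).coprime_dvd_right
    (Subgroup.card_subgroup_dvd_card H)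

theorem sol_map {B : Subgroup A} {H : Subgroup K} (hA : Group.IsSolvable A) :
    Group.IsSolvable (B.map (SemidirectProduct.inr : A →* Holo A K)) ∨
      Group.IsSolvable (H.map (SemidirectProduct.inl : K →* Holo A K)) := by
  haveI := hA
  exact Or.inl (Group.isSolvable_of_surjective
    (MonoidHom.subgroupMap_surjective (SemidirectProduct.inr : A →* Holo A K) B))

/-- Fixed points lift from the quotient by an invariant normal subgroup. -/
theorem exists_fixed_lift (hA : Group.IsSolvable A) (hcop : (Nat.card A).Coprime (Nat.card K))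
    (B : Subgroup A) {N : Subgroup K} (hN : ∀ a : A, ∀ k ∈ N, a • k ∈ N) {k : K}
    (hk : ∀ b ∈ B, k * (b • k)⁻¹ ∈ N) : ∃ n ∈ N, n * k ∈ fixedPoints B K := by
  obtain ⟨n, ⟨n', hn', rfl⟩, c, hc, hkc⟩ :=
    Cfsg.Lib.Coprime.exists_mul_centralizer_of_commutator_mem
      (map_inr_le_normalizer B ⊤ (fun _ _ _ _ => Subgroup.mem_top _)) (coprime_map hcop) (sol_map hA)
      (Subgroup.map_mono (le_top : N ≤ ⊤)) (map_inr_le_normalizer B N fun b _ => hN b)
      (x := SemidirectProduct.inl k) ⟨k, Subgroup.mem_top _, rfl⟩ (by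
        rintro _ ⟨b, hb, rfl⟩
        refine ⟨k * (b • k)⁻¹, hk b hb, ?_⟩
        rw [map_mul, map_inv, ← inr_mul_inl_mul_inv, commutatorElement_def]
        group)
  obtain ⟨c', -, rfl⟩ := hc.1
  refine ⟨n'⁻¹, inv_mem hn', ?_⟩
  rw [← mem_centralizer_map_inr, map_mul, map_inv, hkc, inv_mul_cancel_left]
  exact hc.2

/-- The subgroup of fixed points. -/
def fixSubgroup (K : Type v) [Group K] [MulDistribMulAction A K] (B : Subgroup A) : Subgroup K where
  carrier := fixedPoints B K
  one_mem' := fun b => smul_one (b : A)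
  mul_mem' := fun {x y} hx hy b => by
    show (b : A) • (x * y) = x * y
    rw [smul_mul', show (b : A) • x = x from hx b, show (b : A) • y = y from hy b]
  inv_mem' := fun {x} hx b => by
    show (b : A) • x⁻¹ = x⁻¹
    rw [smul_inv', show (b : A) • x = x from hx b]

/-- The action on the quotient by an invariant normal subgroup. -/
abbrev quotAct {N : Subgroup K} [N.Normal] (hN : ∀ a : A, ∀ k ∈ N, a • k ∈ N) :
    MulDistribMulAction A (K ⧸ N) where
  smul a := QuotientGroup.map N N (MulDistribMulAction.toMonoidHom K a) fun k hk => hN a k hk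
  one_smul q := QuotientGroup.induction_on q fun k => congrArg _ (one_smul A k)
  mul_smul a b q := QuotientGroup.induction_on q fun k => congrArg _ (mul_smul a b k)
  smul_mul a x y := map_mul _ x y
  smul_one a := map_one _

/-- The action on an invariant subgroup. -/
abbrev subgAct {N : Subgroup K} (hN : ∀ a : A, ∀ k ∈ N, a • k ∈ N) : MulDistribMulAction A N where
  smul a k := ⟨a • (k : K), hN a k k.2⟩
  one_smul k := Subtype.ext (one_smul A (k : K))
  mul_smul a b k := Subtype.ext (mul_smul a b (k : K))
  smul_mul a x y := Subtype.ext (smul_mul' a (x : K) y)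
  smul_one a := Subtype.ext (smul_one a)

theorem sameFix_extension (hA : Group.IsSolvable A) (hcop : (Nat.card A).Coprime (Nat.card K))
    {N : Subgroup K} [N.Normal] (hN : ∀ a : A, ∀ k ∈ N, a • k ∈ N) :
    letI := subgAct hN
    letI := quotAct hN
    SameFix A K (N × (K ⧸ N)) := by
  letI := subgAct hN
  letI := quotAct hN
  intro B
  let f : fixSubgroup K B →* K ⧸ N := (QuotientGroup.mk' N).comp (fixSubgroup K B).subtype
  have hrange : (f.range : Set (K ⧸ N)) = fixedPoints B (K ⧸ N) := by
    ext q
    constructor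
    · rintro ⟨k, rfl⟩ b
      exact congrArg (QuotientGroup.mk' N) (k.2 b)
    · intro hq
      induction q using QuotientGroup.induction_on with
      | H k =>
        obtain ⟨n, hn, hnk⟩ := exists_fixed_lift hA hcop B hN (k := k) (fun b hb => by
          have h1 : ((b • k : K) : K ⧸ N) = k := hq ⟨b, hb⟩
          exact (Subgroup.Normal.mem_comm_iff inferInstance).1 (QuotientGroup.eq.1 h1))
        refine ⟨⟨n * k, hnk⟩, ?_⟩
        show ((n * k : K) : K ⧸ N) = k
        rw [QuotientGroup.mk_mul, (QuotientGroup.eq_one_iff n).2 hn, one_mul]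
  have hker : Nat.card f.ker = Nat.card (fixedPoints B N) := Nat.card_congr
    { toFun := fun k => ⟨⟨k.1.1, (QuotientGroup.eq_one_iff _).1 k.2⟩, fun b => Subtype.ext (k.1.2 b)⟩
      invFun := fun k => ⟨⟨k.1.1, fun b => congrArg Subtype.val (k.2 b)⟩, (QuotientGroup.eq_one_iff _).2 k.1.2⟩
      left_inv := fun k => rfl
      right_inv := fun k => rfl }
  have e : fixedPoints B (N × (K ⧸ N)) ≃ fixedPoints B N × fixedPoints B (K ⧸ N) :=
    { toFun := fun p => (⟨p.1.1, fun b => congrArg Prod.fst (p.2 b)⟩, ⟨p.1.2, fun b => congrArg Prod.snd (p.2 b)⟩)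
      invFun := fun p => ⟨(p.1.1, p.2.1), fun b => Prod.ext (p.1.2 b) (p.2.2 b)⟩
      left_inv := fun p => rfl
      right_inv := fun p => rfl }
  rw [Nat.card_congr e, Nat.card_prod, ← hker, ← Nat.card_congr (Equiv.setCongr hrange)]
  show Nat.card (fixSubgroup K B) = Nat.card f.ker * Nat.card f.range
  rw [← Subgroup.index_ker, mul_comm, Subgroup.index_mul_card]

/-- Invariant Sylow subgroups carry the number of fixed points. -/
theorem card_fixed_sylow (hA : Group.IsSolvable A) (hcop : (Nat.card A).Coprime (Nat.card K))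
    {p : ℕ} [hp : Fact p.Prime] (P : Sylow p K) (hP : ∀ a : A, ∀ k ∈ (P : Subgroup K), a • k ∈ (P : Subgroup K))
    (B : Subgroup A) :
    Nat.card ((P : Subgroup K) ⊓ fixSubgroup K B : Subgroup K) =
      p ^ (Nat.card (fixSubgroup K B)).factorization p := by
  obtain ⟨R⟩ : Nonempty (Sylow p (fixSubgroup K B)) := inferInstance
  set il := (SemidirectProduct.inl : K →* Holo A K) with hil
  have hinj : Function.Injective il := SemidirectProduct.inl_injective
  set R' := ((R : Subgroup (fixSubgroup K B)).map (fixSubgroup K B).subtype) with hR'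
  let G := (⊤ : Subgroup K).map il
  have hBG := map_inr_le_normalizer (A := A) (K := K) B ⊤ (fun _ _ _ _ => Subgroup.mem_top _)
  obtain ⟨Q, hQR, hQ⟩ := Cfsg.Lib.Coprime.exists_invariant_sylow_ge hBG (coprime_map hcop) (sol_map hA)
    (p := p) (U := R'.map il) (Subgroup.map_mono le_top) ((R.2.map _).map _) (by
      refine map_inr_le_normalizer B R' fun b hb k hk => ?_
      obtain ⟨r, hr, rfl⟩ := hk
      exact (r.2 ⟨b, hb⟩).symm ▸ ⟨r, hr, rfl⟩)
  let P' : Sylow p G := Sylow.ofCard (((P : Subgroup K).map il).subgroupOf G) (by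
    rw [Nat.card_congr (Subgroup.subgroupOfEquivOfLe (Subgroup.map_mono le_top)).toEquiv,
      Subgroup.card_map_of_injective hinj, Subgroup.card_map_of_injective hinj, Subgroup.card_top]
    exact P.card_eq_multiplicity)
  have hP' : (P' : Subgroup G).map G.subtype = (P : Subgroup K).map il := by
    rw [Sylow.coe_ofCard, Subgroup.map_subgroupOf_eq_of_le (Subgroup.map_mono le_top)]
  obtain ⟨c, hc, hQP⟩ := Cfsg.Lib.Coprime.exists_centralizer_conj_sylow hBG (coprime_map hcop) (sol_map hA)
    Q P' hQ (hP' ▸ map_inr_le_normalizer B _ fun b _ => hP b)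
  obtain ⟨c', -, rfl⟩ := hc.1
  have hc' : c' ∈ fixSubgroup K B := mem_centralizer_map_inr.1 hc.2
  rw [hP'] at hQP
  -- conjugation by the centralising element carries the Sylow subgroup of the fixed points into `P`
  have hle : R'.map (MulAut.conj c').toMonoidHom ≤ (P : Subgroup K) ⊓ fixSubgroup K B := by
    rintro _ ⟨r, hr, rfl⟩
    show c' * r * c'⁻¹ ∈ (P : Subgroup K) ⊓ fixSubgroup K B
    refine ⟨?_, (fixSubgroup K B).mul_mem ((fixSubgroup K B).mul_mem hc' ?_) ((fixSubgroup K B).inv_mem hc')⟩
    · have h1 : il (c' * r * c'⁻¹) ∈ (P : Subgroup K).map il := by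
        rw [hQP]
        exact ⟨il r, hQR ⟨r, hr, rfl⟩, by simp [hil]⟩
      obtain ⟨x, hx, hxe⟩ := h1
      exact hinj hxe ▸ hx
    · obtain ⟨r', -, rfl⟩ := hr
      exact r'.2
  have h1 : Nat.card R' = p ^ (Nat.card (fixSubgroup K B)).factorization p := by
    rw [Subgroup.card_map_of_injective (fixSubgroup K B).subtype_injective, R.card_eq_multiplicity]
  refine le_antisymm ?_ (h1 ▸ ?_)
  · obtain ⟨j, hj⟩ := IsPGroup.iff_card.1 (P.2.to_le (inf_le_left : (P : Subgroup K) ⊓ fixSubgroup K B ≤ P))
    rw [hj]
    refine Nat.pow_le_pow_right hp.out.pos ?_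
    refine (Nat.Prime.pow_dvd_iff_le_factorization hp.out Nat.card_pos.ne').1 ?_
    rw [← hj]
    exact Subgroup.card_dvd_of_le inf_le_right
  · rw [← Subgroup.card_map_of_injective (f := (MulAut.conj c').toMonoidHom) (MulAut.conj c').injective]
    exact Nat.le_of_dvd Nat.card_pos (Subgroup.card_dvd_of_le hle)

theorem exists_invariant_sylow' (hA : Group.IsSolvable A) (hcop : (Nat.card A).Coprime (Nat.card K))
    (p : ℕ) [hp : Fact p.Prime] : ∃ P : Sylow p K, ∀ a : A, ∀ k ∈ (P : Subgroup K), a • k ∈ (P : Subgroup K) := by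
  set il := (SemidirectProduct.inl : K →* Holo A K) with hil
  have hinj : Function.Injective il := SemidirectProduct.inl_injective
  let G := (⊤ : Subgroup K).map il
  obtain ⟨Q, hQ⟩ := Cfsg.Lib.Coprime.exists_invariant_sylow
    (map_inr_le_normalizer (A := A) (K := K) ⊤ ⊤ (fun _ _ _ _ => Subgroup.mem_top _))
    (coprime_map hcop) (sol_map hA) p
  have hle : (Q : Subgroup G).map G.subtype ≤ il.range :=
    (Subgroup.map_subtype_le _).trans (Subgroup.map_le_range _ _)
  refine ⟨Sylow.ofCard (((Q : Subgroup G).map G.subtype).comap il) ?_, fun a k hk => ?_⟩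
  · rw [← Subgroup.card_map_of_injective hinj, Subgroup.map_comap_eq_self hle,
      Subgroup.card_map_of_injective G.subtype_injective, Q.card_eq_multiplicity,
      Subgroup.card_map_of_injective hinj, Subgroup.card_top]
  · rw [Sylow.coe_ofCard, Subgroup.mem_comap] at hk ⊢
    rw [hil, ← inr_mul_inl_mul_inv]
    exact (Subgroup.mem_normalizer_iff.1 (hQ ⟨a, Subgroup.mem_top a, rfl⟩) _).1 hk

end Coprime

/-- Reduction to abelian groups. -/
theorem hasPair_of_abelian
    (hab : ∀ (A : Type u) (V : Type v) [Group A] [Finite A] [AddCommGroup V] [Finite V]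
      [DistribMulAction A V], Group.IsSolvable A → (Nat.card A).Coprime (Nat.card V) → HasPair A V)
    {A : Type u} [Group A] [Finite A] (hA : Group.IsSolvable A) :
    ∀ (n : ℕ) (K : Type v) [Group K] [Finite K] [MulDistribMulAction A K],
      Nat.card K = n → (Nat.card A).Coprime (Nat.card K) → HasPair A K := by
  intro n
  induction n using Nat.strong_induction_on with
  | _ n ih =>
    intro K _ _ _ hn hcop
    subst hn
    by_cases hcomm : IsMulCommutative K
    · letI : CommGroup K := { (inferInstance : Group K) with mul_comm := mul_comm' }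
      letI : DistribMulAction A (Additive K) :=
        { smul := fun a k => Additive.ofMul (a • k.toMul)
          one_smul := fun k => congrArg Additive.ofMul (one_smul A k.toMul)
          mul_smul := fun a b k => congrArg Additive.ofMul (mul_smul a b k.toMul)
          smul_zero := fun a => congrArg Additive.ofMul (show a • (1 : K) = 1 from smul_one a)
          smul_add := fun a x y => congrArg Additive.ofMul (smul_mul' a x.toMul y.toMul) }
      obtain ⟨x, y, h⟩ := hab A (Additive K) hA hcop
      exact ⟨x.toMul, y.toMul, fun a h1 h2 z =>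
        congrArg Additive.toMul (h a (congrArg Additive.ofMul h1) (congrArg Additive.ofMul h2) (Additive.ofMul z))⟩
    by_cases hpg : ∃ p : ℕ, p.Prime ∧ IsPGroup p K
    · obtain ⟨p, hp, hK⟩ := hpg
      haveI := Fact.mk hp
      haveI : Nontrivial K := by
        by_contra h
        rw [not_nontrivial_iff_subsingleton] at h
        exact hcomm ⟨⟨fun a b => Subsingleton.elim _ _⟩⟩
      haveI : Nontrivial (Subgroup.center K) := hK.center_nontrivial
      have hN : ∀ a : A, ∀ k ∈ Subgroup.center K, a • k ∈ Subgroup.center K := fun a k hk => by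
        have := Subgroup.characteristic_iff_le_comap.1 (inferInstance : (Subgroup.center K).Characteristic)
          (MulDistribMulAction.toMulAut A K a) hk
        exact this
      letI := subgAct hN
      letI := quotAct hN
      have h1 : Nat.card (Subgroup.center K) < Nat.card K := by
        obtain ⟨y, -, hy⟩ := SetLike.exists_of_lt (lt_top_iff_ne_top.2 fun h : Subgroup.center K = ⊤ =>
          hcomm ⟨⟨fun a b => Subgroup.mem_center_iff.1 (h ▸ Subgroup.mem_top b) a⟩⟩)
        exact Finite.card_subtype_lt (p := (· ∈ Subgroup.center K)) hy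
      have hidx := Subgroup.index_mul_card (Subgroup.center K)
      have hone : 1 < Nat.card (Subgroup.center K) := Finite.one_lt_card
      have h2 : Nat.card (K ⧸ Subgroup.center K) < Nat.card K := by
        show (Subgroup.center K).index < _
        nlinarith [Nat.pos_of_ne_zero (Subgroup.index_ne_zero_of_finite (H := Subgroup.center K))]
      exact (sameFix_extension hA hcop hN).hasPair (hasPair_prod
        (ih _ h1 _ rfl (hcop.coprime_dvd_right (Subgroup.card_subgroup_dvd_card _)))
        (ih _ h2 _ rfl (hcop.coprime_dvd_right (Subgroup.card_quotient_dvd_card _))))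
    -- product of invariant Sylow subgroups
    push Not at hpg
    have hP : ∀ p : (Nat.card K).primeFactors, ∃ P : Subgroup K, (∀ a : A, ∀ k ∈ P, a • k ∈ P) ∧
        Nat.card P < Nat.card K ∧
        ∀ B : Subgroup A, Nat.card (P ⊓ fixSubgroup K B : Subgroup K) =
          (p : ℕ) ^ (Nat.card (fixSubgroup K B)).factorization p := by
      intro p
      haveI := Fact.mk (Nat.prime_of_mem_primeFactors p.2)
      obtain ⟨P, hP⟩ := exists_invariant_sylow' hA hcop (p : ℕ)
      refine ⟨P, hP, ?_, card_fixed_sylow hA hcop P hP⟩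
      obtain ⟨y, -, hy⟩ := SetLike.exists_of_lt (lt_top_iff_ne_top.2 fun h : (P : Subgroup K) = ⊤ =>
        hpg p (Nat.prime_of_mem_primeFactors p.2) ((h ▸ P.2 : IsPGroup (p : ℕ) (⊤ : Subgroup K)).of_equiv Subgroup.topEquiv))
      exact Finite.card_subtype_lt (p := (· ∈ (P : Subgroup K))) hy
    choose P hPinv hPlt hPfix using hP
    letI : ∀ p, MulDistribMulAction A (P p) := fun p => subgAct (hPinv p)
    have hsame : SameFix A K (∀ p, P p) := by
      intro B
      have e : fixedPoints B (∀ p, P p) ≃ ∀ p, (P p ⊓ fixSubgroup K B : Subgroup K) :=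
        { toFun := fun f p => ⟨f.1 p, (f.1 p).2, fun b => congrArg Subtype.val (congrFun (f.2 b) p)⟩
          invFun := fun f => ⟨fun p => ⟨f p, (f p).2.1⟩, fun b => funext fun p => Subtype.ext ((f p).2.2 b)⟩
          left_inv := fun f => rfl
          right_inv := fun f => rfl }
      rw [Nat.card_congr e, Nat.card_pi]
      simp only [hPfix]
      show Nat.card (fixSubgroup K B) = _
      rw [Finset.univ_eq_attach, Finset.prod_attach _ (fun p => p ^ (Nat.card (fixSubgroup K B)).factorization p)]
      conv_lhs => rw [← Nat.prod_factorization_pow_eq_self (Nat.card_pos (α := fixSubgroup K B)).ne']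
      rw [Finsupp.prod_of_support_subset _ ?_ _ (fun i _ => pow_zero i)]
      exact Nat.primeFactors_mono (Subgroup.card_subgroup_dvd_card _) Nat.card_pos.ne'
    exact hsame.hasPair (hasPair_pi fun p => ih _ (hPlt p) _ rfl
      (hcop.coprime_dvd_right (Subgroup.card_subgroup_dvd_card _)))

end Cfsg.Lib.CoprimeBase
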