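import Cfsg.Agent.Lib.CoprimeBase.Cert
import Mathlib.GroupTheory.OrderOfElement
import Mathlib.Algebra.GroupWithZero.Action.Defs

/-!
A group of order prime to three cannot contain a transversal of options every one of which has two members with
product of order divisible by three.
-/

set_option autoImplicit false
set_option linter.unusedSectionVars false

namespace Cfsg.Lib.CoprimeBase.Cert

variable (m : Model)

/-- Iteration of a product of two matrices. -/
def iter (A B : List ℕ) : ℕ → ℕ → ℕ
  | 0, l => l
  | k + 1, l => force (mat m A (mat m B l)) fun l' => iter A B k l'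

/-- The product has order divisible by three. -/
def bad (A B : List ℕ) : Bool :=
  [1, 2, 3, 4, 6, 8, 12].any fun t =>
    (List.range m.n).all (fun i => iter m A B (3 * t) (16 ^ i) == 16 ^ i) &&
      (List.range m.n).any fun i => !(iter m A B t (16 ^ i) == 16 ^ i)

/-- Every transversal contains a bad pair. -/
def cover : List (List (List ℕ)) → List (List ℕ) → Bool
  | [], _ => false
  | opts :: rest, ch => opts.all fun M => ch.any (fun C => bad m C M) || cover rest (M :: ch)

variable {m} {V : Type*} [AddCommGroup V] {A : Type*} [Group A] [Finite A] [DistribMulAction A V]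
  {b : Fin m.n → V}

theorem cover_sound (hp : ∀ x : V, m.p • x = 0) (h1 : 1 < m.p) (h16 : m.p ≤ 16)
    (hinj : ∀ l l', Canon m.p m.n l → Canon m.p m.n l' → toV b l = toV b l' → l = l') (hA : ¬ 3 ∣ Nat.card A) :
    ∀ (L : List (List (List ℕ))) (ch : List (List ℕ)),
      (∀ opts ∈ L, ∃ M ∈ opts, ∃ a : A, ∀ i : Fin m.n, a • b i = toV b (M.getD i 0)) →
      (∀ M ∈ ch, ∃ a : A, ∀ i : Fin m.n, a • b i = toV b (M.getD i 0)) → cover m L ch = true → False
  | [], _, _, _, h => by simp [cover] at h
  | opts :: rest, ch, hL, hch, h => by
    obtain ⟨M, hM, a, ha⟩ := hL opts (by simp)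
    simp only [cover, List.all_eq_true, Bool.or_eq_true, List.any_eq_true] at h
    rcases h M hM with ⟨C, hC, hbad⟩ | hrest
    · obtain ⟨c, hc⟩ := hch C hC
      simp only [bad, List.any_eq_true, Bool.and_eq_true, List.all_eq_true, List.mem_range, beq_iff_eq,
        Bool.not_eq_true', beq_eq_false_iff_ne] at hbad
      obtain ⟨t, _, hfix, i, hi, hmove⟩ := hbad
      have h0 : 0 < m.p := by omega
      have hstep : ∀ l, (c * a) • toV b l = toV b (mat m C (mat m M l)) := fun l => by
        rw [mul_smul]
        have h2 := matrix_of_basis hp h0 h16 (a := DistribSMul.toAddMonoidHom V a) ha l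
        have h3 := matrix_of_basis hp h0 h16 (a := DistribSMul.toAddMonoidHom V c) hc (mat m M l)
        simp only [DistribSMul.toAddMonoidHom_apply] at h2 h3
        rw [h2, h3]
      have hpow : ∀ k l, (c * a) ^ k • toV b l = toV b (iter m C M k l) := by
        intro k
        induction k with
        | zero => intro l; simp [iter]
        | succ k ih => intro l; rw [pow_succ, mul_smul, hstep, ih, iter, force_eq]
      refine hmove (hinj _ _ ?_ (canon_pow h1 hi) ?_)
      · have hcanon : ∀ (k l : ℕ), Canon m.p m.n l → Canon m.p m.n (iter m C M k l) := by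
          intro k
          induction k with
          | zero => exact fun l hl => hl
          | succ k ih => intro l hl; rw [iter, force_eq]; exact ih _ (canon_lin h0 h16 _ _)
        exact hcanon _ _ (canon_pow h1 hi)
      rw [← hpow]
      have hfix3 : ((c * a) ^ (3 * t)) • toV b (16 ^ i) = toV b (16 ^ i) := by rw [hpow, hfix i hi]
      have hcop : Nat.Coprime 3 (orderOf (c * a)) := Nat.prime_three.coprime_iff_not_dvd.2 fun hd =>
        hA (hd.trans (orderOf_dvd_natCard _))
      obtain ⟨u, hu⟩ := exists_pow_eq_self_of_coprime hcop
      have key : ((c * a) ^ (3 * t)) ^ u = (c * a) ^ t := by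
        rw [← pow_mul, mul_comm 3 t, mul_assoc, mul_comm t, pow_mul, pow_mul, hu]
      have hiter : ∀ k : ℕ, ((c * a) ^ (3 * t)) ^ k • toV b (16 ^ i) = toV b (16 ^ i) := by
        intro k
        induction k with
        | zero => simp
        | succ k ih => rw [pow_succ, mul_smul, hfix3, ih]
      rw [← key]
      exact hiter u
    · exact cover_sound hp h1 h16 hinj hA rest (M :: ch) (fun o ho => hL o (by simp [ho]))
        (fun M' hM' => by
          rcases List.mem_cons.1 hM' with rfl | h'
          exacts [⟨a, ha⟩, hch M' h']) hrest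

end Cfsg.Lib.CoprimeBase.Cert
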