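import Cfsg.Agent.Lib.CoprimeBase.Reduce
import Cfsg.Agent.Lib.Sig.SSFT.Alpha

/-!
The scalars of a maximal primitive soluble group of order prime to the characteristic: its abelian normal
subgroups generate fields, and the centre of a normal subgroup of class two is the multiplicative group of one.
-/

set_option autoImplicit false
set_option linter.unusedSectionVars false
set_option linter.style.haveILetI false

namespace Cfsg.Lib.CoprimeBase

open MulAction Cfsg.Lib.OddBase
open scoped Pointwise commutatorElement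

universe v

/-- A normal subgroup of class two containing its centraliser, whose centre is the group of units of a field. -/
structure Setting (A V : Type v) [Group A] [AddCommGroup V] [DistribMulAction A V] (p : ℕ) where
  N : Subgroup A
  normal : N.Normal
  hcl : commutator N ≤ Subgroup.center N
  hCN : Subgroup.centralizer (N : Set A) ≤ N
  hfpf : FixedPointFree V (Subgroup.center N)
  hcyc : ∀ B : Subgroup N, B.Characteristic → IsMulCommutative B → IsCyclic B
  hp : ∀ x : V, p • x = 0
  hp2 : p ≠ 2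
  hpA : ¬ p ∣ Nat.card A
  hq : ∃ f : ℕ, Nat.card (Subgroup.center N) + 1 = p ^ f
  hadd : ∀ k ∈ Subgroup.center N, ∀ k' ∈ Subgroup.center N, (∀ w : V, k • w + k' • w = 0) ∨
    ∃ k'' ∈ Subgroup.center N, ∀ w : V, k • w + k' • w = k'' • w
  hnat : ∀ c : ℕ, ¬ p ∣ c → ∃ k ∈ Subgroup.center N, ∀ w : V, k • w = c • w

section Field

variable {V : Type v} [AddCommGroup V] [Finite V] (A : Subgroup (AddMonoid.End V)ˣ)

/-- Stability under conjugation by the group. -/
def ConjStable (R : Subring (AddMonoid.End V)) : Prop :=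
  ∀ a ∈ A, ∀ r ∈ R, (a : AddMonoid.End V) * r * ((a⁻¹ : (AddMonoid.End V)ˣ) : AddMonoid.End V) ∈ R

theorem exists_idempotent_pow {M : Type*} [Monoid M] [Finite M] (x : M) :
    ∃ n : ℕ, 0 < n ∧ x ^ n * x ^ n = x ^ n := by
  obtain ⟨i, j, hne, he⟩ := Finite.exists_ne_map_eq_of_infinite fun n : ℕ => x ^ n
  wlog hij : i < j generalizing i j
  · exact this j i hne.symm he.symm (lt_of_le_of_ne (not_lt.1 hij) hne.symm)
  set d := j - i with hd
  have hper : ∀ k m : ℕ, i ≤ m → x ^ (m + k * d) = x ^ m := by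
    intro k
    induction k with
    | zero => simp
    | succ k ih =>
      intro m hm
      have h1 : x ^ (m + d) = x ^ m := by
        rw [show m + d = (m - i) + j by omega, pow_add, ← show x ^ i = x ^ j from he, ← pow_add,
          Nat.sub_add_cancel hm]
      rw [show m + (k + 1) * d = (m + d) + k * d by ring, ih _ (by omega), h1]
  refine ⟨(i + 1) * d, Nat.mul_pos (Nat.succ_pos i) (by omega), ?_⟩
  rw [← pow_add]
  exact hper (i + 1) _ (le_trans (Nat.le_succ i) (Nat.le_mul_of_pos_right _ (by omega)))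

variable {A}

/-- A commutative stable subring of an irreducible group without a system of imprimitivity is a field. -/
theorem isUnit_of_stable [Nontrivial V] (hirr : Irreducible' A V) (himp : ¬ Imprimitive A V)
    {R : Subring (AddMonoid.End V)} (hcomm : ∀ x ∈ R, ∀ y ∈ R, x * y = y * x) (hst : ConjStable A R)
    {r : AddMonoid.End V} (hr : r ∈ R) (hr0 : r ≠ 0) : IsUnit r := by
  classical
  haveI := Fintype.ofFinite (AddMonoid.End V)
  haveI := Fintype.ofFinite V
  -- no nilpotent elements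
  have hnil : ∀ x ∈ R, IsNilpotent x → x = 0 := by
    let T : Finset (AddMonoid.End V) := Finset.univ.filter fun x => x ∈ R ∧ IsNilpotent x
    have hker : ∀ S : Finset (AddMonoid.End V), S ⊆ T → ∃ w : V, w ≠ 0 ∧ ∀ x ∈ S, x w = 0 := by
      intro S
      induction S using Finset.induction with
      | empty =>
        intro _
        obtain ⟨w, hw⟩ := exists_ne (0 : V)
        exact ⟨w, hw, by simp⟩
      | insert x S _ ih =>
        intro hS
        obtain ⟨w, hw, hwS⟩ := ih ((Finset.subset_insert x S).trans hS)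
        obtain ⟨hxR, m, hm⟩ := (Finset.mem_filter.1 (hS (Finset.mem_insert_self x S))).2
        have hex : ∃ k, (x ^ k) w = 0 := ⟨m, by rw [hm]; rfl⟩
        have hk0 : Nat.find hex ≠ 0 := fun h => hw (by
          have := Nat.find_spec hex
          rw [h, pow_zero] at this
          exact this)
        obtain ⟨k, hk⟩ := Nat.exists_eq_succ_of_ne_zero hk0
        refine ⟨(x ^ k) w, Nat.find_min hex (by omega), fun y hy => ?_⟩
        rcases Finset.mem_insert.1 hy with rfl | hy
        · have := Nat.find_spec hex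
          rwa [hk, pow_succ'] at this
        · have hyR := (Finset.mem_filter.1 (hS (Finset.mem_insert_of_mem hy))).2.1
          show (y * x ^ k) w = 0
          rw [hcomm y hyR _ (pow_mem hxR k)]
          show (x ^ k) (y w) = 0
          rw [hwS y hy, map_zero]
    obtain ⟨w, hw, hwT⟩ := hker T subset_rfl
    let K : AddSubgroup V := ⨅ x ∈ T, AddMonoidHom.ker (x : V →+ V)
    have hmem : ∀ u : V, u ∈ K ↔ ∀ x ∈ T, x u = 0 := fun u => by
      simp only [K, AddSubgroup.mem_iInf]
      exact Iff.rfl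
    have hstab : ∀ (a : A), ∀ u ∈ K, a • u ∈ K := by
      intro a u hu
      rw [hmem] at hu ⊢
      intro x hx
      obtain ⟨hxR, m, hm⟩ := (Finset.mem_filter.1 hx).2
      have hx' : ((a⁻¹ : A) : (AddMonoid.End V)ˣ).val * x * (a : (AddMonoid.End V)ˣ).val ∈ T := by
        refine Finset.mem_filter.2 ⟨Finset.mem_univ _, ?_, m, ?_⟩
        · simpa using hst ((a⁻¹ : A) : (AddMonoid.End V)ˣ) (a⁻¹ : A).2 x hxR
        · show ((((a : (AddMonoid.End V)ˣ)⁻¹ : (AddMonoid.End V)ˣ) : AddMonoid.End V) * x *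
            (a : (AddMonoid.End V)ˣ).val) ^ m = 0
          rw [Units.conj_pow', hm, mul_zero, zero_mul]
      have h := hu _ hx'
      have h2 := congrArg (fun t => ((a : (AddMonoid.End V)ˣ) : AddMonoid.End V) t) h
      rw [map_zero] at h2
      show x (((a : (AddMonoid.End V)ˣ) : AddMonoid.End V) u) = 0
      rw [← h2]
      show (x * _) u = (_ * (_ * x * _)) u
      rw [← mul_assoc, ← mul_assoc]
      simp
    intro x hxR hx
    rcases hirr K hstab with h | h
    · exact absurd ((hmem w).2 hwT) (by rw [h]; simpa using hw)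
    · ext u
      exact (hmem u).1 (h ▸ AddSubgroup.mem_top u) x (Finset.mem_filter.2 ⟨Finset.mem_univ _, hxR, hx⟩)
  -- no idempotents
  have hidem : ∀ e ∈ R, e * e = e → e = 0 ∨ e = 1 := by
    by_contra hnot
    push Not at hnot
    let T : Finset (AddMonoid.End V) := Finset.univ.filter fun e => e ∈ R ∧ e * e = e ∧ e ≠ 0 ∧ e ≠ 1
    have hT : T.Nonempty := by
      obtain ⟨e, h1, h2, h3, h4⟩ := hnot
      exact ⟨e, Finset.mem_filter.2 ⟨Finset.mem_univ _, h1, h2, h3, h4⟩⟩
    let rg : AddMonoid.End V → AddSubgroup V := fun e => AddMonoidHom.range (e : V →+ V)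
    have hrg : ∀ {e : AddMonoid.End V} {u : V}, u ∈ rg e ↔ ∃ w, e w = u := Iff.rfl
    obtain ⟨e, heT, hmin⟩ := T.exists_min_image (fun e => Nat.card (rg e)) hT
    obtain ⟨heR, hee, he0, he1⟩ := (Finset.mem_filter.1 heT).2
    refine himp ⟨rg e, ?_, ?_, ?_⟩
    · intro h
      refine he0 (AddMonoidHom.ext fun u => ?_)
      have : e u ∈ rg e := hrg.2 ⟨u, rfl⟩
      rw [h] at this
      exact AddSubgroup.mem_bot.1 this
    · intro h
      refine he1 (AddMonoidHom.ext fun u => ?_)
      obtain ⟨w, rfl⟩ := hrg.1 (h ▸ AddSubgroup.mem_top u : u ∈ rg e)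
      show (e * e) w = e w
      rw [hee]
    intro s G hG hsum Y hY
    let cj : A → AddMonoid.End V := fun a =>
      ((a : (AddMonoid.End V)ˣ) : AddMonoid.End V) * e * (((a⁻¹ : A) : (AddMonoid.End V)ˣ) : AddMonoid.End V)
    have hproj : ∀ Y : ↥(orbit A (rg e)), ∃ f ∈ R, f * f = f ∧ rg f = (Y : AddSubgroup V) ∧
        Nat.card (rg f) = Nat.card (rg e) := by
      rintro ⟨-, a, rfl⟩
      have hr' : rg (cj a) = a • rg e := by
        ext u
        refine Iff.trans ?_ AddSubgroup.mem_pointwise_smul_iff_inv_smul_mem.symm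
        rw [hrg, hrg]
        constructor
        · rintro ⟨w, rfl⟩
          refine ⟨(((a⁻¹ : A) : (AddMonoid.End V)ˣ) : AddMonoid.End V) w, ?_⟩
          show _ = (((a⁻¹ : A) : (AddMonoid.End V)ˣ) : AddMonoid.End V) (cj a w)
          show _ = ((((a⁻¹ : A) : (AddMonoid.End V)ˣ) : AddMonoid.End V) * cj a) w
          simp [cj, ← mul_assoc]
        · rintro ⟨w, hw⟩
          refine ⟨((a : (AddMonoid.End V)ˣ) : AddMonoid.End V) w, ?_⟩
          show (cj a * _) w = u
          have : cj a * ((a : (AddMonoid.End V)ˣ) : AddMonoid.End V) =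
              ((a : (AddMonoid.End V)ˣ) : AddMonoid.End V) * e := by simp [cj, mul_assoc]
          rw [this]
          show ((a : (AddMonoid.End V)ˣ) : AddMonoid.End V) (e w) = u
          rw [hw]
          exact smul_inv_smul a u
      refine ⟨cj a, hst _ a.2 e heR, ?_, hr', ?_⟩
      · simp [cj, mul_assoc]
        rw [← mul_assoc e e, hee]
      · rw [hr']
        exact Nat.card_congr (Equiv.subtypeEquiv (MulAction.toPerm a⁻¹) fun u =>
          AddSubgroup.mem_pointwise_smul_iff_inv_smul_mem)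
    choose f hfR hff hfY hfc using hproj
    have horth : ∀ Y' : ↥(orbit A (rg e)), Y' ≠ Y → f Y * f Y' = 0 := by
      intro Y' hne
      by_contra h
      have hgR := mul_mem (hfR Y) (hfR Y')
      have hgg : f Y * f Y' * (f Y * f Y') = f Y * f Y' := by
        rw [mul_assoc, ← mul_assoc (f Y'), ← hcomm (f Y) (hfR Y) (f Y') (hfR Y'), mul_assoc (f Y), hff Y',
          ← mul_assoc, hff Y]
      have hle1 : rg (f Y * f Y') ≤ rg (f Y) := by
        rintro _ ⟨w, rfl⟩
        exact hrg.2 ⟨f Y' w, rfl⟩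
      have hle2 : rg (f Y * f Y') ≤ rg (f Y') := by
        rw [hcomm _ (hfR Y) _ (hfR Y')]
        rintro _ ⟨w, rfl⟩
        exact hrg.2 ⟨f Y w, rfl⟩
      have hg1 : f Y * f Y' ≠ 1 := by
        intro h1
        refine he1 (AddMonoidHom.ext fun u => ?_)
        have htop : rg (f Y) = ⊤ := eq_top_iff.2 fun w _ => hle1 (hrg.2 ⟨w, by rw [h1]; rfl⟩)
        have : rg e = ⊤ := AddSubgroup.eq_top_of_card_eq _ (by rw [← hfc Y, htop, AddSubgroup.card_top])
        obtain ⟨w, rfl⟩ := hrg.1 (this ▸ AddSubgroup.mem_top u : u ∈ rg e)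
        show (e * e) w = e w
        rw [hee]
      have hc := hmin _ (Finset.mem_filter.2 ⟨Finset.mem_univ _, hgR, hgg, h, hg1⟩)
      have e1 := AddSubgroup.eq_of_le_of_card_ge hle1 ((hfc Y).trans_le hc)
      have e2 := AddSubgroup.eq_of_le_of_card_ge hle2 ((hfc Y').trans_le hc)
      exact hne (Subtype.ext ((hfY Y').symm.trans (e2.symm.trans (e1.trans (hfY Y)))))
    have h := congrArg (fun u => f Y u) hsum
    simp only [map_sum, map_zero] at h
    have hfix : ∀ (Y : ↥(orbit A (rg e))) (u : V), u ∈ (Y : AddSubgroup V) → f Y u = u := by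
      intro Y u hu
      rw [← hfY Y] at hu
      obtain ⟨w, rfl⟩ := hrg.1 hu
      show (f Y * f Y) w = f Y w
      rw [hff]
    rw [Finset.sum_eq_single_of_mem Y hY, hfix Y _ (hG Y)] at h
    · exact h
    intro Y' _ hne
    rw [← hfix Y' _ (hG Y')]
    show (f Y * f Y') (G Y') = 0
    rw [horth Y' hne]
    rfl
  obtain ⟨n, hn, he⟩ := exists_idempotent_pow r
  rcases hidem _ (pow_mem hr n) he with h | h
  · exact absurd (hnil r hr ⟨n, h⟩) hr0
  · exact IsUnit.of_pow_eq_one h hn.ne'

/-- Abelian normal subgroups act fixed-point-freely. -/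
theorem fpf_of_normal [Nontrivial V] (hirr : Irreducible' A V) (himp : ¬ Imprimitive A V) {B : Subgroup A}
    (hB : B.Normal) (hab : IsMulCommutative B) : FixedPointFree V B := by
  let S : Set (AddMonoid.End V) := (fun b : A => ((b : (AddMonoid.End V)ˣ) : AddMonoid.End V)) '' (B : Set A)
  let R : Subring (AddMonoid.End V) := Subring.closure S
  have hcS : ∀ x ∈ S, ∀ y ∈ S, x * y = y * x := by
    rintro _ ⟨x, hx, rfl⟩ _ ⟨y, hy, rfl⟩
    have h : x * y = y * x := congrArg Subtype.val (mul_comm' (⟨x, hx⟩ : B) ⟨y, hy⟩)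
    exact congrArg (fun t : A => ((t : (AddMonoid.End V)ˣ) : AddMonoid.End V)) h
  haveI := Subring.isMulCommutative_closure hcS
  have hcomm : ∀ x ∈ R, ∀ y ∈ R, x * y = y * x := fun x hx y hy =>
    congrArg Subtype.val (mul_comm' (⟨x, hx⟩ : R) ⟨y, hy⟩)
  have hst : ConjStable A R := by
    intro a ha r hr
    induction hr using Subring.closure_induction with
    | mem x hx =>
      obtain ⟨b, hb, rfl⟩ := hx
      exact Subring.subset_closure ⟨⟨a, ha⟩ * b * ⟨a, ha⟩⁻¹, hB.conj_mem b hb ⟨a, ha⟩, rfl⟩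
    | zero => simp
    | one => simp
    | add x y _ _ hx hy => rw [mul_add, add_mul]; exact add_mem hx hy
    | neg x _ hx => rw [mul_neg, neg_mul]; exact neg_mem hx
    | mul x y _ _ hx hy =>
      have := mul_mem hx hy
      simpa [mul_assoc] using this
  intro b hb w hw hbw
  by_contra hb1
  have h := isUnit_of_stable hirr himp hcomm hst (r := ((b : (AddMonoid.End V)ˣ) : AddMonoid.End V) - 1)
    (sub_mem (Subring.subset_closure ⟨b, hb, rfl⟩) (one_mem R)) (fun h => hb1 (Subtype.ext (Units.ext (sub_eq_zero.1 h))))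
  obtain ⟨u, hu⟩ := h
  apply hw
  have h1 : ((u⁻¹ : (AddMonoid.End V)ˣ) : AddMonoid.End V) ((u : AddMonoid.End V) w) = w := by
    show (((u⁻¹ : (AddMonoid.End V)ˣ) : AddMonoid.End V) * (u : AddMonoid.End V)) w = w
    rw [Units.inv_mul]
    rfl
  rw [← h1, hu]
  show ((u⁻¹ : (AddMonoid.End V)ˣ) : AddMonoid.End V) (((b : (AddMonoid.End V)ˣ) : AddMonoid.End V) w - w) = 0
  rw [show ((b : (AddMonoid.End V)ˣ) : AddMonoid.End V) w = w from hbw, sub_self, map_zero]

/-- The setting of a maximal primitive group. -/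
theorem exists_setting [Nontrivial V] {p : ℕ} [Fact p.Prime] (hp2 : p ≠ 2) (hp : ∀ x : V, p • x = 0)
    (hA : Group.IsSolvable A) (hpA : ¬ p ∣ Nat.card A)
    (hmax : ∀ B : Subgroup (AddMonoid.End V)ˣ, A ≤ B → Group.IsSolvable B → ¬ p ∣ Nat.card B → B = A)
    (hirr : Irreducible' A V) (himp : ¬ Imprimitive A V) : Nonempty (Setting A V p) := by
  classical
  haveI := hA
  obtain ⟨N, hN, hN2, hCN⟩ := Cfsg.Agent.S5876.exists_classTwo A
  haveI := hN
  have hcl : commutator N ≤ Subgroup.center N := by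
    rw [commutator_def, Subgroup.commutator_le]
    intro x _ y _
    refine Subgroup.mem_center_iff.2 fun g => Subtype.ext ?_
    exact Subgroup.mem_centralizer_iff.1 (hN2 x x.2 y y.2) g g.2
  have hfpfc : ∀ B : Subgroup N, B.Characteristic → IsMulCommutative B → FixedPointFree V B := by
    intro B hB hBab b hb w hw hbw
    exact Subtype.ext (fpf_of_normal hirr himp (inferInstance : (B.map N.subtype).Normal)
      (Subgroup.map_isMulCommutative B _) b ⟨b, hb, rfl⟩ w hw hbw)
  set Z := Subgroup.center N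
  have hfpf := hfpfc Z inferInstance inferInstance
  let el : N → AddMonoid.End V := fun k => (((k : A) : (AddMonoid.End V)ˣ) : AddMonoid.End V)
  let S : Set (AddMonoid.End V) := el '' (Z : Set N)
  let R : Subring (AddMonoid.End V) := Subring.closure S
  have hcS : ∀ x ∈ S, ∀ y ∈ S, x * y = y * x := by
    rintro _ ⟨x, hx, rfl⟩ _ ⟨y, _, rfl⟩
    exact congrArg el ((Subgroup.mem_center_iff.1 hx y).symm)
  haveI := Subring.isMulCommutative_closure hcS
  have hcomm : ∀ x ∈ R, ∀ y ∈ R, x * y = y * x := fun x hx y hy =>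
    congrArg Subtype.val (mul_comm' (⟨x, hx⟩ : R) ⟨y, hy⟩)
  have hst : ConjStable A R := by
    intro a ha r hr
    induction hr using Subring.closure_induction with
    | mem x hx =>
      obtain ⟨b, hb, rfl⟩ := hx
      refine Subring.subset_closure ⟨(MulAut.conjNormal (⟨a, ha⟩ : A) : MulAut N) b,
        Subgroup.characteristic_iff_le_comap.1 inferInstance _ hb, ?_⟩
      show ((((MulAut.conjNormal (⟨a, ha⟩ : A) : MulAut N) b : N) : A) : (AddMonoid.End V)ˣ).val = _
      rw [MulAut.conjNormal_apply]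
      rfl
    | zero => simp
    | one => simp
    | add x y _ _ hx hy => rw [mul_add, add_mul]; exact add_mem hx hy
    | neg x _ hx => rw [mul_neg, neg_mul]; exact neg_mem hx
    | mul x y _ _ hx hy =>
      have := mul_mem hx hy
      simpa [mul_assoc] using this
  -- the units of the ring
  let RU : Subgroup (AddMonoid.End V)ˣ :=
    { carrier := {u | (u : AddMonoid.End V) ∈ R}
      one_mem' := one_mem R
      mul_mem' := fun {u w} hu hw => R.mul_mem hu hw
      inv_mem' := fun {u} hu => by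
        obtain ⟨n, hn, hn1⟩ := isOfFinOrder_iff_pow_eq_one.1 (isOfFinOrder_of_finite u)
        show ((u⁻¹ : (AddMonoid.End V)ˣ) : AddMonoid.End V) ∈ R
        rw [show u⁻¹ = u ^ (n - 1) from inv_eq_of_mul_eq_one_right (by
          rw [← pow_succ', Nat.sub_add_cancel hn, hn1]), Units.val_pow_eq_pow_val]
        exact pow_mem hu _ }
  have hAn : A ≤ Subgroup.normalizer (RU : Set (AddMonoid.End V)ˣ) := by
    intro a ha
    refine Subgroup.mem_normalizer_iff.2 fun u => ⟨fun hu => hst a ha _ hu, fun hu => ?_⟩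
    have := hst a⁻¹ (inv_mem ha) _ hu
    show (u : AddMonoid.End V) ∈ R
    simpa [mul_assoc] using this
  haveI : IsMulCommutative RU := ⟨⟨fun x y => Subtype.ext (Units.ext (hcomm _ x.2 _ y.2))⟩⟩
  have hRUs : Group.IsSolvable RU := Group.isSolvable_of_comm fun a b => mul_comm' a b
  haveI : Nontrivial (AddMonoid.End V) := nontrivial_of_ne 1 0 fun h => by
    obtain ⟨w, hw⟩ := exists_ne (0 : V)
    exact hw (DFunLike.congr_fun h w)
  let e1 : {r : R // r ≠ 0} ≃ RU :=
    { toFun := fun r => ⟨(isUnit_of_stable hirr himp hcomm hst r.1.2 fun h => r.2 (Subtype.ext h)).unit, by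
          show _ ∈ R
          rw [IsUnit.unit_spec]
          exact r.1.2⟩
      invFun := fun u => ⟨⟨_, u.2⟩, fun h => u.1.ne_zero (congrArg Subtype.val h)⟩
      left_inv := fun r => Subtype.ext (Subtype.ext (IsUnit.unit_spec
        (isUnit_of_stable hirr himp hcomm hst r.1.2 fun h => r.2 (Subtype.ext h))))
      right_inv := fun u => Subtype.ext (Units.ext (IsUnit.unit_spec
        (isUnit_of_stable hirr himp hcomm hst u.2 u.1.ne_zero))) }
  obtain ⟨d, hd⟩ := card_eq_pow (V := R) (p := p) (fun x => Subtype.ext (AddMonoidHom.ext fun w => by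
    show (((p • x : R) : AddMonoid.End V)) w = 0
    rw [AddSubmonoidClass.coe_nsmul]
    exact hp _))
  have hcardRU : Nat.card RU + 1 = p ^ d := by
    haveI := Fintype.ofFinite R
    haveI : Finite (AddMonoid.End V)ˣ := inferInstance
    rw [← hd, ← Nat.card_congr e1, ← Finite.card_option]
    exact Nat.card_congr (Equiv.optionSubtypeNe (0 : R))
  have hd0 : d ≠ 0 := fun h => by
    have := Nat.card_pos (α := RU)
    rw [h, pow_zero] at hcardRU
    omega
  have hpR : ¬ p ∣ Nat.card RU := fun h =>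
    (Fact.out : p.Prime).not_dvd_one ((Nat.dvd_add_right h).1 (hcardRU ▸ dvd_pow_self p hd0))
  have hRA : RU ≤ A := by
    have h := hmax (RU ⊔ A) le_sup_right (Cfsg.Lib.Sig.SSFT.isSolvable_sup hRUs hA hAn)
      (Cfsg.Lib.Sig.SSFT.not_dvd_card_sup hAn hpR hpA)
    exact h ▸ le_sup_left
  have hRZ : ∀ u : RU, ∃ k ∈ Z, el k = ((u : (AddMonoid.End V)ˣ) : AddMonoid.End V) := by
    intro u
    let a : A := ⟨u, hRA u.2⟩
    have hc : a ∈ Subgroup.centralizer (N : Set A) := by
      refine Subgroup.mem_centralizer_iff.2 fun g hg => Subtype.ext (Units.ext ?_)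
      suffices ∀ r ∈ R, el ⟨g, hg⟩ * r = r * el ⟨g, hg⟩ from this _ u.2
      intro r hr
      induction hr using Subring.closure_induction with
      | mem x hx =>
        obtain ⟨b, hb, rfl⟩ := hx
        exact congrArg el (Subgroup.mem_center_iff.1 hb ⟨g, hg⟩)
      | zero => simp
      | one => simp
      | add x y _ _ hx hy => rw [mul_add, add_mul, hx, hy]
      | neg x _ hx => rw [mul_neg, neg_mul, hx]
      | mul x y _ _ hx hy => rw [← mul_assoc, hx, mul_assoc, hy, ← mul_assoc]
    exact ⟨⟨a, hCN hc⟩, Subgroup.mem_center_iff.2 fun g =>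
      Subtype.ext (Subgroup.mem_centralizer_iff.1 hc g g.2), rfl⟩
  have hcardZ : Nat.card Z = Nat.card RU := by
    refine (Nat.card_eq_of_bijective (fun k : Z => (⟨((k : N) : A), Subring.subset_closure ⟨k, k.2, rfl⟩⟩ : RU))
      ⟨fun k k' h => Subtype.ext (Subtype.ext (Subtype.ext
        (congrArg (fun u : RU => (u : (AddMonoid.End V)ˣ)) h))), fun u => ?_⟩)
    obtain ⟨k, hk, he⟩ := hRZ u
    exact ⟨⟨k, hk⟩, Subtype.ext (Units.ext he)⟩
  have hsurj : ∀ r ∈ R, r ≠ 0 → ∃ k ∈ Z, el k = r := fun r hr h => by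
    obtain ⟨k, hk, he⟩ := hRZ (e1 ⟨⟨r, hr⟩, fun h' => h (congrArg Subtype.val h')⟩)
    exact ⟨k, hk, he.trans (IsUnit.unit_spec _)⟩
  refine ⟨⟨N, hN, hcl, hCN, hfpf, fun B hB hBab => isCyclic_of_fpf hBab (hfpfc B hB hBab), hp, hp2, hpA,
    ⟨d, by rw [hcardZ]; exact hcardRU⟩, ?_, ?_⟩⟩
  · intro k hk k' hk'
    by_cases h : el k + el k' = 0
    · exact Or.inl fun w => DFunLike.congr_fun h w
    · obtain ⟨k'', hk'', he⟩ := hsurj _
        (add_mem (Subring.subset_closure ⟨k, hk, rfl⟩) (Subring.subset_closure ⟨k', hk', rfl⟩)) h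
      exact Or.inr ⟨k'', hk'', fun w => (DFunLike.congr_fun he w).symm⟩
  · intro c hc
    have hev : ∀ w : V, ((c : AddMonoid.End V)) w = c • w := fun w => by simp
    obtain ⟨k, hk, he⟩ := hsurj (c : AddMonoid.End V) (natCast_mem R c) fun h => by
      obtain ⟨w, hw⟩ := exists_ne (0 : V)
      have h1 : c • w = 0 := by rw [← hev, h]; rfl
      have h2 := addOrderOf_dvd_of_nsmul_eq_zero h1
      rw [addOrderOf_eq_prime (hp w) hw] at h2
      exact hc h2
    exact ⟨k, hk, fun w => (DFunLike.congr_fun he w).trans (hev w)⟩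

end Field

end Cfsg.Lib.CoprimeBase
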