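import Cfsg.Agent.Lib.CoprimeBase.Field

/-!
The frame of a vector: the eigenspace of the subgroup of class two stabilising its line, its translates, and a
criterion for the vector and a coloured sum of translates to have trivial common stabiliser.
-/

set_option autoImplicit false
set_option linter.unusedSectionVars false
set_option linter.style.haveILetI false

namespace Cfsg.Lib.CoprimeBase

open MulAction Cfsg.Lib.OddBase
open scoped commutatorElement

universe v

variable {A V : Type v} [Group A] [AddCommGroup V] [DistribMulAction A V] {p : ℕ}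

namespace Setting

variable (s : Setting A V p)

theorem comm_center {k : s.N} (hk : k ∈ Subgroup.center s.N) (x : s.N) (w : V) : x • k • w = k • x • w := by
  rw [smul_smul, smul_smul, Subgroup.mem_center_iff.1 hk x]

theorem commutator_mem (x y : s.N) : ⁅x, y⁆ ∈ Subgroup.center s.N := commutator_mem_center s.hcl x y

theorem conj_eq (x y : s.N) : x⁻¹ * y * x = y * ⁅y⁻¹, x⁻¹⁆ := by rw [commutatorElement_def]; group

/-- The elements of `N` stabilising the line of a vector. -/
def line (e : V) : Subgroup s.N where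
  carrier := {x | ∃ k ∈ Subgroup.center s.N, x • e = k • e}
  one_mem' := ⟨1, one_mem _, rfl⟩
  mul_mem' := by
    rintro x y ⟨k, hk, hx⟩ ⟨l, hl, hy⟩
    refine ⟨k * l, mul_mem hk hl, ?_⟩
    rw [mul_smul, hy, s.comm_center hl, hx, smul_smul, Subgroup.mem_center_iff.1 hk l]
  inv_mem' := by
    rintro x ⟨k, hk, hx⟩
    refine ⟨k⁻¹, inv_mem hk, ?_⟩
    rw [inv_smul_eq_iff, s.comm_center (inv_mem hk), hx, inv_smul_smul]

theorem mem_line {e : V} {x : s.N} : x ∈ s.line e ↔ ∃ k ∈ Subgroup.center s.N, x • e = k • e := Iff.rfl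

theorem center_le_line (e : V) : Subgroup.center s.N ≤ s.line e := fun k hk => ⟨k, hk, rfl⟩

/-- The centraliser of the line stabiliser. -/
def mid (e : V) : Subgroup s.N := Subgroup.centralizer (s.line e : Set s.N)

theorem mem_mid {e : V} {x : s.N} : x ∈ s.mid e ↔ ∀ y ∈ s.line e, y * x = x * y := Subgroup.mem_centralizer_iff

theorem conj_mem_line (e : V) {y : s.N} (hy : y ∈ s.line e) (x : s.N) : x * y * x⁻¹ ∈ s.line e := by
  have := mul_mem (s.center_le_line e (s.commutator_mem x y)) hy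
  rwa [commutatorElement_def, inv_mul_cancel_right] at this

instance mid_normal (e : V) : (s.mid e).Normal := ⟨fun m hm x => by
  rw [mem_mid] at hm ⊢
  intro y hy
  have h := hm _ (by simpa using s.conj_mem_line e hy x⁻¹ : x⁻¹ * y * x ∈ s.line e)
  calc y * (x * m * x⁻¹) = x * ((x⁻¹ * y * x) * m) * x⁻¹ := by group
    _ = x * (m * (x⁻¹ * y * x)) * x⁻¹ := by rw [h]
    _ = x * m * x⁻¹ * y := by group⟩

theorem center_le_mid (e : V) : Subgroup.center s.N ≤ s.mid e := fun k hk =>
  s.mem_mid.2 fun y _ => Subgroup.mem_center_iff.1 hk y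

/-- The eigenspace of the line stabiliser containing the vector. -/
def eig (e : V) : AddSubgroup V where
  carrier := {w | ∀ y : s.N, ∀ k ∈ Subgroup.center s.N, y • e = k • e → y • w = k • w}
  zero_mem' := fun y k _ _ => by simp only [smul_zero]
  add_mem' := fun {a b} ha hb y k hk h => by simp only [smul_add, ha y k hk h, hb y k hk h]
  neg_mem' := fun {a} ha y k hk h => by simp only [smul_neg, ha y k hk h]

theorem mem_eig {e w : V} :
    w ∈ s.eig e ↔ ∀ y : s.N, ∀ k ∈ Subgroup.center s.N, y • e = k • e → y • w = k • w := Iff.rfl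

theorem self_mem_eig (e : V) : e ∈ s.eig e := fun _ _ _ h => h

theorem smul_mem_eig {e w : V} {m : s.N} (hm : m ∈ s.mid e) (hw : w ∈ s.eig e) : m • w ∈ s.eig e := by
  intro y k hk h
  rw [smul_smul y, s.mem_mid.1 hm y ⟨k, hk, h⟩, mul_smul, hw y k hk h, s.comm_center hk]

theorem center_smul_mem_eig {e w : V} {k : s.N} (hk : k ∈ Subgroup.center s.N) (hw : w ∈ s.eig e) :
    k • w ∈ s.eig e :=
  s.smul_mem_eig (s.center_le_mid e hk) hw

/-- The translates of the eigenspace are independent. -/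
theorem eig_indep {e : V} (he : e ≠ 0) (rep : s.N ⧸ s.mid e → s.N) (hrep : ∀ q, (rep q : s.N ⧸ s.mid e) = q)
    (T : Finset (s.N ⧸ s.mid e)) (G : s.N ⧸ s.mid e → V) (hG : ∀ q ∈ T, G q ∈ s.eig e)
    (hsum : ∑ q ∈ T, rep q • G q = 0) : ∀ q ∈ T, G q = 0 := by
  classical
  induction T using Finset.induction generalizing G with
  | empty => simp
  | insert q₀ T hq₀ ih =>
    have hrest : ∀ q ∈ T, G q = 0 := by
      intro q hq
      have hne : q₀ ≠ q := fun h => hq₀ (h ▸ hq)
      obtain ⟨y, hy, hy'⟩ : ∃ y ∈ s.line e, ⁅y⁻¹, (rep q)⁻¹⁆ ≠ ⁅y⁻¹, (rep q₀)⁻¹⁆ := by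
        by_contra hall
        push Not at hall
        apply hne
        rw [← hrep q, ← hrep q₀]
        refine QuotientGroup.eq.2 (s.mem_mid.2 fun y hy => ?_)
        have h1 : ∀ x : s.N, x⁻¹ * y * x = y * ⁅y⁻¹, x⁻¹⁆ := fun x => s.conj_eq x y
        have h2 : ((rep q₀)⁻¹ * rep q)⁻¹ * y * ((rep q₀)⁻¹ * rep q) = y := by
          have h3 := s.conj_eq ((rep q₀)⁻¹ * rep q) y
          rw [mul_inv_rev, inv_inv, Cfsg.Lib.PGroup.commutatorElement_mul_right s.hcl] at h3
          have h4 : ⁅y⁻¹, rep q₀⁆ = ⁅y⁻¹, (rep q₀)⁻¹⁆⁻¹ := by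
            refine eq_inv_of_mul_eq_one_left ?_
            rw [← Cfsg.Lib.PGroup.commutatorElement_mul_right s.hcl, mul_inv_cancel, commutatorElement_one_right]
          rw [h4, hall y hy, mul_inv_cancel, mul_one] at h3
          rw [mul_inv_rev, inv_inv]
          exact h3
        calc y * ((rep q₀)⁻¹ * rep q)
            = ((rep q₀)⁻¹ * rep q) * (((rep q₀)⁻¹ * rep q)⁻¹ * y * ((rep q₀)⁻¹ * rep q)) := by group
          _ = _ := by rw [h2]
      obtain ⟨k, hk, hyk⟩ := hy
      let c : s.N ⧸ s.mid e → s.N := fun q' => k * ⁅y⁻¹, (rep q')⁻¹⁆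
      have hc : ∀ q', c q' ∈ Subgroup.center s.N := fun q' => mul_mem hk (s.commutator_mem _ _)
      have hev : ∀ q' : s.N ⧸ s.mid e, ∀ w ∈ s.eig e, y • rep q' • w = rep q' • c q' • w := by
        intro q' w hw
        rw [← inv_smul_eq_iff, smul_smul, smul_smul, s.conj_eq, mul_smul,
          s.comm_center (s.commutator_mem _ _), hw y k hk hyk, ← s.comm_center (s.commutator_mem _ _), ← mul_smul]
      have h0 := ih (fun q' => c q' • G q' - c q₀ • G q')
        (fun q' hq' => sub_mem (s.center_smul_mem_eig (hc _) (hG _ (Finset.mem_insert_of_mem hq')))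
          (s.center_smul_mem_eig (hc _) (hG _ (Finset.mem_insert_of_mem hq')))) (by
          rw [Finset.sum_insert hq₀] at hsum
          have e1 := congrArg (fun w => y • w - c q₀ • w) hsum
          simp only [smul_add, smul_zero, sub_zero, Finset.smul_sum] at e1
          rw [hev q₀ _ (hG _ (Finset.mem_insert_self _ _)), s.comm_center (hc q₀), add_sub_add_left_eq_sub,
            ← Finset.sum_sub_distrib] at e1
          rw [← e1]
          refine Finset.sum_congr rfl fun q' hq' => ?_
          rw [hev q' _ (hG _ (Finset.mem_insert_of_mem hq')), smul_sub, s.comm_center (hc q₀)]) q hq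
      by_contra hg
      exact hy' (mul_left_cancel (s.hfpf.eq_of_smul_eq (hc q) (hc q₀) hg (sub_eq_zero.1 h0)))
    intro q hq
    rcases Finset.mem_insert.1 hq with rfl | hq
    · rw [Finset.sum_insert hq₀, Finset.sum_eq_zero fun q' hq' => by rw [hrest q' hq', smul_zero], add_zero,
        smul_eq_zero_iff_eq] at hsum
      exact hsum
    · exact hrest q hq

/-- A vector and a coloured sum of translates with trivial common stabiliser. -/
theorem frame_pair [Finite A] [FaithfulSMul A V] {e₁ e₂ : V} (he₁ : e₁ ≠ 0)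
    (rep : s.N ⧸ s.mid e₁ → s.N) (hrep : ∀ q, (rep q : s.N ⧸ s.mid e₁) = q) (hrep1 : rep 1 = 1)
    (f : s.N ⧸ s.mid e₁ → V) (hfE : ∀ q, f q ∈ s.eig e₁) (hf1 : f 1 = e₂)
    (hpair : ∀ a : A, (∀ w ∈ s.eig e₁, a • w ∈ s.eig e₁) → a • e₁ = e₁ → a • e₂ = e₂ →
      ∀ w ∈ s.eig e₁, a • w = w)
    (hreg : ∀ q, q ≠ 1 → f q ≠ 0 → ∀ m ∈ s.mid e₁, m • f q = f q → ∀ w ∈ s.eig e₁, m • w = w)
    (hsmall : 4 * Nat.card {q : s.N ⧸ s.mid e₁ // q ≠ 1 ∧ f q = 0} < Nat.card (s.N ⧸ s.mid e₁))
    (hrig : ∀ φ : s.N ≃* s.N, (∀ k ∈ Subgroup.center s.N, φ k = k) →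
      ∀ π : (s.N ⧸ s.mid e₁) ≃* (s.N ⧸ s.mid e₁),
        (∀ q, ∃ u ∈ s.mid e₁, φ (rep q) = rep (π q) * u ∧ f (π q) = u • f q) → ∀ q, π q = q) :
    HasPair A V := by
  classical
  haveI := s.normal
  haveI := Fintype.ofFinite (s.N ⧸ s.mid e₁)
  refine ⟨e₁, ∑ q, rep q • f q, fun a ha₁ ha₂ => ?_⟩
  set φ : s.N ≃* s.N := MulAut.conjNormal a with hφ
  have hact : ∀ (x : s.N) (w : V), a • x • w = φ x • a • w := fun x w => by
    show a • ((x : A) • w) = ((φ x : s.N) : A) • a • w
    rw [hφ, MulAut.conjNormal_apply, smul_smul, smul_smul, inv_mul_cancel_right]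
  have hφZ : ∀ k, k ∈ Subgroup.center s.N → φ k ∈ Subgroup.center s.N := fun k hk =>
    Subgroup.characteristic_iff_le_comap.1 inferInstance φ hk
  have hφZ' : ∀ k, k ∈ Subgroup.center s.N → φ.symm k ∈ Subgroup.center s.N := fun k hk =>
    Subgroup.characteristic_iff_le_comap.1 inferInstance φ.symm hk
  have hline : ∀ y, y ∈ s.line e₁ ↔ φ y ∈ s.line e₁ := by
    intro y
    constructor
    · rintro ⟨k, hk, h⟩
      refine ⟨φ k, hφZ k hk, ?_⟩
      have := congrArg (a • ·) h
      simp only [hact, ha₁] at this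
      exact this
    · rintro ⟨k, hk, h⟩
      refine ⟨φ.symm k, hφZ' k hk, ?_⟩
      refine smul_left_cancel a ?_
      rw [hact, hact, ha₁, MulEquiv.apply_symm_apply]
      exact h
  have hmid : ∀ m, m ∈ s.mid e₁ ↔ φ m ∈ s.mid e₁ := by
    intro m
    simp only [mem_mid]
    constructor
    · intro h y hy
      obtain ⟨y, rfl⟩ := φ.surjective y
      rw [← map_mul, ← map_mul, h y ((hline y).2 hy)]
    · intro h y hy
      apply φ.injective
      rw [map_mul, map_mul, h _ ((hline y).1 hy)]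
  have hstab : ∀ w ∈ s.eig e₁, a • w ∈ s.eig e₁ := by
    intro w hw y k hk h
    obtain ⟨y, rfl⟩ := φ.surjective y
    obtain ⟨l, rfl⟩ := φ.surjective k
    have hl : l ∈ Subgroup.center s.N := by simpa using hφZ' _ hk
    rw [← hact, ← hact]
    refine congrArg (a • ·) (hw y l hl (smul_left_cancel a ?_))
    rw [hact, hact, ha₁]
    exact h
  have hM : (s.mid e₁).map φ.toMonoidHom = s.mid e₁ := by
    ext x
    constructor
    · rintro ⟨m, hm, rfl⟩
      exact (hmid m).1 hm
    · intro hx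
      exact ⟨φ.symm x, (hmid _).2 (by simpa using hx), by simp⟩
  let π : (s.N ⧸ s.mid e₁) ≃* (s.N ⧸ s.mid e₁) := QuotientGroup.congr _ _ φ hM
  have hπ : ∀ x : s.N, π (x : s.N ⧸ s.mid e₁) = ((φ x : s.N) : s.N ⧸ s.mid e₁) := fun x => rfl
  let u : s.N ⧸ s.mid e₁ → s.N := fun q => (rep (π q))⁻¹ * φ (rep q)
  have hu : ∀ q, u q ∈ s.mid e₁ := fun q => by
    refine QuotientGroup.eq.1 ?_
    rw [hrep, ← hπ, hrep]
  have hcomp : ∀ q, f (π q) = u q • a • f q := by
    intro q
    have hG : ∀ q', u (π.symm q') • a • f (π.symm q') - f q' ∈ s.eig e₁ := fun q' =>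
      sub_mem (s.smul_mem_eig (hu _) (hstab _ (hfE _))) (hfE q')
    have h := s.eig_indep he₁ rep hrep Finset.univ _ (fun q' _ => hG q') (by
      rw [show ∑ q', rep q' • (u (π.symm q') • a • f (π.symm q') - f q') =
        ∑ q', rep q' • u (π.symm q') • a • f (π.symm q') - ∑ q', rep q' • f q' by
          rw [← Finset.sum_sub_distrib]; exact Finset.sum_congr rfl fun q' _ => smul_sub _ _ _]
      rw [sub_eq_zero, ← Equiv.sum_comp π.toEquiv]
      conv_rhs => rw [← ha₂, Finset.smul_sum]
      refine Finset.sum_congr rfl fun q' _ => ?_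
      show rep (π q') • u (π.symm (π q')) • a • f (π.symm (π q')) = _
      rw [MulEquiv.symm_apply_apply, smul_smul, mul_inv_cancel_left, hact]) (π q) (Finset.mem_univ _)
    rw [MulEquiv.symm_apply_apply, sub_eq_zero] at h
    exact h.symm
  have ha₂' : a • e₂ = e₂ := by
    have h := hcomp 1
    simp only [u, map_one, hrep1, inv_one, mul_one, one_smul, hf1] at h
    exact h.symm
  have hid := hpair a hstab ha₁ ha₂'
  have hfix : ∀ k ∈ Subgroup.center s.N, φ k = k := fun k hk =>
    s.hfpf.eq_of_smul_eq (hφZ k hk) hk he₁ (by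
      conv_lhs => rw [← ha₁, ← hact, hid _ (s.center_smul_mem_eig hk (s.self_mem_eig e₁))])
  have hπid : ∀ q, π q = q := hrig φ hfix π fun q =>
    ⟨u q, hu q, (mul_inv_cancel_left _ _).symm, by rw [hcomp, hid _ (hfE q)]⟩
  have hφmid : ∀ m ∈ s.mid e₁, ∀ w ∈ s.eig e₁, φ m • w = m • w := fun m hm w hw => by
    conv_lhs => rw [← hid w hw, ← hact, hid _ (s.smul_mem_eig hm hw)]
  let d : s.N → s.N := fun x => x⁻¹ * φ x
  have hd : ∀ x, d x ∈ s.mid e₁ := fun x => by
    refine QuotientGroup.eq.1 ?_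
    rw [← hπ, hπid]
  haveI := Fintype.ofFinite s.N
  let R : Finset s.N := Finset.univ.filter fun x => ¬ ∀ w ∈ s.eig e₁, d x • w = w
  have hR : 4 * R.card < Nat.card s.N := by
    have hsub : R ⊆ Finset.univ.filter fun x : s.N => (x : s.N ⧸ s.mid e₁) ≠ 1 ∧ f (x : s.N ⧸ s.mid e₁) = 0 := by
      intro x hx
      refine Finset.mem_filter.2 ⟨Finset.mem_univ _, ?_⟩
      by_contra hne
      apply (Finset.mem_filter.1 hx).2
      obtain ⟨q, hq⟩ : ∃ q, q = (x : s.N ⧸ s.mid e₁) := ⟨_, rfl⟩
      rw [← hq] at hne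
      obtain ⟨m, hm, rfl⟩ : ∃ m ∈ s.mid e₁, x = rep q * m :=
        ⟨(rep q)⁻¹ * x, QuotientGroup.eq.1 (by rw [hrep, hq]), (mul_inv_cancel_left _ _).symm⟩
      have hu1 : ∀ w ∈ s.eig e₁, u q • w = w := by
        by_cases hq1 : q = 1
        · subst hq1
          intro w _
          simp only [u, map_one, hrep1, inv_one, mul_one, one_smul]
        refine hreg q hq1 (fun h => hne ⟨hq1, h⟩) _ (hu q) ?_
        have := hcomp q
        rw [hπid, hid _ (hfE q)] at this
        exact this.symm
      have hum : d (rep q * m) = m⁻¹ * u q * φ m := by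
        simp only [d, u, hπid, map_mul]
        group
      intro w hw
      rw [hum, mul_smul, mul_smul, hφmid m hm w hw, hu1 _ (s.smul_mem_eig hm hw), inv_smul_smul]
    have hcard : (Finset.univ.filter fun x : s.N => (x : s.N ⧸ s.mid e₁) ≠ 1 ∧ f (x : s.N ⧸ s.mid e₁) = 0).card =
        Nat.card {q : s.N ⧸ s.mid e₁ // q ≠ 1 ∧ f q = 0} * Nat.card (s.mid e₁) := by
      rw [← Nat.card_prod, ← Fintype.card_subtype, ← Nat.card_eq_fintype_card]
      refine Nat.card_congr ((Equiv.subtypeEquiv (Subgroup.groupEquivQuotientProdSubgroup (s := s.mid e₁))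
        (q := fun z => z.1 ≠ 1 ∧ f z.1 = 0) fun x => Iff.rfl).trans
        { toFun := fun z => (⟨z.1.1, z.2⟩, z.1.2)
          invFun := fun z => ⟨(z.1.1, z.2), z.1.2⟩
          left_inv := fun _ => rfl
          right_inv := fun _ => rfl })
    have hN : Nat.card s.N = Nat.card (s.N ⧸ s.mid e₁) * Nat.card (s.mid e₁) :=
      Subgroup.card_eq_card_quotient_mul_card_subgroup _
    have := Finset.card_le_card hsub
    rw [hcard] at this
    have hpos : 0 < Nat.card (s.mid e₁) := Nat.card_pos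
    nlinarith [Nat.mul_lt_mul_of_pos_right hsmall hpos]
  have hS : ∀ {x}, x ∉ R ↔ ∀ w ∈ s.eig e₁, d x • w = w := fun {x} => by simp [R]
  have hd1 : ∀ x ∉ R, d x = 1 := by
    intro x hx
    have hcomm : ∀ y, y ∉ R → x * y ∉ R → Commute (d x) y := by
      intro y hy hxy
      have hexp : d (x * y) = d x * ⁅(d x)⁻¹, y⁻¹⁆ * d y := by
        rw [← s.conj_eq]
        simp only [d, map_mul]
        group
      have hc : ⁅(d x)⁻¹, y⁻¹⁆ = 1 := by
        refine s.hfpf _ (s.commutator_mem _ _) e₁ he₁ ?_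
        have h := hS.1 hxy e₁ (s.self_mem_eig e₁)
        rw [hexp, mul_smul, hS.1 hy e₁ (s.self_mem_eig e₁), mul_smul,
          hS.1 hx _ (s.center_smul_mem_eig (s.commutator_mem _ _) (s.self_mem_eig e₁))] at h
        exact h
      exact Commute.inv_inv_iff.1 (commutatorElement_eq_one_iff_mul_comm.1 hc)
    have htop : Subgroup.centralizer ({d x} : Set s.N) = ⊤ := by
      refine Subgroup.eq_top_of_le_card _ ?_
      by_contra hlt
      have hproper : 2 * Nat.card (Subgroup.centralizer ({d x} : Set s.N)) ≤ Nat.card s.N := by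
        have h1 := Subgroup.index_mul_card (Subgroup.centralizer ({d x} : Set s.N))
        have h2 : 2 ≤ (Subgroup.centralizer ({d x} : Set s.N)).index := by
          by_contra h
          interval_cases hi : (Subgroup.centralizer ({d x} : Set s.N)).index <;> omega
        nlinarith [Nat.mul_le_mul_right (Nat.card (Subgroup.centralizer ({d x} : Set s.N))) h2]
      have hsub : (Finset.univ : Finset s.N) ⊆
          R ∪ R.image (fun y => x⁻¹ * y) ∪ Finset.univ.filter fun y => y ∈ Subgroup.centralizer ({d x} : Set s.N) := by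
        intro y _
        by_cases hy : y ∈ R
        · exact Finset.mem_union_left _ (Finset.mem_union_left _ hy)
        by_cases hxy : x * y ∈ R
        · exact Finset.mem_union_left _
            (Finset.mem_union_right _ (Finset.mem_image.2 ⟨_, hxy, inv_mul_cancel_left x y⟩))
        exact Finset.mem_union_right _ (Finset.mem_filter.2
          ⟨Finset.mem_univ _, Subgroup.mem_centralizer_singleton_iff.2 (hcomm y hy hxy).symm.eq⟩)
      have h3 := (Finset.card_le_card hsub).trans
        ((Finset.card_union_le _ _).trans (Nat.add_le_add_right (Finset.card_union_le _ _) _))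
      have h4 := Finset.card_image_le (s := R) (f := fun y => x⁻¹ * y)
      have h5 : (Finset.univ.filter fun y => y ∈ Subgroup.centralizer ({d x} : Set s.N)).card =
          Nat.card (Subgroup.centralizer ({d x} : Set s.N)) := by
        rw [Nat.card_eq_fintype_card]; exact (Fintype.card_subtype _).symm
      rw [Finset.card_univ, ← Nat.card_eq_fintype_card, h5] at h3
      omega
    refine s.hfpf _ (Subgroup.mem_center_iff.2 fun g => ?_) e₁ he₁ (hS.1 hx e₁ (s.self_mem_eig e₁))
    exact Subgroup.mem_centralizer_singleton_iff.1 (htop ▸ Subgroup.mem_top g)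
  have hall : φ.toMonoidHom.eqLocus (MonoidHom.id s.N) = ⊤ := by
    refine Subgroup.eq_top_of_le_card _ ?_
    by_contra hlt
    have hsub : (Finset.univ : Finset s.N) ⊆
        R ∪ Finset.univ.filter fun y => y ∈ φ.toMonoidHom.eqLocus (MonoidHom.id s.N) := by
      intro y _
      by_cases hy : y ∈ R
      · exact Finset.mem_union_left _ hy
      · refine Finset.mem_union_right _ (Finset.mem_filter.2 ⟨Finset.mem_univ _, ?_⟩)
        show φ y = y
        exact (inv_mul_eq_one.1 (hd1 y hy)).symm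
    have h1 := (Finset.card_le_card hsub).trans (Finset.card_union_le _ _)
    have h5 : (Finset.univ.filter fun y => y ∈ φ.toMonoidHom.eqLocus (MonoidHom.id s.N)).card =
        Nat.card (φ.toMonoidHom.eqLocus (MonoidHom.id s.N)) := by
      rw [Nat.card_eq_fintype_card]; exact (Fintype.card_subtype _).symm
    rw [Finset.card_univ, ← Nat.card_eq_fintype_card, h5] at h1
    have h2 := Subgroup.index_mul_card (φ.toMonoidHom.eqLocus (MonoidHom.id s.N))
    have h3 : 2 ≤ (φ.toMonoidHom.eqLocus (MonoidHom.id s.N)).index := by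
      by_contra h
      interval_cases hi : (φ.toMonoidHom.eqLocus (MonoidHom.id s.N)).index <;> omega
    nlinarith [Nat.mul_le_mul_right (Nat.card (φ.toMonoidHom.eqLocus (MonoidHom.id s.N))) h3]
  have hcen : a ∈ Subgroup.centralizer (s.N : Set A) := by
    refine Subgroup.mem_centralizer_iff.2 fun g hg => ?_
    have h : φ ⟨g, hg⟩ = ⟨g, hg⟩ := (hall ▸ Subgroup.mem_top _ : (⟨g, hg⟩ : s.N) ∈ _)
    have h' : a * g * a⁻¹ = g := by
      rw [← MulAut.conjNormal_apply a (⟨g, hg⟩ : s.N)]
      exact congrArg Subtype.val h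
    exact (mul_inv_eq_iff_eq_mul.1 h').symm
  have haN : a ∈ s.N := s.hCN hcen
  have hak : (⟨a, haN⟩ : s.N) ∈ Subgroup.center s.N := Subgroup.mem_center_iff.2 fun g =>
    Subtype.ext (Subgroup.mem_centralizer_iff.1 hcen g g.2)
  have h1 : (⟨a, haN⟩ : s.N) = 1 := s.hfpf _ hak e₁ he₁ ha₁
  intro z
  rw [show a = 1 from congrArg Subtype.val h1, one_smul]

end Setting

end Cfsg.Lib.CoprimeBase
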