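import Mathlib.Algebra.Module.ZMod
import Mathlib.Algebra.Field.ZMod
import Mathlib.RingTheory.Finiteness.Cardinality
import Mathlib.LinearAlgebra.Basis.VectorSpace
import Mathlib.LinearAlgebra.Dimension.Free
import Mathlib.GroupTheory.OrderOfElement
import Mathlib.Algebra.Squarefree.Basic
import Mathlib.Data.Nat.Squarefree
import Mathlib.Tactic.Ring
import Mathlib.Tactic.Linarith

/-!
Colourings of a finite abelian group of square-free exponent, with few elements of the first colour and only three
colours on the elements of odd prime order, that are preserved by no automorphism except the identity.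
-/

set_option autoImplicit false
set_option linter.unusedSectionVars false
set_option linter.style.haveILetI false
set_option linter.unusedSimpArgs false

namespace Cfsg.Lib.CoprimeBase

section Vec

variable {r m : ℕ} [Fact r.Prime]

/-- The standard basis vectors. -/
def ev (i : Fin m) : Fin m → ZMod r := Pi.single i 1

theorem ev_injective : Function.Injective (ev (r := r) (m := m)) := fun i j h => by
  have h' := congrFun h i
  simp only [ev, Pi.single_eq_same, Pi.single_apply] at h'
  by_contra hne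
  rw [if_neg hne] at h'
  exact one_ne_zero h'

theorem ev_pair {i j a b : Fin m} (hij : i ≠ j) (h : ev (r := r) i + ev j = ev a + ev b) :
    (i = a ∧ j = b) ∨ (i = b ∧ j = a) := by
  by_cases h1 : i = a
  · subst h1
    exact Or.inl ⟨rfl, ev_injective (add_left_cancel h)⟩
  by_cases h2 : i = b
  · subst h2
    exact Or.inr ⟨rfl, ev_injective (add_left_cancel (h.trans (add_comm _ _)))⟩
  have h' := congrFun h i
  simp [ev, Pi.single_apply, h1, h2, hij] at h'

theorem eq_self_of_ev (σ : (Fin m → ZMod r) ≃+ (Fin m → ZMod r)) (h : ∀ i, σ (ev i) = ev i) (x : Fin m → ZMod r) :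
    σ x = x := by
  have hx : x = ∑ i, (x i).val • ev (r := r) i := by
    funext j
    simp only [Finset.sum_apply, Pi.smul_apply]
    simp only [ev, Pi.single_apply, nsmul_eq_mul, mul_ite, mul_one, mul_zero,
      Finset.sum_ite_eq, Finset.mem_univ, if_true, ZMod.natCast_zmod_val]
  conv_lhs => rw [hx]
  rw [map_sum]
  simp only [map_nsmul, h]
  exact hx.symm

/-- A single component. -/
theorem vec_rigid (r m : ℕ) [Fact r.Prime] : ∃ L : (Fin m → ZMod r) → Fin 4, L 0 = 1 ∧
    4 * Nat.card {x // L x = 0} < r ^ m ∧ (r = 2 → m ≤ 1 → ∀ x, L x = 1) ∧ (r ≠ 2 → ∀ x, L x ≠ 3) ∧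
    ∀ σ : (Fin m → ZMod r) ≃+ (Fin m → ZMod r), (∀ x, L (σ x) = L x) → ∀ x, σ x = x := by
  classical
  have hr2 : 2 ≤ r := (Fact.out : r.Prime).two_le
  have hzero : ∀ i : Fin m, ev (r := r) i ≠ 0 := fun i h => by
    simpa [ev] using congrFun h i
  have hcard1 : ∀ {L : (Fin m → ZMod r) → Fin 4}, (∀ x, L x ≠ 0) → 4 * Nat.card {x // L x = 0} < r ^ m := by
    intro L hL
    haveI : IsEmpty {x // L x = 0} := ⟨fun x => hL x.1 x.2⟩
    simpa using Nat.pow_pos (n := m) (by omega : 0 < r)
  rcases Nat.lt_or_ge m 2 with hm | hm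
  · -- at most one coordinate
    by_cases h2 : r = 2
    · refine ⟨fun _ => 1, rfl, hcard1 (fun _ => by decide), fun _ _ _ => rfl, fun _ x => show (1 : Fin 4) ≠ 3 by decide,
        fun σ _ => eq_self_of_ev σ fun i => ?_⟩
      subst h2
      funext j
      have hj : j = i := Fin.ext (by omega)
      subst hj
      have hne : σ (ev j) j ≠ 0 := fun h => hzero j (σ.map_eq_zero_iff.1 (funext fun k => by
        rw [show k = j from Fin.ext (by omega), h]; rfl))
      have key : ∀ a : ZMod 2, a ≠ 0 → a = 1 := fun a ha => Fin.eq_one_of_ne_zero a ha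
      rw [key _ hne, key (ev j j) (by simp [ev])]
    · refine ⟨fun x => if ∃ i, x = ev i then 2 else 1, ?_, hcard1 (fun x => ?_), fun h => absurd h h2,
        fun _ x => ?_, fun σ hσ => eq_self_of_ev σ fun i => ?_⟩
      · simp only; rw [if_neg]; rintro ⟨i, hi⟩; exact hzero i hi.symm
      · split_ifs <;> decide
      · simp only
        split_ifs <;> decide
      · have h := hσ (ev i)
        simp only [if_pos (⟨i, rfl⟩ : ∃ j, ev (r := r) i = ev j)] at h
        by_contra hne
        rw [if_neg] at h
        · exact absurd h (by decide)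
        · rintro ⟨j, hj⟩
          exact hne (by rw [hj, show j = i from Fin.ext (by omega)])
  let z : Fin m := ⟨0, by omega⟩
  let IsA : (Fin m → ZMod r) → Prop := fun x => ∃ i, i ≠ z ∧ x = ev i
  let IsE : (Fin m → ZMod r) → Prop := fun x => ∃ i j : Fin m, (j : ℕ) = i + 1 ∧ x = ev i + ev j
  have hAz : ¬ IsA (ev z) := fun ⟨i, hi, h⟩ => hi (ev_injective h).symm
  have hA0 : ¬ IsA 0 := fun ⟨i, _, h⟩ => hzero i h.symm
  have hne_succ : ∀ {i j : Fin m}, (j : ℕ) = i + 1 → i ≠ j := fun h e => by subst e; omega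
  have hE0 : ¬ IsE 0 := fun ⟨i, j, hij, h⟩ => by
    have h' := congrFun h i
    simp [ev, Pi.single_apply, hne_succ hij] at h'
  have hEev : ∀ k, ¬ IsE (ev k) := fun k ⟨i, j, hij, h⟩ => by
    have e1 := congrFun h i
    have e2 := congrFun h j
    simp only [ev, Pi.add_apply, Pi.single_apply, if_pos, hne_succ hij, (hne_succ hij).symm, if_false,
      add_zero, zero_add] at e1 e2
    by_cases hki : i = k
    · rw [if_neg (fun h : j = k => hne_succ hij (hki.trans h.symm))] at e2
      exact zero_ne_one e2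
    · rw [if_neg hki] at e1
      exact zero_ne_one e1
  -- an automorphism fixing the first vector, permuting the others and the edges is trivial
  have main : ∀ σ : (Fin m → ZMod r) ≃+ (Fin m → ZMod r), σ (ev z) = ev z →
      (∀ x, IsA x → IsA (σ x)) → (3 ≤ m → ∀ x, IsE x → IsE (σ x)) → ∀ x, σ x = x := by
    intro σ h0 hA hE
    refine eq_self_of_ev σ ?_
    suffices ∀ n : ℕ, ∀ i : Fin m, (i : ℕ) ≤ n → σ (ev i) = ev i from fun i => this i i le_rfl
    intro n
    induction n with
    | zero =>
      intro i hi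
      rw [show i = z from Fin.ext (Nat.le_zero.1 hi), h0]
    | succ n ih =>
      intro i hi
      rcases Nat.lt_or_ge (i : ℕ) (n + 1) with hlt | hge
      · exact ih i (by omega)
      obtain ⟨i', hi'⟩ : ∃ i' : Fin m, (i' : ℕ) = n := ⟨⟨n, by omega⟩, rfl⟩
      have hiz : i ≠ z := fun e => by
        have : (i : ℕ) = 0 := congrArg Fin.val e
        omega
      obtain ⟨j, hjz, hj⟩ := hA _ ⟨i, hiz, rfl⟩
      by_cases hm3 : 3 ≤ m
      · have hfix := ih i' (by omega)
        obtain ⟨a, b, hab, he⟩ := hE hm3 _ ⟨i', i, by omega, rfl⟩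
        rw [map_add, hfix, hj] at he
        have hne : i' ≠ j := fun e => by
          have := σ.injective (hj.trans ((congrArg ev e).symm.trans hfix.symm))
          exact hne_succ (show (i : ℕ) = i' + 1 by omega) (ev_injective this).symm
        rcases ev_pair hne he with ⟨e1, e2⟩ | ⟨e1, e2⟩
        · rw [hj, show j = i from Fin.ext (by rw [e2, hab, ← e1]; omega)]
        · exfalso
          have h1 : (j : ℕ) ≤ n := by
            have : (i' : ℕ) = a + 1 := by rw [e1, hab]
            rw [e2]; omega
          have := σ.injective (hj.trans (ih j h1).symm)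
          rw [ev_injective this] at hge
          omega
      · rw [hj, show j = i from Fin.ext (by
          have : (j : ℕ) ≠ 0 := fun e => hjz (Fin.ext e)
          omega)]
  by_cases h2 : r = 2
  · subst h2
    by_cases hm3 : 3 ≤ m
    · let L : (Fin m → ZMod 2) → Fin 4 := fun x =>
        if x = ev z then 0 else if IsA x then 2 else if IsE x then 3 else 1
      have hL : ∀ x, (L x = 0 ↔ x = ev z) ∧ (L x = 2 ↔ IsA x) ∧ (L x = 3 ↔ IsE x) := by
        intro x
        simp only [L]
        by_cases e1 : x = ev z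
        · subst e1; simp [hAz, hEev z]
        by_cases e2 : IsA x
        · obtain ⟨i, hi, rfl⟩ := e2
          simp [e1, show IsA (ev i) from ⟨i, hi, rfl⟩, hEev i]
        by_cases e3 : IsE x <;> simp [e1, e2, e3]
      refine ⟨L, ?_, ?_, fun _ h => absurd h (by omega), fun h => absurd rfl h, fun σ hσ => main σ ?_ ?_ ?_⟩
      · simp only [L, if_neg (hzero z).symm, if_neg hA0, if_neg hE0]
      · haveI : Subsingleton {x // L x = 0} :=
          ⟨fun a b => Subtype.ext (((hL a.1).1.1 a.2).trans ((hL b.1).1.1 b.2).symm)⟩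
        calc 4 * Nat.card {x // L x = 0} ≤ 4 * 1 := Nat.mul_le_mul_left 4 (Finite.card_le_one_iff_subsingleton.2 inferInstance)
          _ < 2 ^ 3 := by norm_num
          _ ≤ 2 ^ m := Nat.pow_le_pow_right (by norm_num) hm3
      · exact (hL _).1.1 ((hσ _).trans ((hL _).1.2 rfl))
      · exact fun x hx => (hL _).2.1.1 ((hσ _).trans ((hL _).2.1.2 hx))
      · exact fun _ x hx => (hL _).2.2.1 ((hσ _).trans ((hL _).2.2.2 hx))
    · let L : (Fin m → ZMod 2) → Fin 4 := fun x => if x = ev z then 2 else if IsA x then 3 else 1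
      have hL : ∀ x, (L x = 2 ↔ x = ev z) ∧ (L x = 3 ↔ IsA x) ∧ L x ≠ 0 := by
        intro x
        simp only [L]
        by_cases e1 : x = ev z
        · subst e1; simp [hAz]
        by_cases e2 : IsA x <;> simp [e1, e2]
      refine ⟨L, ?_, hcard1 fun x => (hL x).2.2, fun _ h => absurd h (by omega), fun h => absurd rfl h,
        fun σ hσ => main σ ?_ ?_ fun h => absurd h hm3⟩
      · simp only [L, if_neg (hzero z).symm, if_neg hA0]
      · exact (hL _).1.1 ((hσ _).trans ((hL _).1.2 rfl))
      · exact fun x hx => (hL _).2.1.1 ((hσ _).trans ((hL _).2.1.2 hx))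
  · -- odd primes
    let L : (Fin m → ZMod r) → Fin 4 := fun x =>
      if x = ev z ∨ 3 ≤ m ∧ IsE x then 0 else if IsA x then 2 else 1
    have hL : ∀ x, (L x = 0 ↔ x = ev z ∨ 3 ≤ m ∧ IsE x) ∧ (L x = 2 ↔ IsA x) ∧ L x ≠ 3 := by
      intro x
      simp only [L]
      by_cases e1 : x = ev z ∨ 3 ≤ m ∧ IsE x
      · have : ¬ IsA x := by
          rintro ⟨i, hi, rfl⟩
          rcases e1 with e1 | ⟨-, e1⟩
          · exact hi (ev_injective e1)
          · exact hEev i e1
        simp [e1, this]
      by_cases e2 : IsA x <;> simp [e1, e2]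
    have h20 : (2 : ZMod r) ≠ 0 := fun h => by
      have h' : ((2 : ℕ) : ZMod r) = 0 := by exact_mod_cast h
      exact h2 ((Nat.prime_dvd_prime_iff_eq Fact.out Nat.prime_two).1 ((CharP.cast_eq_zero_iff (ZMod r) r 2).1 h'))
    refine ⟨L, ?_, ?_, fun h => absurd h h2, fun _ x => (hL x).2.2, fun σ hσ => ?_⟩
    · simp only [L, if_neg hA0, if_neg (show ¬ ((0 : Fin m → ZMod r) = ev z ∨ 3 ≤ m ∧ IsE 0) by
        rintro (h | ⟨-, h⟩)
        · exact hzero z h.symm
        · exact hE0 h)]
    · let g : {x // L x = 0} → Fin m := fun x =>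
        if h : (x : Fin m → ZMod r) = ev z then z else (((hL x.1).1.1 x.2).resolve_left h).2.choose_spec.choose
      have hg : ∀ x : {x // L x = 0}, (g x = z ∧ (x : Fin m → ZMod r) = ev z) ∨
          (3 ≤ m ∧ g x ≠ z ∧ ∀ i : Fin m, (g x : ℕ) = i + 1 → (x : Fin m → ZMod r) = ev i + ev (g x)) := by
        intro x
        simp only [g]
        split_ifs with h
        · exact Or.inl ⟨rfl, h⟩
        · right
          have hh := (((hL x.1).1.1 x.2).resolve_left h)
          obtain ⟨hij, hx⟩ := hh.2.choose_spec.choose_spec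
          refine ⟨hh.1, fun e => ?_, fun i hi => ?_⟩
          · rw [e] at hij
            exact Nat.succ_ne_zero _ hij.symm
          · rw [show i = hh.2.choose from Fin.ext (by omega)]
            exact hx
      have hinj : Function.Injective g := by
        intro x y e
        rcases hg x with ⟨ex, hx⟩ | ⟨h3, ex, hx⟩ <;> rcases hg y with ⟨ey, hy⟩ | ⟨h3', ey, hy⟩
        · exact Subtype.ext (hx.trans hy.symm)
        · exact absurd (e ▸ ex) ey
        · exact absurd (e.symm ▸ ey) ex
        · have h0 : (g x : ℕ) ≠ 0 := fun h => ex (Fin.ext h)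
          let i : Fin m := ⟨(g x : ℕ) - 1, by omega⟩
          refine Subtype.ext ((hx i (by simp [i]; omega)).trans ?_)
          rw [e]
          exact (hy i (by simp [i, ← e]; omega)).symm
      by_cases hm3 : 3 ≤ m
      · have h1 : Nat.card {x // L x = 0} ≤ m := (Nat.card_le_card_of_injective g hinj).trans_eq (Nat.card_fin m)
        have h3 : ∀ n, 3 ≤ n → 4 * n < 3 ^ n := by
          intro n hn
          induction n, hn using Nat.le_induction with
          | base => norm_num
          | succ n hn ih => rw [pow_succ]; omega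
        calc 4 * Nat.card {x // L x = 0} ≤ 4 * m := Nat.mul_le_mul_left 4 h1
          _ < 3 ^ m := h3 m hm3
          _ ≤ r ^ m := Nat.pow_le_pow_left (by omega) m
      · haveI : Subsingleton {x // L x = 0} := ⟨fun a b => Subtype.ext
          ((((hL a.1).1.1 a.2).resolve_right fun h => hm3 h.1).trans
            (((hL b.1).1.1 b.2).resolve_right fun h => hm3 h.1).symm)⟩
        calc 4 * Nat.card {x // L x = 0} ≤ 4 * 1 := Nat.mul_le_mul_left 4 (Finite.card_le_one_iff_subsingleton.2 inferInstance)
          _ < 3 ^ 2 := by norm_num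
          _ ≤ 3 ^ m := Nat.pow_le_pow_right (by norm_num) hm
          _ ≤ r ^ m := Nat.pow_le_pow_left (by omega) m
    have hA : ∀ x, IsA x → IsA (σ x) := fun x hx => (hL _).2.1.1 ((hσ _).trans ((hL _).2.1.2 hx))
    have hR : ∀ x, (x = ev z ∨ 3 ≤ m ∧ IsE x) → σ x = ev z ∨ 3 ≤ m ∧ IsE (σ x) :=
      fun x hx => (hL _).1.1 ((hσ _).trans ((hL _).1.2 hx))
    have h0 : σ (ev z) = ev z := by
      by_contra hne
      obtain ⟨hm3, a, b, hab, he⟩ := (hR _ (Or.inl rfl)).resolve_left hne
      obtain ⟨x, hx⟩ := σ.surjective (ev z)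
      rcases (hL x).1.1 (by rw [← hσ x, hx]; exact (hL _).1.2 (Or.inl rfl)) with rfl | ⟨-, i, j, hij, rfl⟩
      · exact hne hx
      have hjz : j ≠ z := fun e => by
        rw [e] at hij
        exact Nat.succ_ne_zero _ hij.symm
      obtain ⟨j', hj', ej⟩ := hA _ ⟨j, hjz, rfl⟩
      rw [map_add, ej] at hx
      by_cases hiz : i = z
      · rw [hiz, he] at hx
        have hbz : b ≠ z := fun e => by
          rw [e] at hab
          exact Nat.succ_ne_zero _ hab.symm
        have h' := congrFun hx b
        simp only [ev, Pi.add_apply, Pi.single_apply, if_pos, hbz, if_neg (hne_succ hab).symm, if_false,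
          zero_add] at h'
        split_ifs at h' with h1
        · exact h20 (by rw [← h']; norm_num)
        · exact one_ne_zero (by rw [← h', add_zero])
      · obtain ⟨i', hi', ei⟩ := hA _ ⟨i, hiz, rfl⟩
        rw [ei] at hx
        have h' := congrFun hx j'
        simp only [ev, Pi.add_apply, Pi.single_apply, if_pos, hj', if_false] at h'
        split_ifs at h' with h1
        · exact h20 (by rw [← h']; norm_num)
        · exact one_ne_zero (by rw [← h', zero_add])
    refine main σ h0 hA fun hm3 x hx => ?_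
    rcases hR x (Or.inr ⟨hm3, hx⟩) with h | h
    · exact absurd (σ.injective (h.trans h0.symm)) fun e => hEev z (e ▸ hx)
    · exact h.2

end Vec

theorem exists_coord' {r : ℕ} [Fact r.Prime] (P : Type*) [AddCommGroup P] [Module (ZMod r) P] [Finite P] :
    ∃ d : ℕ, Nonempty (P ≃+ (Fin d → ZMod r)) := by
  have h1 : Module.Finite (ZMod r) P := inferInstance
  let b : Module.Basis (Fin (Module.finrank (ZMod r) P)) (ZMod r) P := Module.finBasis (ZMod r) P
  exact ⟨_, ⟨b.equivFun.toAddEquiv⟩⟩

theorem exists_coord {r : ℕ} [Fact r.Prime] {P : Type*} [AddCommGroup P] [Finite P] (hP : ∀ x : P, r • x = 0) :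
    ∃ d : ℕ, Nonempty (P ≃+ (Fin d → ZMod r)) :=
  @exists_coord' r _ P _ (AddCommGroup.zmodModule hP) _

variable {Q : Type*} [CommGroup Q] [Finite Q]

/-- A component of the group. -/
theorem component_rigid (r : ℕ) (hr : r.Prime) : ∃ L : Q → Fin 4,
    4 * Nat.card {q : Q // orderOf q = r ∧ L q = 0} ≤ Nat.card {q : Q // orderOf q = r} ∧
    (r = 2 → Nat.card {q : Q // q ^ 2 = 1} ≤ 2 → ∀ q, L q = 1) ∧ (r ≠ 2 → ∀ q, L q ≠ 3) ∧
    ∀ π : Q ≃* Q, (∀ q, orderOf q = r → L (π q) = L q) → ∀ q, orderOf q = r → π q = q := by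
  classical
  haveI := Fact.mk hr
  let P : AddSubgroup (Additive Q) := (nsmulAddMonoidHom r : Additive Q →+ Additive Q).ker
  have hP : ∀ x : P, r • x = 0 := fun x => Subtype.ext x.2
  obtain ⟨d, ⟨ψ⟩⟩ := exists_coord hP
  obtain ⟨L₀, hL0, hcard, htwo, hodd, hrig⟩ := vec_rigid r d
  have hmem : ∀ q : Q, Additive.ofMul q ∈ P ↔ q ^ r = 1 := fun q => Iff.rfl
  let L : Q → Fin 4 := fun q => if h : q ^ r = 1 then L₀ (ψ ⟨Additive.ofMul q, (hmem q).2 h⟩) else 1
  have hL : ∀ (q : Q) (h : q ^ r = 1), L q = L₀ (ψ ⟨Additive.ofMul q, (hmem q).2 h⟩) := fun q h => dif_pos h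
  have hord : ∀ {q : Q}, q ^ r = 1 → q ≠ 1 → orderOf q = r := fun h h' => orderOf_eq_prime h h'
  have hpow : ∀ {q : Q}, orderOf q = r → q ^ r = 1 := fun {q} h => h ▸ pow_orderOf_eq_one q
  have hcardP : Nat.card P = r ^ d := by
    rw [Nat.card_congr ψ.toEquiv, Nat.card_fun, Nat.card_zmod, Nat.card_fin]
  let e : {q : Q // orderOf q = r} ≃ {x : P // x ≠ 0} :=
    { toFun := fun q => ⟨⟨Additive.ofMul q.1, (hmem _).2 (hpow q.2)⟩, fun h => by
        have h1 : q.1 = 1 := congrArg (fun x : P => Additive.toMul (x : Additive Q)) h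
        exact hr.ne_one (q.2.symm.trans (by rw [h1, orderOf_one]))⟩
      invFun := fun x => ⟨Additive.toMul (x.1 : Additive Q), hord ((hmem _).1 x.1.2) fun h =>
        x.2 (Subtype.ext h)⟩
      left_inv := fun _ => rfl
      right_inv := fun _ => rfl }
  refine ⟨L, ?_, fun h h2 q => ?_, fun h q => ?_, fun π hπ q hq => ?_⟩
  · have h1 : Nat.card {q : Q // orderOf q = r} + 1 = Nat.card P := by
      haveI := Fintype.ofFinite P
      rw [Nat.card_congr e, ← Finite.card_option]
      exact Nat.card_congr (Equiv.optionSubtypeNe (0 : P))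
    have h2 : Nat.card {q : Q // orderOf q = r ∧ L q = 0} ≤ Nat.card {x // L₀ x = 0} := by
      refine Nat.card_le_card_of_injective
        (fun q => ⟨ψ ⟨Additive.ofMul q.1, (hmem _).2 (hpow q.2.1)⟩, by rw [← hL _ (hpow q.2.1)]; exact q.2.2⟩) fun a b hab => ?_
      have := ψ.injective (congrArg Subtype.val hab)
      exact Subtype.ext (congrArg (fun x : P => Additive.toMul (x : Additive Q)) this)
    omega
  · by_cases hq : q ^ r = 1
    · rw [hL q hq]
      refine htwo h ?_ _
      have h3 : Nat.card P ≤ 2 := by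
        subst h
        exact le_trans (Nat.card_le_card_of_injective
          (fun x : P => (⟨Additive.toMul (x : Additive Q), x.2⟩ : {q : Q // q ^ 2 = 1}))
          fun a b hab => Subtype.ext (congrArg Subtype.val hab)) h2
      by_contra hm
      rw [hcardP, h] at h3
      have := Nat.pow_le_pow_right (show 1 ≤ 2 by norm_num) (show 2 ≤ d by omega)
      subst h
      omega
    · exact dif_neg hq
  · by_cases hq : q ^ r = 1
    · rw [hL q hq]; exact hodd h _
    · simp only [L, dif_neg hq]; decide
  · let σP : P ≃+ P :=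
      { toFun := fun x => ⟨Additive.ofMul (π (Additive.toMul (x : Additive Q))), by
          have hx : Additive.toMul (x : Additive Q) ^ r = 1 := x.2
          rw [hmem, ← map_pow, hx, map_one]⟩
        invFun := fun x => ⟨Additive.ofMul (π.symm (Additive.toMul (x : Additive Q))), by
          have hx : Additive.toMul (x : Additive Q) ^ r = 1 := x.2
          rw [hmem, ← map_pow, hx, map_one]⟩
        left_inv := fun x => Subtype.ext (congrArg Additive.ofMul (π.symm_apply_apply _))
        right_inv := fun x => Subtype.ext (congrArg Additive.ofMul (π.apply_symm_apply _))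
        map_add' := fun x y => Subtype.ext (congrArg Additive.ofMul (map_mul π _ _)) }
    have h := hrig ((ψ.symm.trans σP).trans ψ) (fun y => by
      obtain ⟨x, rfl⟩ := ψ.surjective y
      simp only [AddEquiv.trans_apply, AddEquiv.symm_apply_apply]
      by_cases hx : x = 0
      · rw [hx, map_zero]
      have hx' : Additive.toMul (x : Additive Q) ^ r = 1 := (hmem _).1 x.2
      have h1 := hπ _ (hord hx' fun h => hx (Subtype.ext h))
      rw [hL _ hx', hL _ (by rw [← map_pow, hx', map_one])] at h1
      exact h1) (ψ ⟨Additive.ofMul q, (hmem q).2 (hpow hq)⟩)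
    simp only [AddEquiv.trans_apply, AddEquiv.symm_apply_apply] at h
    exact congrArg (fun x : P => Additive.toMul (x : Additive Q)) (ψ.injective h)

/-- The colouring of the whole group. -/
theorem exists_rigid {k : ℕ} (hk : ∀ q : Q, q ^ k = 1) (hsq : ∀ r : ℕ, r.Prime → ¬ r * r ∣ k) :
    ∃ L : Q → Fin 4, L 1 = 1 ∧ 4 * Nat.card {q : Q // L q = 0} < Nat.card Q ∧
      (Nat.card {q : Q // q ^ 2 = 1} ≤ 2 → ∀ q : Q, q ^ 2 = 1 → L q = 1) ∧
      (∀ r : ℕ, r ≠ 2 → ∀ q : Q, orderOf q = r → L q ≠ 3) ∧
      (∀ q : Q, ¬ (orderOf q).Prime → L q = 1) ∧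
      ∀ π : Q ≃* Q, (∀ q : Q, (orderOf q).Prime → L (π q) = L q) → ∀ q, π q = q := by
  classical
  choose Lc hcount htwo hodd hrig using fun r (hr : r.Prime) => component_rigid (Q := Q) r hr
  let L : Q → Fin 4 := fun q => if h : (orderOf q).Prime then Lc _ h q else 1
  have hL : ∀ {r : ℕ} (hr : r.Prime) (q : Q), orderOf q = r → L q = Lc r hr q := by
    intro r hr q h
    subst h
    exact dif_pos hr
  refine ⟨L, ?_, ?_, fun h2 q hq => ?_, fun r hr q hq => ?_, fun q hq => dif_neg hq, fun π hπ q => ?_⟩
  · simp only [L, dif_neg (show ¬ (orderOf (1 : Q)).Prime by rw [orderOf_one]; exact Nat.not_prime_one)]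
  · haveI := Fintype.ofFinite Q
    let S : Finset Q := Finset.univ.filter fun q => (orderOf q).Prime
    let S₀ : Finset Q := S.filter fun q => L q = 0
    have hsub : (Finset.univ.filter fun q : Q => L q = 0) ⊆ S₀ := fun q hq => by
      have h0 := (Finset.mem_filter.1 hq).2
      refine Finset.mem_filter.2 ⟨Finset.mem_filter.2 ⟨Finset.mem_univ _, ?_⟩, h0⟩
      by_contra h
      simp only [L, dif_neg h] at h0
      exact absurd h0 (by decide)
    have hS : S.card < Nat.card Q := by
      rw [Nat.card_eq_fintype_card]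
      exact Finset.card_lt_univ_of_notMem (x := 1) fun h => by
        have := (Finset.mem_filter.1 h).2
        rw [orderOf_one] at this
        exact Nat.not_prime_one this
    let T := S.image orderOf
    have e1 : S.card = ∑ r ∈ T, (S.filter fun q => orderOf q = r).card :=
      Finset.card_eq_sum_card_fiberwise fun q hq => Finset.mem_image_of_mem _ hq
    have e2 : S₀.card = ∑ r ∈ T, (S₀.filter fun q => orderOf q = r).card :=
      Finset.card_eq_sum_card_fiberwise fun q hq => Finset.mem_image_of_mem _ (Finset.filter_subset _ _ hq)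
    have e3 : 4 * S₀.card ≤ S.card := by
      rw [e1, e2, Finset.mul_sum]
      refine Finset.sum_le_sum fun r hr => ?_
      obtain ⟨q₀, hq₀, rfl⟩ := Finset.mem_image.1 hr
      have hp := (Finset.mem_filter.1 hq₀).2
      have h := hcount _ hp
      rw [Nat.card_eq_fintype_card, Nat.card_eq_fintype_card, Fintype.card_subtype, Fintype.card_subtype] at h
      refine le_trans (Nat.mul_le_mul_left 4 (Finset.card_le_card fun q hq => ?_))
        (h.trans (Finset.card_le_card fun q hq => ?_))
      · obtain ⟨hq1, hq2⟩ := Finset.mem_filter.1 hq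
        exact Finset.mem_filter.2 ⟨Finset.mem_univ _, hq2, (hL hp q hq2).symm.trans (Finset.mem_filter.1 hq1).2⟩
      · have hq2 := (Finset.mem_filter.1 hq).2
        exact Finset.mem_filter.2 ⟨Finset.mem_filter.2 ⟨Finset.mem_univ _, hq2.symm ▸ hp⟩, hq2⟩
    calc 4 * Nat.card {q : Q // L q = 0} ≤ 4 * S₀.card := by
          refine Nat.mul_le_mul_left 4 ?_
          rw [Nat.card_eq_fintype_card, Fintype.card_subtype]
          exact Finset.card_le_card hsub
      _ < Nat.card Q := lt_of_le_of_lt e3 hS
  · by_cases h : (orderOf q).Prime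
    · have h' : orderOf q = 2 := (Nat.prime_dvd_prime_iff_eq h Nat.prime_two).1 (orderOf_dvd_of_pow_eq_one hq)
      rw [hL Nat.prime_two q h']
      exact htwo 2 Nat.prime_two rfl h2 q
    · exact dif_neg h
  · by_cases h : r.Prime
    · rw [hL h q hq]; exact hodd r h hr q
    · simp only [L, dif_neg (show ¬ (orderOf q).Prime from hq ▸ h)]; decide
  · have hprime : ∀ x : Q, (orderOf x).Prime → π x = x := fun x hx =>
      hrig _ hx π (fun y hy => by
        rw [← hL hx y hy, ← hL hx _ ((MulEquiv.orderOf_eq π y).trans hy)]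
        exact hπ y (hy.symm ▸ hx)) x rfl
    suffices ∀ n : ℕ, ∀ x : Q, orderOf x = n → π x = x from this _ q rfl
    intro n
    induction n using Nat.strong_induction_on with
    | _ n ih =>
      intro x hx
      subst hx
      rcases eq_or_ne (orderOf x) 1 with h1 | h1
      · rw [orderOf_eq_one_iff.1 h1, map_one]
      obtain ⟨r, hr, t, ht⟩ := Nat.exists_prime_and_dvd h1
      by_cases ht1 : t = 1
      · exact hprime x (by rw [ht, ht1, mul_one]; exact hr)
      have hcop : r.Coprime t := hr.coprime_iff_not_dvd.2 fun ⟨c, hc⟩ => hsq r hr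
        (dvd_trans ⟨c, by rw [ht, hc]; ring⟩ (orderOf_dvd_of_pow_eq_one (hk x)))
      have ht0 : 0 < t := Nat.pos_of_ne_zero fun h => by
        rw [h, mul_zero] at ht
        exact (orderOf_pos x).ne' ht
      have hpowfix : ∀ a c : ℕ, orderOf x = a * c → c < orderOf x → π (x ^ a) = x ^ a := fun a c hac hlt => by
        refine ih _ (lt_of_le_of_lt (Nat.le_of_dvd (Nat.pos_of_ne_zero fun h => ?_)
          (orderOf_dvd_of_pow_eq_one (by rw [← pow_mul, ← hac, pow_orderOf_eq_one]))) hlt) _ rfl
        rw [h, mul_zero] at hac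
        exact (orderOf_pos x).ne' hac
      obtain ⟨u, w, huw⟩ : ∃ u w : ℤ, u * (r : ℤ) + w * (t : ℤ) = 1 := by
        obtain ⟨u, w, h⟩ := Int.isCoprime_iff_gcd_eq_one.2 (by exact_mod_cast hcop : Int.gcd (r : ℤ) t = 1)
        exact ⟨u, w, h⟩
      have hxx : x = (x ^ r) ^ u * (x ^ t) ^ w := by
        rw [← zpow_natCast, ← zpow_natCast, ← zpow_mul, ← zpow_mul, ← zpow_add, mul_comm _ u, mul_comm _ w, huw,
          zpow_one]
      have h2 := hr.two_le
      rw [hxx, map_mul, map_zpow, map_zpow, hpowfix r t ht (by rw [ht]; nlinarith),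
        hpowfix t r (ht.trans (mul_comm r t)) (by rw [ht]; nlinarith [show 2 ≤ t by omega])]

end Cfsg.Lib.CoprimeBase
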