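import Cfsg.Agent.Lib.CoprimeBase.Centre
import Cfsg.Agent.Lib.CoprimeBase.Rigid

/-!
Regular pairs from frames with enough classes of vectors: representatives of prime order with normalised powers, and
a rigid colouring of the translates.
-/

set_option autoImplicit false
set_option linter.unusedSectionVars false
set_option linter.style.haveILetI false

namespace Cfsg.Lib.CoprimeBase

open MulAction Cfsg.Lib.OddBase
open scoped commutatorElement

universe v

variable {A V : Type v} [Group A] [Finite A] [AddCommGroup V] [Finite V] [DistribMulAction A V] {p : ℕ}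

namespace Setting

variable (s : Setting A V p)

theorem exists_exponent :
    ∃ k : ℕ, 0 < k ∧ k ∣ s.z ∧ (∀ x : s.N, x ^ k ∈ Subgroup.center s.N) ∧ ∀ r : ℕ, r.Prime → ¬ r * r ∣ k := by
  classical
  have hex : ∃ k : ℕ, 0 < k ∧ ∀ y : s.N, y ^ k ∈ Subgroup.center s.N := ⟨s.z, s.z_pos, s.pow_z_mem⟩
  obtain ⟨hk0, hk⟩ := Nat.find_spec hex
  set k := Nat.find hex
  refine ⟨k, hk0, ?_, hk, fun r hr =>
    exponent_squarefree s.hcl s.hcyc hk (fun j hj hjc => Nat.find_min' hex ⟨hj, hjc⟩) hk0 hr⟩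
  refine Nat.dvd_of_mod_eq_zero (by_contra fun h => ?_)
  refine Nat.find_min hex (Nat.mod_lt s.z hk0) ⟨Nat.pos_of_ne_zero h, fun y => ?_⟩
  have h1 := s.pow_z_mem y
  rw [← Nat.div_add_mod s.z k, pow_add, pow_mul] at h1
  exact (Subgroup.mul_mem_cancel_left _ (pow_mem (hk y) _)).1 h1

theorem exists_rep_odd (e : V) {q : s.N ⧸ s.mid e} {r : ℕ} (hr : r.Prime) (hr2 : r ≠ 2) (hq : orderOf q = r)
    {k a o : ℕ} (hk : ∀ x : s.N, x ^ k ∈ Subgroup.center s.N) (hsq : ∀ r : ℕ, r.Prime → ¬ r * r ∣ k)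
    (hz : s.z = 2 ^ a * o) :
    ∃ x : s.N, (x : s.N ⧸ s.mid e) = q ∧ x ^ r ∈ Subgroup.center s.N ∧ (x ^ r) ^ o = 1 := by
  have hqk : q ^ k = 1 := by
    induction q using QuotientGroup.induction_on with
    | H y => rw [← QuotientGroup.mk_pow, QuotientGroup.eq_one_iff]; exact s.center_le_mid e (hk y)
  obtain ⟨k', hk'⟩ : r ∣ k := hq ▸ orderOf_dvd_of_pow_eq_one hqk
  have hcop : (r : ℕ).Coprime (k' * 2 ^ a) := by
    refine Nat.Coprime.mul_right (hr.coprime_iff_not_dvd.2 fun ⟨c, hc⟩ => hsq r hr ⟨c, by rw [hk', hc]; ring⟩) ?_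
    exact Nat.Coprime.pow_right a ((Nat.coprime_primes hr Nat.prime_two).2 hr2)
  obtain ⟨w, u, huw⟩ : ∃ w u : ℤ, w * (r : ℤ) + u * ((k' * 2 ^ a : ℕ) : ℤ) = 1 := by
    obtain ⟨w, u, h⟩ := Int.isCoprime_iff_gcd_eq_one.2
      (by exact_mod_cast hcop : Int.gcd (r : ℤ) ((k' * 2 ^ a : ℕ) : ℤ) = 1)
    exact ⟨w, u, h⟩
  obtain ⟨y, hy⟩ := QuotientGroup.mk_surjective (q ^ u)
  refine ⟨y ^ (k' * 2 ^ a), ?_, ?_, ?_⟩
  · rw [QuotientGroup.mk_pow, hy, ← zpow_natCast, ← zpow_mul]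
    conv_rhs => rw [← zpow_one q, ← huw, zpow_add, mul_comm w, zpow_mul, zpow_natCast, ← hq, pow_orderOf_eq_one,
      one_zpow, one_mul]
  · rw [← pow_mul, show k' * 2 ^ a * r = k * 2 ^ a by rw [hk']; ring, pow_mul]
    exact pow_mem (hk y) _
  · rw [← pow_mul, ← pow_mul, show k' * 2 ^ a * (r * o) = k * s.z by rw [hk', hz]; ring, pow_mul]
    exact s.pow_z (hk y)

theorem exists_rep_two (e : V) {q : s.N ⧸ s.mid e} (hq : orderOf q = 2) {k : ℕ}
    (hk : ∀ x : s.N, x ^ k ∈ Subgroup.center s.N) (hsq : ∀ r : ℕ, r.Prime → ¬ r * r ∣ k) {ω : s.N}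
    (hω : Subgroup.zpowers ω = Subgroup.center s.N) {j : ℕ} (hj : Odd j) :
    ∃ x : s.N, (x : s.N ⧸ s.mid e) = q ∧ (x ^ 2 = 1 ∨ x ^ 2 = ω ^ j) := by
  have hqk : q ^ k = 1 := by
    induction q using QuotientGroup.induction_on with
    | H y => rw [← QuotientGroup.mk_pow, QuotientGroup.eq_one_iff]; exact s.center_le_mid e (hk y)
  obtain ⟨k', hk'⟩ : 2 ∣ k := hq ▸ orderOf_dvd_of_pow_eq_one hqk
  have hk'odd : Odd k' := Nat.not_even_iff_odd.1 fun ⟨c, hc⟩ => hsq 2 Nat.prime_two ⟨c, by omega⟩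
  obtain ⟨y, hy⟩ := QuotientGroup.mk_surjective q
  have hq2 : q ^ 2 = 1 := hq ▸ pow_orderOf_eq_one q
  have hx₀ : ((y ^ k' : s.N) : s.N ⧸ s.mid e) = q := by
    obtain ⟨c, hc⟩ := hk'odd
    rw [QuotientGroup.mk_pow, hy, hc, pow_succ, pow_mul, hq2, one_pow, one_mul]
  have hsqc : (y ^ k') ^ 2 ∈ Subgroup.zpowers ω := by
    rw [hω, ← pow_mul, mul_comm, ← hk']
    exact hk y
  obtain ⟨i, hi⟩ := Subgroup.mem_zpowers_iff.1 hsqc
  have hωZ : ω ∈ Subgroup.center s.N := hω ▸ Subgroup.mem_zpowers ω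
  have key : ∀ t : ℤ, (y ^ k' * ω ^ t) ^ 2 = ω ^ (i + 2 * t) := fun t => by
    rw [(show Commute (y ^ k') (ω ^ t) from Subgroup.mem_center_iff.1 (zpow_mem hωZ t) _).mul_pow, ← hi,
      ← zpow_natCast (ω ^ t), ← zpow_mul, zpow_add, mul_comm t]
    rfl
  have hmk : ∀ t : ℤ, ((y ^ k' * ω ^ t : s.N) : s.N ⧸ s.mid e) = q := fun t => by
    rw [QuotientGroup.mk_mul, hx₀, (QuotientGroup.eq_one_iff _).2 (s.center_le_mid e (zpow_mem hωZ t)), mul_one]
  rcases Int.even_or_odd i with ⟨c, hc⟩ | ⟨c, hc⟩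
  · refine ⟨_, hmk (-c), Or.inl ?_⟩
    rw [key, show i + 2 * -c = 0 by omega, zpow_zero]
  · obtain ⟨d, hd⟩ := hj
    refine ⟨_, hmk ((d : ℤ) - c), Or.inr ?_⟩
    rw [key, show i + 2 * ((d : ℤ) - c) = ((j : ℕ) : ℤ) by omega, zpow_natCast]

variable {s} {e : V}

/-- No element relating two representatives of odd prime order inverts a vector. -/
theorem Max.no_neg [Fact p.Prime] (he : s.Max e) {x x' u : s.N} {φ : s.N ≃* s.N}
    (hφ : ∀ k ∈ Subgroup.center s.N, φ k = k) {r : ℕ} (hr : Odd r) {o : ℕ} (ho : Odd o)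
    (hx : x ^ r ∈ Subgroup.center s.N) (hxo : (x ^ r) ^ o = 1) (hx' : x' ^ r ∈ Subgroup.center s.N)
    (hx'o : (x' ^ r) ^ o = 1) (hrel : φ x = x' * u) {f : V} (hf0 : f ≠ 0) : u • f ≠ -f := by
  intro hneg
  have hc : ⁅u, x'⁆ ^ r.choose 2 = 1 := by
    obtain ⟨d, hd⟩ := Cfsg.Lib.SolvBase.dvd_choose_two_of_odd hr
    rw [hd, pow_mul, ← Cfsg.Lib.PGroup.commutatorElement_pow_right s.hcl,
      commutatorElement_eq_one_iff_mul_comm.2 (Subgroup.mem_center_iff.1 hx' u), one_pow]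
  have h1 : x ^ r = x' ^ r * u ^ r := by
    rw [← hφ _ hx, map_pow, hrel, Cfsg.Lib.PGroup.mul_pow_of_class_two s.hcl, hc, mul_one]
  have h2 : u ^ (r * o) = 1 := by
    have h3 := congrArg (· ^ o) h1
    simp only [hxo, (show Commute (x' ^ r) (u ^ r) from (Subgroup.mem_center_iff.1 hx' (u ^ r)).symm).mul_pow,
      hx'o, one_mul, ← pow_mul] at h3
    exact h3.symm
  have hpow : ∀ n : ℕ, u ^ (2 * n + 1) • f = -f := by
    intro n
    induction n with
    | zero => simpa using hneg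
    | succ n ih =>
      rw [show 2 * (n + 1) + 1 = (2 * n + 1) + 1 + 1 by ring, pow_succ, pow_succ, mul_smul, mul_smul, hneg,
        smul_neg, hneg, neg_neg, ih]
  obtain ⟨n, hn⟩ := hr.mul ho
  have h4 := hpow n
  rw [← hn, h2, one_smul] at h4
  have hf2 : (2 : ℕ) • f = 0 := by rw [two_nsmul]; nth_rewrite 2 [h4]; exact add_neg_cancel f
  have hord := addOrderOf_dvd_of_nsmul_eq_zero (s.hp f)
  have hord2 := addOrderOf_dvd_of_nsmul_eq_zero hf2
  rcases (Nat.dvd_prime Nat.prime_two).1 hord2 with h | h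
  · exact hf0 (AddMonoid.addOrderOf_eq_one_iff.1 h)
  · rw [h] at hord
    exact s.hp2 ((Nat.prime_dvd_prime_iff_eq Nat.prime_two Fact.out).1 hord).symm

/-- The element relating two representatives of order two has fourth power fixing every vector moved by it
proportionally. -/
theorem Max.pow_four [Fact p.Prime] (he : s.Max e) {x x' u : s.N} (hu : u ∈ s.mid e) {φ : s.N ≃* s.N}
    (hφ : ∀ k ∈ Subgroup.center s.N, φ k = k) {ω : s.N} (hω : Subgroup.zpowers ω = Subgroup.center s.N) {j : ℕ}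
    (hj : Odd j) (hj2 : Odd (s.z / 2) → (ω ^ j) ^ 2 = 1)
    (hx : x ^ 2 = 1 ∨ x ^ 2 = ω ^ j) (hx' : x' ^ 2 = 1 ∨ x' ^ 2 = ω ^ j) (hrel : φ x = x' * u) :
    ∀ f ∈ s.eig e, u ^ 4 • f = f := by
  intro f hf
  have hωj : ω ^ j ∈ Subgroup.center s.N := pow_mem (hω ▸ Subgroup.mem_zpowers ω) j
  have hmem : ∀ {y : s.N}, (y ^ 2 = 1 ∨ y ^ 2 = ω ^ j) → y ^ 2 ∈ Subgroup.center s.N := fun h => by
    rcases h with h | h <;> rw [h]
    exacts [one_mem _, hωj]
  set σ := ⁅u, x'⁆ with hσ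
  have hσ2 : σ ^ 2 = 1 := by
    rw [hσ, ← Cfsg.Lib.PGroup.commutatorElement_pow_right s.hcl,
      commutatorElement_eq_one_iff_mul_comm.2 (Subgroup.mem_center_iff.1 (hmem hx') u)]
  have hσc : σ ∈ Subgroup.center s.N := s.commutator_mem _ _
  have h1 : x ^ 2 = x' ^ 2 * u ^ 2 * σ := by
    rw [← hφ _ (hmem hx), map_pow, hrel, Cfsg.Lib.PGroup.mul_pow_of_class_two s.hcl, Nat.choose_self, pow_one]
  have hu2 : u ^ 2 = (x' ^ 2)⁻¹ * x ^ 2 * σ⁻¹ := by rw [h1]; group
  have hu4 : u ^ 4 = ((x' ^ 2)⁻¹ * x ^ 2) ^ 2 := by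
    rw [show (4 : ℕ) = 2 * 2 by norm_num, pow_mul, hu2,
      (show Commute ((x' ^ 2)⁻¹ * x ^ 2) σ⁻¹ from Subgroup.mem_center_iff.1 (inv_mem hσc) _).mul_pow, inv_pow,
      hσ2, inv_one, mul_one]
  by_cases hodd : Odd (s.z / 2)
  · rw [hu4]
    rcases hx with h | h <;> rcases hx' with h' | h' <;> rw [h, h'] <;>
      simp only [inv_one, one_mul, mul_one, inv_pow, one_pow, hj2 hodd, inv_mul_cancel, one_smul]
  -- four divides the order of the centre
  rcases hx with h | h <;> rcases hx' with h' | h'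
  · rw [hu4, h, h']; simp
  rotate_left
  rotate_left
  · rw [hu4, h, h']; simp
  all_goals
    exfalso
    have hM : s.mid e = s.line e := he.mid_dichotomy.resolve_right fun hh => hodd hh.1
    obtain ⟨k, hk, hke⟩ := hM ▸ hu
    have hk2 : k ^ 2 = u ^ 2 := by
      refine s.hfpf.eq_of_smul_eq (pow_mem hk 2) ?_ he.ne (s.zsmul_center hk hke 2).symm
      rw [hu2]
      exact mul_mem (mul_mem (inv_mem (hmem (by first | exact Or.inl h' | exact Or.inr h')))
        (hmem (by first | exact Or.inl h | exact Or.inr h))) (inv_mem hσc)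
    obtain ⟨d, hd⟩ := s.z_even
    have hzd : s.z / 2 = d := by omega
    rw [hzd, Nat.not_odd_iff_even] at hodd
    obtain ⟨d', hd'⟩ := hodd
    have hne : (ω ^ j) ^ d ≠ 1 := by
      rw [← pow_mul]
      intro h0
      have h2 := orderOf_dvd_of_pow_eq_one h0
      rw [← Nat.card_zpowers, hω] at h2
      obtain ⟨t, ht⟩ := h2
      obtain ⟨i, hi⟩ := hj
      change j * d = s.z * t at ht
      rw [hi, hd] at ht
      have hd0 : 0 < d := by have := s.z_pos; omega
      have : 2 * i + 1 = 2 * t := Nat.eq_of_mul_eq_mul_left hd0 (by linarith [ht])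
      omega
    have hkz : (k ^ 2) ^ d = 1 := by rw [← pow_mul, two_mul, ← hd]; exact s.pow_z hk
    rw [hk2, hu2, h, h', (show Commute _ σ⁻¹ from Subgroup.mem_center_iff.1 (inv_mem hσc) _).mul_pow,
      inv_pow σ, show σ ^ d = 1 by rw [hd', ← two_mul, pow_mul, hσ2, one_pow], inv_one, mul_one] at hkz
    simp only [inv_one, one_mul, mul_one, inv_pow, inv_eq_one] at hkz
    exact hne hkz

/-- A regular pair from a frame with three classes, or with at most one translate of order two. -/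
theorem Max.generic_pair [FaithfulSMul A V] [Fact p.Prime] (he : s.Max e) {e₂ : V} (he₂ : e₂ ∈ s.eig e)
    (hpair : ∀ a : A, (∀ w ∈ s.eig e, a • w ∈ s.eig e) → a • e = e → a • e₂ = e₂ → ∀ w ∈ s.eig e, a • w = w)
    (hcls : s.ThreeClasses e ∨ Nat.card {q : s.N ⧸ s.mid e // q ^ 2 = 1} ≤ 2) : HasPair A V := by
  classical
  letI : CommGroup (s.N ⧸ s.mid e) := { (inferInstance : Group (s.N ⧸ s.mid e)) with mul_comm := s.mk_commute' e }
  obtain ⟨k, hk0, hkz, hk, hsq⟩ := s.exists_exponent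
  obtain ⟨a, o, ho, hao⟩ := Nat.exists_eq_two_pow_mul_odd s.z_pos.ne'
  haveI := s.isCyclic_center
  obtain ⟨ωc, hωc⟩ := IsCyclic.exists_generator (α := Subgroup.center s.N)
  have hω : Subgroup.zpowers (ωc : s.N) = Subgroup.center s.N :=
    le_antisymm (Subgroup.zpowers_le.2 ωc.2) fun c hc => by
      obtain ⟨i, hi⟩ := Subgroup.mem_zpowers_iff.1 (hωc ⟨c, hc⟩)
      exact ⟨i, congrArg Subtype.val hi⟩
  let j : ℕ := if Odd (s.z / 2) then s.z / 2 else 1
  have hj : Odd j := by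
    simp only [j]
    split_ifs with h
    exacts [h, odd_one]
  have hj2 : Odd (s.z / 2) → ((ωc : s.N) ^ j) ^ 2 = 1 := fun h => by
    simp only [j, if_pos h]
    rw [← pow_mul, Nat.div_mul_cancel s.z_even.two_dvd]
    exact s.pow_z ωc.2
  let P : s.N ⧸ s.mid e → s.N → Prop := fun q x => (q = 1 → x = 1) ∧
    (orderOf q = 2 → x ^ 2 = 1 ∨ x ^ 2 = (ωc : s.N) ^ j) ∧
    ((orderOf q).Prime → orderOf q ≠ 2 → x ^ orderOf q ∈ Subgroup.center s.N ∧ (x ^ orderOf q) ^ o = 1)
  have hP : ∀ q : s.N ⧸ s.mid e, ∃ x : s.N, (x : s.N ⧸ s.mid e) = q ∧ P q x := by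
    intro q
    by_cases h1 : q = 1
    · subst h1
      refine ⟨1, QuotientGroup.mk_one _, fun _ => rfl, fun _ => Or.inl (one_pow 2), fun h => ?_⟩
      rw [orderOf_one] at h
      exact absurd h Nat.not_prime_one
    by_cases h2 : orderOf q = 2
    · obtain ⟨x, hx, hx2⟩ := s.exists_rep_two e h2 hk hsq hω hj
      exact ⟨x, hx, fun h => absurd h h1, fun _ => hx2, fun _ h => absurd h2 h⟩
    by_cases h3 : (orderOf q).Prime
    · obtain ⟨x, hx, hxr, hxo⟩ := s.exists_rep_odd e h3 h2 rfl hk hsq hao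
      exact ⟨x, hx, fun h => absurd h h1, fun h => absurd h h2, fun _ _ => ⟨hxr, hxo⟩⟩
    obtain ⟨x, hx⟩ := QuotientGroup.mk_surjective q
    exact ⟨x, hx, fun h => absurd h h1, fun h => absurd h h2, fun h => absurd h h3⟩
  choose rep hrep hrepP using hP
  obtain ⟨L, hL1, hLcard, hLtwo, hLodd, -, hLrig⟩ := exists_rigid (Q := s.N ⧸ s.mid e) (k := k) (fun q => by
    induction q using QuotientGroup.induction_on with
    | H x => rw [← QuotientGroup.mk_pow, QuotientGroup.eq_one_iff]; exact s.center_le_mid e (hk x)) hsq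
  obtain ⟨F, hF, hFne⟩ : ∃ F : Fin 3 → V, (∀ i, F i ∈ s.eig e ∧ F i ≠ 0) ∧
      (Nat.card {q : s.N ⧸ s.mid e // q ^ 2 = 1} ≤ 2 ∨
        ∀ i i', i ≠ i' → ∀ u ∈ s.mid e, u ^ 4 • F i = F i → u • F i ≠ F i') := by
    rcases hcls with ⟨F, h1, h2⟩ | h
    · exact ⟨F, h1, Or.inr h2⟩
    · exact ⟨fun _ => e, fun _ => ⟨s.self_mem_eig e, he.ne⟩, Or.inl h⟩
  let col : s.N ⧸ s.mid e → Fin 4 → V := fun q l =>
    if orderOf q = 2 then ![0, F 0, F 1, F 2] l else ![0, e, -e, e] l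
  let f : s.N ⧸ s.mid e → V := fun q => if q = 1 then e₂ else col q (L q)
  have hcol0 : ∀ q l, col q l = 0 → l = 0 := by
    intro q l h
    simp only [col] at h
    split_ifs at h <;> fin_cases l
    all_goals first
      | rfl
      | exact absurd h (hF 0).2
      | exact absurd h (hF 1).2
      | exact absurd h (hF 2).2
      | exact absurd h he.ne
      | exact absurd h (neg_ne_zero.2 he.ne)
  refine s.frame_pair he.ne rep hrep ((hrepP 1).1 rfl) f (fun q => ?_) (if_pos rfl) hpair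
    (fun q _ hq m hm hmf => ?_) ?_ (fun φ hφ π hπ => hLrig π fun q hq => ?_)
  · simp only [f, col]
    split_ifs
    · exact he₂
    all_goals generalize L q = l; fin_cases l
    · exact zero_mem _
    · exact (hF 0).1
    · exact (hF 1).1
    · exact (hF 2).1
    · exact zero_mem _
    · exact s.self_mem_eig e
    · exact neg_mem (s.self_mem_eig e)
    · exact s.self_mem_eig e
  · refine he.smul_eq_of_fix ?_ hq hmf
    simp only [f, col]
    split_ifs
    · exact he₂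
    all_goals generalize L q = l; fin_cases l
    · exact zero_mem _
    · exact (hF 0).1
    · exact (hF 1).1
    · exact (hF 2).1
    · exact zero_mem _
    · exact s.self_mem_eig e
    · exact neg_mem (s.self_mem_eig e)
    · exact s.self_mem_eig e
  · refine lt_of_le_of_lt (Nat.mul_le_mul_left 4 (Nat.card_le_card_of_injective
      (fun q => (⟨q.1, ?_⟩ : {q : s.N ⧸ s.mid e // L q = 0}))
      fun x y h => Subtype.ext (congrArg (fun t : {q : s.N ⧸ s.mid e // L q = 0} => t.1) h))) hLcard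
    have h := q.2.2
    simp only [f, if_neg q.2.1] at h
    exact hcol0 _ _ h
  · obtain ⟨u, hu, hrel, hfu⟩ := hπ q
    have hq1 : q ≠ 1 := fun h => Nat.not_prime_one (by rwa [h, orderOf_one] at hq)
    have hπq1 : π q ≠ 1 := fun h => hq1 (π.map_eq_one_iff.1 h)
    have hoπ : orderOf (π q) = orderOf q := MulEquiv.orderOf_eq π q
    simp only [f, if_neg hq1, if_neg hπq1, col, hoπ] at hfu
    by_cases h2 : orderOf q = 2
    · rw [if_pos h2, if_pos h2] at hfu
      rcases hFne with hsmall | hne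
      · have hq2 : q ^ 2 = 1 := by rw [← h2]; exact pow_orderOf_eq_one q
        rw [hLtwo hsmall q hq2, hLtwo hsmall (π q) (by rw [← map_pow, hq2, map_one])]
      have hfour : ∀ w ∈ s.eig e, u ^ 4 • w = w :=
        he.pow_four hu hφ hω hj hj2 ((hrepP q).2.1 h2) ((hrepP (π q)).2.1 (hoπ.trans h2)) hrel
      revert hfu
      generalize L q = l
      generalize L (π q) = l'
      intro hfu
      by_contra hll
      fin_cases l <;> fin_cases l'
      all_goals first
        | exact hll rfl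
        | exact hne _ _ (by decide) u hu (hfour _ (hF _).1) hfu.symm
        | exact (hF _).2 (hfu.trans (smul_zero u))
        | exact (hF _).2 ((smul_eq_zero_iff_eq u).1 hfu.symm)
    · rw [if_neg h2, if_neg h2] at hfu
      have hodd := hLodd _ h2 q rfl
      have hodd' := hLodd _ (fun h => h2 (hoπ.symm.trans h)) (π q) rfl
      obtain ⟨hx, hxo⟩ := (hrepP q).2.2 hq h2
      obtain ⟨hx', hx'o⟩ := (hrepP (π q)).2.2 (hoπ.symm ▸ hq) (fun h => h2 (hoπ.symm.trans h))
      rw [hoπ] at hx' hx'o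
      have hno : ∀ g : V, g ≠ 0 → u • g ≠ -g := fun g hg =>
        he.no_neg hφ (hq.odd_of_ne_two h2) ho hx hxo hx' hx'o hrel hg
      revert hfu hodd hodd'
      generalize L q = l
      generalize L (π q) = l'
      intro hfu hl hl'
      by_contra hll
      fin_cases l <;> fin_cases l'
      all_goals first
        | exact hll rfl
        | exact hl rfl
        | exact hl' rfl
        | exact hno e he.ne hfu.symm
        | exact hno (-e) (neg_ne_zero.2 he.ne) (by rw [neg_neg]; exact hfu.symm)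
        | exact he.ne (hfu.trans (smul_zero u))
        | exact neg_ne_zero.2 he.ne (hfu.trans (smul_zero u))
        | exact he.ne ((smul_eq_zero_iff_eq u).1 hfu.symm)
        | exact neg_ne_zero.2 he.ne ((smul_eq_zero_iff_eq u).1 hfu.symm)

end Setting

end Cfsg.Lib.CoprimeBase
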