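import Cfsg.Agent.Lib.CoprimeBase.Kit
import Cfsg.Agent.Lib.CoprimeBase.Data.Match
import Cfsg.Agent.Lib.CoprimeBase.Data.Covers
import Cfsg.Agent.Lib.CoprimeBase.Data.Five
import Cfsg.Agent.Lib.CoprimeBase.Data.Nine

/-!
The exceptional configurations are instances of the five models and have regular pairs.
-/

set_option autoImplicit false
set_option linter.unusedSectionVars false
set_option linter.style.haveILetI false

namespace Cfsg.Lib.CoprimeBase

open MulAction Cfsg.Lib.OddBase Cert Tower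
open scoped commutatorElement

universe v

variable {A V : Type v} [Group A] [Finite A] [AddCommGroup V] [Finite V] [DistribMulAction A V] {p : ℕ}

theorem forall₂_match {α β γ : Type*} {P : α → γ → Prop} {Q : γ → β → Prop} :
    ∀ {L : List α} {K : List γ} {M : List β}, List.Forall₂ P L K → List.Forall₂ Q K M →
      List.Forall₂ (fun a b => ∃ k, P a k ∧ Q k b) L M
  | _, _, _, List.Forall₂.nil, List.Forall₂.nil => List.Forall₂.nil
  | _, _, _, List.Forall₂.cons h h', List.Forall₂.cons g g' => List.Forall₂.cons ⟨_, h, g⟩ (forall₂_match h' g')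

theorem classes_of {m : Cert.Model} {a b c : ℕ}
    (h : ([a, b, c].all (regular m) && apart m a b && apart m a c && apart m b c) = true) : Setting.Classes m [a, b, c] := by
  simp only [Bool.and_eq_true] at h
  exact ⟨a, b, c, rfl, h.1.1.1, h.1.1.2, h.1.2, h.2⟩

theorem indep_one [Fact p.Prime] (hp : ∀ w : V, p • w = 0) {e : V} (he : e ≠ 0) : Indep p 1 fun _ => e := by
  intro f hf i hi
  obtain rfl : i = 0 := by omega
  rw [Tower.comb, Finset.sum_range_one] at hf
  rcases (Nat.dvd_prime Fact.out).1 (addOrderOf_dvd_of_nsmul_eq_zero (hp e)) with h | h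
  · exact absurd (AddMonoid.addOrderOf_eq_one_iff.1 h) he
  · exact h ▸ addOrderOf_dvd_of_nsmul_eq_zero hf

theorem indep_two {G : Type*} [Group G] [DistribMulAction G V] (hp : ∀ w : V, 3 • w = 0) {e : V} (he : e ≠ 0)
    {g : G} (hg : ∀ c < 3, g • e ≠ c • e) : Indep 3 2 fun i => if i = 0 then e else g • e := by
  intro f hf i hi
  rw [Tower.comb, Finset.sum_range_succ, Finset.sum_range_one, if_pos rfl, if_neg one_ne_zero] at hf
  have hmod : ∀ (k : ℕ) (w : V), k • w = (k % 3) • w := fun k w => by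
    conv_lhs => rw [← Nat.div_add_mod k 3, add_smul, mul_smul, hp, zero_add]
  rw [hmod (f 0), hmod (f 1)] at hf
  have h1 : f 1 % 3 = 0 := by
    by_contra h1
    refine hg ((2 * (f 1 % 3) * (f 0 % 3)) % 3) (Nat.mod_lt _ (by norm_num)) ?_
    rw [← hmod, mul_smul, eq_neg_of_add_eq_zero_left hf, smul_neg, smul_smul]
    have h2 : (2 * (f 1 % 3) * (f 1 % 3)) % 3 = 2 := by
      have h3 : f 1 % 3 = 1 ∨ f 1 % 3 = 2 := by omega
      rcases h3 with h3 | h3 <;> rw [h3]
    rw [hmod _ (g • e), h2, eq_neg_iff_add_eq_zero, ← succ_nsmul']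
    exact hp _
  rw [h1, zero_smul, add_zero] at hf
  have h0 : f 0 % 3 = 0 := by
    have h3 : f 0 % 3 = 0 ∨ f 0 % 3 = 1 ∨ f 0 % 3 = 2 := by omega
    rcases h3 with h3 | h3 | h3
    · exact h3
    · rw [h3, one_smul] at hf; exact absurd hf he
    · rw [h3] at hf
      have h5 : (3 : ℕ) • e = 0 := hp e
      rw [succ_nsmul, hf, zero_add] at h5
      exact absurd h5 he
  rcases (show i = 0 ∨ i = 1 by omega) with rfl | rfl <;> omega

theorem realises_dia {G : Type*} [Group G] [DistribMulAction G V] {d a : ℕ} {β : ℕ → V} {g : G}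
    (h : ∀ w : V, g • w = a • w) : Realises d β g (dia a) := fun i hi => by
  rw [h, ← comb_single β hi a]
  rfl

theorem realises_two {G : Type*} [Group G] [DistribMulAction G V] {β : ℕ → V} {g : G} {a b c d : ℕ}
    (h0 : g • β 0 = a • β 0 + c • β 1) (h1 : g • β 1 = b • β 0 + d • β 1) : Realises 2 β g (M2 a b c d) := by
  intro i hi
  rw [Tower.comb, Finset.sum_range_succ, Finset.sum_range_one]
  rcases (show i = 0 ∨ i = 1 by omega) with rfl | rfl
  · rw [h0]; simp [M2]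
  · rw [h1]; simp [M2]

namespace Setting

variable {s : Setting A V p} {ι : s.N} {e : V}

theorem Max.transfer (he : s.Max e) {e' : V} (h : e' ∈ s.eig e) (h0 : e' ≠ 0) :
    s.Max e' ∧ s.eig e' = s.eig e := by
  have hl := he.line_eq e' h h0
  have hE : s.eig e' = s.eig e := by
    ext w
    constructor
    · exact fun hw y k hk hy => hw y k hk (h y k hk hy)
    · intro hw y k hk hy
      obtain ⟨l, hlZ, hle⟩ := (hl ▸ ⟨k, hk, hy⟩ : y ∈ s.line e)
      rw [hw y l hlZ hle, s.hfpf.eq_of_smul_eq hlZ hk h0 (by rw [← h y l hlZ hle, hy])]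
  refine ⟨⟨h0, fun w hw hw0 => ?_, fun x hx hxz => ?_⟩, hE⟩
  · rw [hl, he.line_eq w (hE ▸ hw) hw0]
  · rw [hl]
    refine he.maxc x ?_ hxz
    simp only [Setting.mid, hl] at hx ⊢
    exact hx

theorem kit_gens {d c : ℕ} (K : s.Kit ι e d c) :
    (∀ i, ∀ u ∈ K.sub, Commute (K.X i) u) ∧ (∀ i, ∀ u ∈ K.sub, Commute (K.Y i) u) ∧
      ∀ g : s.N, g ∈ Subgroup.center s.N ∨ g ∈ K.J → ∀ u ∈ K.sub, Commute g u := by
  refine ⟨fun i u hu => ?_, fun i u hu => ((K.mem_sub.1 hu).2 i).symm, fun g hg u hu => ?_⟩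
  · exact s.commute_of_mem_line K.ne (K.pairs.xmem i) (K.mem_sub.1 hu).1
  · rcases hg with hg | hg
    · exact (Subgroup.mem_center_iff.1 hg u).symm
    · exact (s.mem_mid.1 (K.jmid g hg) u (K.mem_sub.1 hu).1).symm

theorem kit_list {d c : ℕ} (K : s.Kit ι e d c) {m : Cert.Model} {L : List s.N} {Ms : List (ℕ → ℕ → ℕ)}
    (h : List.Forall₂ (fun g M => (∀ u ∈ K.sub, Commute g u) ∧ Realises (d * 2 ^ c) (K.B c) g M) L Ms)
    (hm : List.Forall₂ (fun M o => matchB m M o = true) Ms m.ops) :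
    List.Forall₂ (fun g o => (∀ u ∈ K.sub, Commute g u) ∧
      ∃ M, Realises (d * 2 ^ c) (K.B c) g M ∧ matchB m M o = true) L m.ops :=
  (forall₂_match h hm).imp fun _ _ ⟨M, ⟨hg, hM⟩, ho⟩ => ⟨hg, M, hM, ho⟩

theorem TwoType.pairs_of (h2 : s.TwoType ι) [Fact p.Prime] (he : e ≠ 0)
    (hz : s.z = 2 ∨ ∀ x : s.N, x ^ s.z = 1) {c : ℕ} (hc : 2 ^ c ≤ 2 * Nat.card (s.N ⧸ s.mid e) - 1) :
    ∃ X Y : Fin c → s.N, s.Pairs ι e X Y [] :=
  h2.exists_pairs he hz [] (fun _ h => absurd h List.not_mem_nil)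
    (fun _ => ⟨1, one_mem _, fun _ h => absurd h List.not_mem_nil⟩) c hc

theorem sub_center_of_small (h2 : s.TwoType ι) {d : ℕ} (K : s.Kit ι e d 2) (hQ : Nat.card (s.N ⧸ s.mid e) ≤ 4) :
    K.sub ≤ Subgroup.center s.N := by
  classical
  intro u hu
  obtain ⟨hul, huY⟩ := K.mem_sub.1 hu
  let y : Fin 4 → s.N := ![1, K.Y 0, K.Y 1, K.Y 0 * K.Y 1]
  have hval : ∀ (t : Fin 4) (i : Fin 2), ⁅K.X i, y t⁆ =
      ![![1, ι, 1, ι], ![1, 1, ι, ι]] i t := by
    intro t i
    fin_cases t <;> fin_cases i <;>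
      simp [y, Cfsg.Lib.PGroup.commutatorElement_mul_right s.hcl, K.pairs.comm, commutatorElement_one_right]
  have hinj : Function.Injective fun t => (y t : s.N ⧸ s.mid e) := by
    intro t t' h
    have h' : ∀ i, ⁅K.X i, y t⁆ = ⁅K.X i, y t'⁆ := fun i => by
      have hmem := QuotientGroup.eq.1 h
      have h3 := s.mem_mid.1 hmem (K.X i) (K.pairs.xmem i)
      rw [show y t' = y t * ((y t)⁻¹ * y t') by group, Cfsg.Lib.PGroup.commutatorElement_mul_right s.hcl,
        commutatorElement_eq_one_iff_mul_comm.2 h3, mul_one]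
    have h0 := h' 0
    have h1 := h' 1
    rw [hval, hval] at h0 h1
    fin_cases t <;> fin_cases t' <;> simp_all [h2.ne, h2.ne.symm]
  haveI := Fintype.ofFinite (s.N ⧸ s.mid e)
  have hsurj := ((Fintype.bijective_iff_injective_and_card _).2 ⟨hinj, le_antisymm
    (Fintype.card_le_of_injective _ hinj) (by rw [← Nat.card_eq_fintype_card, Fintype.card_fin]; exact hQ)⟩).2
  refine Subgroup.mem_center_iff.2 fun g => ?_
  obtain ⟨t, ht⟩ := hsurj (g : s.N ⧸ s.mid e)
  have hm : Commute u ((y t)⁻¹ * g) := s.mem_mid.1 (QuotientGroup.eq.1 ht) u hul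
  have hy : Commute u (y t) := by
    fin_cases t <;> simp only [y]
    exacts [Commute.one_right u, huY 0, huY 1, (huY 0).mul_right (huY 1)]
  have h := hy.mul_right hm
  rw [mul_inv_cancel_left] at h
  exact h.symm.eq

theorem five_pair [FaithfulSMul A V] [Fact p.Prime] (he : s.Max e) (h2 : s.TwoType ι) (hp : p = 5)
    (hz : s.z = 4) (hM : s.mid e = s.line e) (hE : Nat.card (s.eig e) = 5)
    (hQ : 2 < Nat.card (s.N ⧸ s.mid e)) : HasPair A V := by
  subst hp
  have hall : ∀ x : s.N, x ^ s.z = 1 := (Cfsg.Lib.SolvBase.pow_card_center_dichotomy s.hcl s.hcyc).resolve_right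
    fun ⟨⟨t, ht, hzt⟩, _⟩ => by
      change s.z = 2 * t at hzt
      obtain ⟨r, rfl⟩ := ht
      omega
  obtain ⟨X, Y, P⟩ := h2.pairs_of he.ne (Or.inr hall) (c := 2) (by omega)
  let K : s.Kit ι e 1 2 := {
    two := h2, ne := he.ne, J := [], jmid := fun _ h => absurd h List.not_mem_nil
    jlast := fun x hx _ => hM ▸ hx
    X := X, Y := Y, pairs := P, β := fun _ => e, pos := one_pos
    bmem := fun _ _ => s.self_mem_eig e
    bindep := indep_one s.hp he.ne, bcard := by rw [hE, pow_one] }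
  obtain ⟨k₂, hk₂, hk₂w⟩ := s.hnat 2 (by norm_num)
  obtain ⟨k₄, hk₄, hk₄w⟩ := s.hnat 4 (by norm_num)
  obtain ⟨gX, gY, gC⟩ := kit_gens K
  have hL : List.Forall₂ (fun g M => (∀ u ∈ K.sub, Commute g u) ∧ Realises (1 * 2 ^ 2) (K.B 2) g M)
      [X 0, X 1, Y 0, Y 1, k₂, k₄]
      [lift 1 1 (signM 5 1) 1, lift 1 2 (signM 5 2) 0, lift 1 1 (swapM 1) 1, lift 1 2 (swapM 2) 0,
        lift 1 0 (dia 2) 2, lift 1 0 (dia 4) 2] :=
    .cons ⟨gX 0, K.X_realises 0⟩ <| .cons ⟨gX 1, K.X_realises 1⟩ <| .cons ⟨gY 0, K.Y_realises 0⟩ <|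
      .cons ⟨gY 1, K.Y_realises 1⟩ <| .cons ⟨gC _ (.inl hk₂), K.base_realises (.inl hk₂) (realises_dia hk₂w)⟩ <|
      .cons ⟨gC _ (.inl hk₄), K.base_realises (.inl hk₄) (realises_dia hk₄w)⟩ .nil
  obtain ⟨R, -⟩ := K.real five rfl rfl five_wf five_table five_distinct (by rw [hz]; rfl) (kit_list K hL five_match)
  exact R.pair_of_data h2.sq_mem (d := fiveData) ⟨⟨4, fiveData_check⟩, fiveData_regular, by decide⟩ rfl
    (Or.inl (classes_of five_classes))

theorem nine_pair [FaithfulSMul A V] [Fact p.Prime] (he : s.Max e) (h2 : s.TwoType ι) (hp : p = 3)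
    (hz : s.z = 8) (hM : s.mid e = s.line e) (hE : Nat.card (s.eig e) = 9)
    (hQ : 2 < Nat.card (s.N ⧸ s.mid e)) : HasPair A V := by
  subst hp
  have hall : ∀ x : s.N, x ^ s.z = 1 := (Cfsg.Lib.SolvBase.pow_card_center_dichotomy s.hcl s.hcyc).resolve_right
    fun ⟨⟨t, ht, hzt⟩, _⟩ => by
      change s.z = 2 * t at hzt
      obtain ⟨r, rfl⟩ := ht
      omega
  obtain ⟨X, Y, P⟩ := h2.pairs_of he.ne (Or.inr hall) (c := 2) (by omega)
  have hmod : ∀ (k : ℕ) (w : V), k • w = (k % 3) • w := fun k w => by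
    conv_lhs => rw [← Nat.div_add_mod k 3, add_smul, mul_smul, s.hp, zero_add]
  have hcases : ∀ c : ℕ, c < 3 → c = 0 ∨ c = 1 ∨ c = 2 := fun c hc => by omega
  haveI := s.isCyclic_center
  obtain ⟨gc, hgc⟩ := IsCyclic.exists_generator (α := Subgroup.center s.N)
  have hord : orderOf (gc : s.N) = 8 := by
    rw [Subgroup.orderOf_coe, orderOf_eq_card_of_forall_mem_zpowers hgc]
    exact hz
  have hZ : ∀ k ∈ Subgroup.center s.N, ∀ n : ℕ, k ^ n • e = e → k ^ n = 1 := fun k hk n h =>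
    s.hfpf _ (pow_mem hk n) e he.ne h
  -- no scalar of the prime field has order above two
  have hnot : ∀ k ∈ Subgroup.center s.N, orderOf k = 8 → ∀ c < 3, k • e ≠ c • e := by
    intro k hk hk8 c hc h
    rcases hcases c hc with rfl | rfl | rfl
    · rw [zero_smul, smul_eq_zero_iff_eq] at h
      exact he.ne h
    all_goals
      have h4 : k ^ 2 = 1 := hZ k hk 2 (by
        rw [pow_two, mul_smul, h, smul_comm, h, smul_smul, hmod]
        norm_num)
      have := orderOf_dvd_of_pow_eq_one h4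
      rw [hk8] at this
      norm_num at this
  set g : s.N := (gc : s.N) with hg
  have hspan := Tower.span_of_card s.hp (indep_two s.hp he.ne (hnot g gc.2 hord)) (E := s.eig e)
    (fun i _ => by
      split_ifs
      exacts [s.self_mem_eig e, s.center_smul_mem_eig gc.2 (s.self_mem_eig e)]) (by rw [hE]; norm_num)
  obtain ⟨f, hf⟩ := hspan (g • g • e) (s.center_smul_mem_eig gc.2 (s.center_smul_mem_eig gc.2 (s.self_mem_eig e)))
  rw [Tower.comb, Finset.sum_range_succ, Finset.sum_range_one, if_pos rfl, if_neg one_ne_zero, hmod (f 0),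
    hmod (f 1)] at hf
  have hcontra : ∀ n : ℕ, 0 < n → n < 8 → g ^ n • e ≠ e := fun n hn hn8 h => by
    have := orderOf_dvd_of_pow_eq_one (hZ g gc.2 n h)
    rw [hord] at this
    exact absurd (Nat.le_of_dvd hn this) (by omega)
  obtain ⟨ω, hω, hω8, hωrel⟩ : ∃ ω ∈ Subgroup.center s.N, orderOf ω = 8 ∧ ω • ω • e = e + ω • e := by
    have h01 := hcases (f 0 % 3) (Nat.mod_lt _ (by norm_num))
    have h11 := hcases (f 1 % 3) (Nat.mod_lt _ (by norm_num))
    have hneg : ∀ w : V, (2 : ℕ) • w = -w := fun w => by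
      rw [eq_neg_iff_add_eq_zero, ← succ_nsmul]; exact s.hp w
    rcases h01 with h0 | h0 | h0 <;> rcases h11 with h1 | h1 | h1 <;>
      rw [h0, h1] at hf <;> simp only [zero_smul, one_smul, zero_add, add_zero, hneg] at hf
    · exact absurd (smul_eq_zero_iff_eq g |>.1 (smul_eq_zero_iff_eq g |>.1 hf.symm)) he.ne
    · exact absurd (smul_left_cancel g hf.symm) (by simpa using hcontra 1 one_pos (by norm_num))
    · exact absurd (show g ^ 2 • e = e by
        have h' : g • e = -e := smul_left_cancel g (by rw [smul_neg]; exact hf.symm)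
        rw [pow_two, mul_smul, h', smul_neg, h', neg_neg]) (hcontra 2 two_pos (by norm_num))
    · exact absurd (by rw [pow_two, mul_smul]; exact hf.symm) (hcontra 2 two_pos (by norm_num))
    · exact ⟨g, gc.2, hord, hf.symm⟩
    · refine ⟨ι * g, mul_mem h2.mem gc.2, ?_, ?_⟩
      · have hc : Commute ι g := (Subgroup.mem_center_iff.1 h2.mem g).symm
        refine orderOf_eq_prime_pow (p := 2) (n := 2) (fun h => ?_) ?_
        · rw [hc.mul_pow, show (2 : ℕ) ^ 2 = 2 * 2 from rfl, pow_mul ι, h2.sq, one_pow, one_mul] at h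
          exact hcontra 4 (by norm_num) (by norm_num) (by rw [show (4 : ℕ) = 2 * 2 from rfl, h, one_smul])
        · rw [hc.mul_pow, show (2 : ℕ) ^ (2 + 1) = 2 * 4 from rfl, pow_mul ι, h2.sq, one_pow, one_mul,
            show 2 * 4 = 8 from rfl, ← hord, pow_orderOf_eq_one]
      · simp only [mul_smul, h2.act, smul_neg, neg_neg]
        exact hf.symm
    · exact absurd (show g ^ 4 • e = e by
        have h' : g ^ 2 • e = -e := by rw [pow_two, mul_smul, ← hf]
        rw [show (4 : ℕ) = 2 + 2 from rfl, pow_add, mul_smul, h', smul_neg, h', neg_neg]) (hcontra 4 (by norm_num) (by norm_num))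
    · exact absurd (show g ^ 6 • e = e by
        have h3 : g ^ 3 • e = -e := by
          rw [pow_succ', pow_two, mul_smul, mul_smul, ← hf, smul_add, smul_neg, ← hf]
          abel
        rw [show (6 : ℕ) = 3 + 3 from rfl, pow_add, mul_smul, h3, smul_neg, h3, neg_neg]) (hcontra 6 (by norm_num) (by norm_num))
    · exact absurd (show g ^ 3 • e = e by
        rw [pow_succ', pow_two, mul_smul, mul_smul, ← hf, smul_add, smul_neg, smul_neg, ← hf]
        abel) (hcontra 3 (by norm_num) (by norm_num))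
  let K : s.Kit ι e 2 2 := {
    two := h2, ne := he.ne, J := [], jmid := fun _ h => absurd h List.not_mem_nil
    jlast := fun x hx _ => hM ▸ hx
    X := X, Y := Y, pairs := P, β := fun i => if i = 0 then e else ω • e, pos := two_pos
    bmem := fun i _ => by
      split_ifs
      exacts [s.self_mem_eig e, s.center_smul_mem_eig hω (s.self_mem_eig e)]
    bindep := indep_two s.hp he.ne (hnot ω hω hω8), bcard := by rw [hE]; norm_num }
  obtain ⟨gX, gY, gC⟩ := kit_gens K
  have hω4 : ∀ w : V, ω ^ 4 • w = (2 : ℕ) • w := fun w => by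
    rw [invol_unique s (pow_mem hω 4) h2.mem (by rw [← pow_mul, show 4 * 2 = orderOf ω from hω8.symm, pow_orderOf_eq_one]) h2.sq
      (fun h => absurd (orderOf_dvd_of_pow_eq_one h) (by rw [hω8]; norm_num)) h2.ne, h2.act,
      neg_eq_iff_add_eq_zero, ← succ_nsmul']
    exact s.hp w
  have hω1 : Realises 2 K.β ω (M2 0 1 1 1) := realises_two (by simp [K]) (by simp [K, hωrel])
  have hω2 : Realises 2 K.β (ω ^ 2) (M2 1 1 1 2) :=
    realises_two (by simp [K, pow_two, mul_smul, hωrel]) (by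
      simp [K, pow_two, mul_smul, hωrel, smul_add, two_nsmul]; abel)
  have hL : List.Forall₂ (fun g M => (∀ u ∈ K.sub, Commute g u) ∧ Realises (2 * 2 ^ 2) (K.B 2) g M)
      [X 0, X 1, Y 0, Y 1, ω, ω ^ 2, ω ^ 4]
      [lift 2 1 (signM 3 2) 1, lift 2 2 (signM 3 4) 0, lift 2 1 (swapM 2) 1, lift 2 2 (swapM 4) 0,
        lift 2 0 (M2 0 1 1 1) 2, lift 2 0 (M2 1 1 1 2) 2, lift 2 0 (dia 2) 2] :=
    .cons ⟨gX 0, K.X_realises 0⟩ <| .cons ⟨gX 1, K.X_realises 1⟩ <| .cons ⟨gY 0, K.Y_realises 0⟩ <|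
      .cons ⟨gY 1, K.Y_realises 1⟩ <| .cons ⟨gC _ (.inl hω), K.base_realises (.inl hω) hω1⟩ <|
      .cons ⟨gC _ (.inl (pow_mem hω 2)), K.base_realises (.inl (pow_mem hω 2)) hω2⟩ <|
      .cons ⟨gC _ (.inl (pow_mem hω 4)), K.base_realises (.inl (pow_mem hω 4)) (realises_dia hω4)⟩ .nil
  obtain ⟨R, -⟩ := K.real nine rfl rfl nine_wf nine_table nine_distinct (by rw [hz]; rfl) (kit_list K hL nine_match)
  exact R.pair_of_data h2.sq_mem (d := nineData) ⟨⟨8, nineData_check⟩, nineData_regular, by decide⟩ rfl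
    (Or.inl (classes_of nine_classes))

theorem plus_pair [FaithfulSMul A V] [Fact p.Prime] (he : s.Max e) (h2 : s.TwoType ι) (hp : p = 3)
    (hz : s.z = 2) (hM : s.mid e = s.line e) (hE : Nat.card (s.eig e) = 3)
    (hQ : 2 < Nat.card (s.N ⧸ s.mid e)) : HasPair A V := by
  subst hp
  obtain ⟨k₂, hk₂, hk₂w⟩ := s.hnat 2 (by norm_num)
  have mk : ∀ c : ℕ, 2 ^ c ≤ 2 * Nat.card (s.N ⧸ s.mid e) - 1 → ∃ K : s.Kit ι e 1 c, K.J = [] := by
    intro c hc
    obtain ⟨X, Y, P⟩ := h2.pairs_of he.ne (Or.inl hz) hc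
    exact ⟨{
      two := h2, ne := he.ne, J := [], jmid := fun _ h => absurd h List.not_mem_nil
      jlast := fun x hx _ => hM ▸ hx
      X := X, Y := Y, pairs := P, β := fun _ => e, pos := one_pos
      bmem := fun _ _ => s.self_mem_eig e
      bindep := indep_one s.hp he.ne, bcard := by rw [hE, pow_one] }, rfl⟩
  by_cases h4 : Nat.card (s.N ⧸ s.mid e) ≤ 4
  · obtain ⟨K, hJ⟩ := mk 2 (by omega)
    obtain ⟨gX, gY, gC⟩ := kit_gens K
    have hL : List.Forall₂ (fun g M => (∀ u ∈ K.sub, Commute g u) ∧ Realises (1 * 2 ^ 2) (K.B 2) g M)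
        [K.X 0, K.X 1, K.Y 0, K.Y 1, k₂]
        [lift 1 1 (signM 3 1) 1, lift 1 2 (signM 3 2) 0, lift 1 1 (swapM 1) 1, lift 1 2 (swapM 2) 0,
          lift 1 0 (dia 2) 2] :=
      .cons ⟨gX 0, K.X_realises 0⟩ <| .cons ⟨gX 1, K.X_realises 1⟩ <| .cons ⟨gY 0, K.Y_realises 0⟩ <|
        .cons ⟨gY 1, K.Y_realises 1⟩ <|
        .cons ⟨gC _ (.inl hk₂), K.base_realises (.inl hk₂) (realises_dia hk₂w)⟩ .nil
    obtain ⟨R, hR⟩ := K.real plusTwo rfl rfl plusTwo_wf plusTwo_table plusTwo_distinct (by rw [hz, hJ]; rfl)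
      (kit_list K hL plusTwo_match)
    refine R.pair_of_cover h2.sq_mem rfl (D := [plusTwoData0, plusTwoData1, plusTwoData2, plusTwoData3])
      (fun d hd => ?_) plusTwo_cover (L := []) (Or.inr (hR ▸ sub_center_of_small h2 K h4))
    simp only [List.mem_cons, List.not_mem_nil, or_false] at hd
    rcases hd with rfl | rfl | rfl | rfl
    exacts [⟨⟨_, plusTwoData0_check⟩, plusTwoData0_regular, by decide⟩,
      ⟨⟨_, plusTwoData1_check⟩, plusTwoData1_regular, by decide⟩,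
      ⟨⟨_, plusTwoData2_check⟩, plusTwoData2_regular, by decide⟩,
      ⟨⟨_, plusTwoData3_check⟩, plusTwoData3_regular, by decide⟩]
  · obtain ⟨K, hJ⟩ := mk 3 (by omega)
    obtain ⟨gX, gY, gC⟩ := kit_gens K
    have hL : List.Forall₂ (fun g M => (∀ u ∈ K.sub, Commute g u) ∧ Realises (1 * 2 ^ 3) (K.B 3) g M)
        [K.X 0, K.X 1, K.X 2, K.Y 0, K.Y 1, K.Y 2, k₂]
        [lift 1 1 (signM 3 1) 2, lift 1 2 (signM 3 2) 1, lift 1 3 (signM 3 4) 0, lift 1 1 (swapM 1) 2,
          lift 1 2 (swapM 2) 1, lift 1 3 (swapM 4) 0, lift 1 0 (dia 2) 3] :=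
      .cons ⟨gX 0, K.X_realises 0⟩ <| .cons ⟨gX 1, K.X_realises 1⟩ <| .cons ⟨gX 2, K.X_realises 2⟩ <|
        .cons ⟨gY 0, K.Y_realises 0⟩ <| .cons ⟨gY 1, K.Y_realises 1⟩ <| .cons ⟨gY 2, K.Y_realises 2⟩ <|
        .cons ⟨gC _ (.inl hk₂), K.base_realises (.inl hk₂) (realises_dia hk₂w)⟩ .nil
    obtain ⟨R, hR⟩ := K.real plusThree rfl rfl plusThree_wf plusThree_table plusThree_distinct
      (by rw [hz, hJ]; rfl) (kit_list K hL plusThree_match)
    refine R.pair_of_cover h2.sq_mem rfl (D := [plusThreeData0, plusThreeData1, plusThreeData2, plusThreeData3])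
      (fun d hd => ?_) plusThree_cover (Or.inl (classes_of plusThree_classes))
    simp only [List.mem_cons, List.not_mem_nil, or_false] at hd
    rcases hd with rfl | rfl | rfl | rfl
    exacts [⟨⟨_, plusThreeData0_check⟩, plusThreeData0_regular, by decide⟩,
      ⟨⟨_, plusThreeData1_check⟩, plusThreeData1_regular, by decide⟩,
      ⟨⟨_, plusThreeData2_check⟩, plusThreeData2_regular, by decide⟩,
      ⟨⟨_, plusThreeData3_check⟩, plusThreeData3_regular, by decide⟩]

theorem minus_pair [FaithfulSMul A V] [Fact p.Prime] (he : s.Max e) (h2 : s.TwoType ι) (hp : p = 3)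
    (hz : s.z = 2) (hM : s.mid e ≠ s.line e) (hE : Nat.card (s.eig e) = 9)
    (hQ : 2 < Nat.card (s.N ⧸ s.mid e)) : HasPair A V := by
  subst hp
  obtain ⟨k₂, hk₂, hk₂w⟩ := s.hnat 2 (by norm_num)
  have hneg : ∀ w : V, (2 : ℕ) • w = -w := fun w => by
    rw [eq_neg_iff_add_eq_zero, ← succ_nsmul]; exact s.hp w
  obtain ⟨i, hi, j₀, hj₀, hi2, -, hij₀, hlast₀⟩ := h2.exists_anti he hz hM
  have hout : ∀ g ∈ s.mid e, ∀ g' ∈ s.mid e, ⁅g, g'⁆ = ι → g ∉ s.line e := fun g _ g' hg' h hgl => h2.ne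
    (h.symm.trans (commutatorElement_eq_one_iff_mul_comm.2 (s.mem_mid.1 hg' g hgl)))
  have hni : ∀ g : s.N, g ∉ s.line e → ∀ c < 3, g • e ≠ c • e := by
    intro g hg c hc h
    apply hg
    rcases (show c = 0 ∨ c = 1 ∨ c = 2 by omega) with rfl | rfl | rfl
    · rw [zero_smul, smul_eq_zero_iff_eq] at h; exact absurd h he.ne
    · exact ⟨1, one_mem _, by rw [h, one_smul, one_smul]⟩
    · exact ⟨ι, h2.mem, by rw [h, hneg, h2.act]⟩
  have hiU := hout i hi j₀ hj₀ hij₀
  have hii : ∀ w : V, i • i • w = -w := fun w => by rw [smul_smul, ← pow_two, hi2, h2.act]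
  have hbase : ∀ k < 2, (fun k => if k = 0 then e else i • e) k ∈ s.eig e := fun k _ => by
    dsimp only
    split_ifs
    exacts [s.self_mem_eig e, s.smul_mem_eig hi (s.self_mem_eig e)]
  have hind := indep_two s.hp he.ne (hni i hiU)
  -- normalise the second element
  obtain ⟨f, hf⟩ := Tower.span_of_card s.hp hind (E := s.eig e) hbase (by rw [hE]; norm_num) (j₀ • e)
    (s.smul_mem_eig hj₀ (s.self_mem_eig e))
  have hj₀i : ⁅i, i * j₀⁆ = ι := by
    rw [Cfsg.Lib.PGroup.commutatorElement_mul_right s.hcl, commutatorElement_self, one_mul, hij₀]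
  have hιc : ∀ g : s.N, ⁅g, ι⁆ = 1 := fun g =>
    commutatorElement_eq_one_iff_mul_comm.2 (Subgroup.mem_center_iff.1 h2.mem g)
  obtain ⟨j, hj, hij, hje, hlast⟩ : ∃ j ∈ s.mid e, ⁅i, j⁆ = ι ∧ j • e = e + i • e ∧
      ∀ d ∈ s.mid e, ⁅i, d⁆ = 1 → ⁅j, d⁆ = 1 → d ∈ s.line e := by
    have hmod : ∀ (k : ℕ) (w : V), k • w = (k % 3) • w := fun k w => by
      conv_lhs => rw [← Nat.div_add_mod k 3, add_smul, mul_smul, s.hp, zero_add]
    rw [Tower.comb, Finset.sum_range_succ, Finset.sum_range_one, if_pos rfl, if_neg one_ne_zero, hmod (f 0),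
      hmod (f 1)] at hf
    have hj₀U : j₀ ∉ s.line e := hout j₀ hj₀ i hi (by rw [h2.commutator_comm, hij₀])
    have hiju : i⁻¹ * j₀ ∉ s.line e := fun h => h2.ne (hij₀.symm.trans (by
      rw [show j₀ = i * (i⁻¹ * j₀) by group, Cfsg.Lib.PGroup.commutatorElement_mul_right s.hcl, commutatorElement_self,
        one_mul, commutatorElement_eq_one_iff_mul_comm.2 (s.mem_mid.1 hi _ h).symm]))
    have hnot := hni j₀ hj₀U
    have hnot' := hni _ hiju
    have h0 := Nat.mod_lt (f 0) (show 0 < 3 by norm_num)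
    have h1 := Nat.mod_lt (f 1) (show 0 < 3 by norm_num)
    have hlastι : ∀ g : s.N, (∀ d ∈ s.mid e, ⁅i, d⁆ = 1 → ⁅g, d⁆ = 1 → d ∈ s.line e) →
        ∀ d ∈ s.mid e, ⁅i, d⁆ = 1 → ⁅ι * g, d⁆ = 1 → d ∈ s.line e := by
      intro g hg d hd hdi hdg
      refine hg d hd hdi ?_
      rwa [Cfsg.Lib.PGroup.commutatorElement_mul_left s.hcl, h2.commutator_comm ι, hιc, one_mul] at hdg
    have hlastk : ∀ d ∈ s.mid e, ⁅i, d⁆ = 1 → ⁅i * j₀, d⁆ = 1 → d ∈ s.line e := by
      intro d hd hdi hdk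
      refine hlast₀ d hd hdi ?_
      rwa [Cfsg.Lib.PGroup.commutatorElement_mul_left s.hcl, hdi, one_mul] at hdk
    rcases (show f 0 % 3 = 0 ∨ f 0 % 3 = 1 ∨ f 0 % 3 = 2 by omega) with a0 | a0 | a0 <;>
      rcases (show f 1 % 3 = 0 ∨ f 1 % 3 = 1 ∨ f 1 % 3 = 2 by omega) with a1 | a1 | a1 <;>
      rw [a0, a1] at hf <;> simp only [zero_smul, one_smul, zero_add, add_zero, hneg] at hf
    · exact absurd (hf.symm.trans (zero_smul ℕ e).symm) (hnot 0 (by norm_num))
    · exact absurd (show (i⁻¹ * j₀) • e = (1 : ℕ) • e by rw [mul_smul, ← hf, inv_smul_smul, one_smul])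
        (hnot' 1 (by norm_num))
    · exact absurd (show (i⁻¹ * j₀) • e = (2 : ℕ) • e by rw [mul_smul, ← hf, smul_neg, inv_smul_smul, hneg])
        (hnot' 2 (by norm_num))
    · exact absurd (hf.symm.trans (one_smul ℕ e).symm) (hnot 1 (by norm_num))
    · exact ⟨j₀, hj₀, hij₀, hf.symm, hlast₀⟩
    · refine ⟨i * j₀, mul_mem hi hj₀, hj₀i, ?_, hlastk⟩
      rw [mul_smul, ← hf, smul_add, smul_neg, hii, neg_neg]
      abel
    · exact absurd (hf.symm.trans (hneg e).symm) (hnot 2 (by norm_num))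
    · refine ⟨ι * (i * j₀), mul_mem (s.center_le_mid e h2.mem) (mul_mem hi hj₀), ?_, ?_, hlastι _ hlastk⟩
      · rw [Cfsg.Lib.PGroup.commutatorElement_mul_right s.hcl, hιc, one_mul, hj₀i]
      · rw [mul_smul, h2.act, mul_smul, ← hf, smul_add, smul_neg, hii]
        abel
    · refine ⟨ι * j₀, mul_mem (s.center_le_mid e h2.mem) hj₀, ?_, ?_, hlastι _ hlast₀⟩
      · rw [Cfsg.Lib.PGroup.commutatorElement_mul_right s.hcl, hιc, one_mul, hij₀]
      · rw [mul_smul, h2.act, ← hf]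
        abel
  obtain ⟨X, Y, P⟩ := h2.exists_pairs he.ne (Or.inl hz) [i, j] (by simp [hi, hj]) (fun y => by
    obtain ⟨μ, hμ, h1, h2'⟩ : ∃ μ ∈ s.mid e, ⁅i, μ⁆ = ⁅i, y⁆ ∧ ⁅j, μ⁆ = ⁅j, y⁆ := by
      have hji : ⁅j, i⁆ = ι := by rw [h2.commutator_comm, hij]
      rcases h2.commutator_cases i y with a | a <;> rcases h2.commutator_cases j y with b | b <;> rw [a, b]
      · exact ⟨1, one_mem _, commutatorElement_one_right _, commutatorElement_one_right _⟩
      · exact ⟨i, hi, commutatorElement_self _, hji⟩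
      · exact ⟨j, hj, hij, commutatorElement_self _⟩
      · exact ⟨i * j, mul_mem hi hj,
          by rw [Cfsg.Lib.PGroup.commutatorElement_mul_right s.hcl, commutatorElement_self, one_mul, hij],
          by rw [Cfsg.Lib.PGroup.commutatorElement_mul_right s.hcl, hji, commutatorElement_self, mul_one]⟩
    have hsq : ∀ g h : s.N, ⁅g, h⁆ * ⁅g, h⁆ = 1 := fun g h => by
      rcases h2.commutator_cases g h with a | a <;> rw [a]
      exacts [one_mul 1, by rw [← pow_two, h2.sq]]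
    refine ⟨μ, hμ, fun g hg => ?_⟩
    simp only [List.mem_cons, List.not_mem_nil, or_false] at hg
    rw [Cfsg.Lib.PGroup.commutatorElement_mul_right s.hcl]
    rcases hg with rfl | rfl
    · rw [h1, hsq]
    · rw [h2', hsq]) 2 (by omega)
  let K : s.Kit ι e 2 2 := {
    two := h2, ne := he.ne, J := [i, j], jmid := by simp [hi, hj]
    jlast := fun x hx h => hlast x hx (h i (by simp)) (h j (by simp))
    X := X, Y := Y, pairs := P, β := fun k => if k = 0 then e else i • e, pos := two_pos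
    bmem := hbase, bindep := hind, bcard := by rw [hE]; norm_num }
  obtain ⟨gX, gY, gC⟩ := kit_gens K
  have hiM : Realises 2 K.β i (M2 0 2 1 0) := realises_two (by simp [K]) (by simp [K, hii, hneg])
  have hjM : Realises 2 K.β j (M2 1 1 1 2) := realises_two (by simp [K, hje]) (by
    have hji : ⁅j, i⁆ = ι := by rw [h2.commutator_comm, hij]
    simp [K, h2.anticomm hji e, hje, smul_add, hii, hneg])
  have hiJ : i ∈ K.J := by simp [K]
  have hjJ : j ∈ K.J := by simp [K]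
  have hL : List.Forall₂ (fun g M => (∀ u ∈ K.sub, Commute g u) ∧ Realises (2 * 2 ^ 2) (K.B 2) g M)
      [X 0, X 1, Y 0, Y 1, i, j, k₂]
      [lift 2 1 (signM 3 2) 1, lift 2 2 (signM 3 4) 0, lift 2 1 (swapM 2) 1, lift 2 2 (swapM 4) 0,
        lift 2 0 (M2 0 2 1 0) 2, lift 2 0 (M2 1 1 1 2) 2, lift 2 0 (dia 2) 2] :=
    .cons ⟨gX 0, K.X_realises 0⟩ <| .cons ⟨gX 1, K.X_realises 1⟩ <| .cons ⟨gY 0, K.Y_realises 0⟩ <|
      .cons ⟨gY 1, K.Y_realises 1⟩ <| .cons ⟨gC _ (.inr hiJ), K.base_realises (.inr hiJ) hiM⟩ <|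
      .cons ⟨gC _ (.inr hjJ), K.base_realises (.inr hjJ) hjM⟩ <|
      .cons ⟨gC _ (.inl hk₂), K.base_realises (.inl hk₂) (realises_dia hk₂w)⟩ .nil
  obtain ⟨R, -⟩ := K.real minusThree rfl rfl minusThree_wf minusThree_table minusThree_distinct
    (by rw [hz, show K.J.length = 2 from rfl]; decide +kernel) (kit_list K hL minusThree_match)
  refine R.pair_of_cover h2.sq_mem rfl (D := [minusThreeData0, minusThreeData1, minusThreeData2])
    (fun d hd => ?_) minusThree_cover (Or.inl (classes_of minusThree_classes))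
  simp only [List.mem_cons, List.not_mem_nil, or_false] at hd
  rcases hd with rfl | rfl | rfl
  exacts [⟨⟨_, minusThreeData0_check⟩, minusThreeData0_regular, by decide⟩,
    ⟨⟨_, minusThreeData1_check⟩, minusThreeData1_regular, by decide⟩,
    ⟨⟨_, minusThreeData2_check⟩, minusThreeData2_regular, by decide⟩]

end Setting

end Cfsg.Lib.CoprimeBase
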