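import Cfsg.Agent.Lib.CoprimeBase.Centre

/-!
When the quotient by the centre has exponent two: pairs of elements with prescribed commutators, dual to the line
stabiliser of a vector.
-/

set_option autoImplicit false
set_option linter.unusedSectionVars false
set_option linter.style.haveILetI false

namespace Cfsg.Lib.CoprimeBase

open MulAction Cfsg.Lib.OddBase
open scoped commutatorElement

universe v

variable {A V : Type v} [Group A] [Finite A] [AddCommGroup V] [Finite V] [DistribMulAction A V] {p : ℕ}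

namespace Setting

variable (s : Setting A V p)

/-- Squares are central, and the element `ι` of the centre acts as minus one. -/
structure TwoType (ι : s.N) : Prop where
  sq_mem : ∀ x : s.N, x ^ 2 ∈ Subgroup.center s.N
  mem : ι ∈ Subgroup.center s.N
  act : ∀ w : V, ι • w = -w
  ne : ι ≠ 1
  sq : ι ^ 2 = 1

theorem exists_twoType [Nontrivial V] [Fact p.Prime] (h2 : ∀ x : s.N, x ^ 2 ∈ Subgroup.center s.N) :
    ∃ ι : s.N, s.TwoType ι := by
  have hp1 := (Fact.out : p.Prime).two_le
  obtain ⟨ι, hι, hact⟩ := s.hnat (p - 1) fun h => by have := Nat.le_of_dvd (by omega) h; omega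
  have hneg : ∀ w : V, ι • w = -w := fun w => by
    rw [hact, eq_neg_iff_add_eq_zero]
    nth_rewrite 2 [← one_nsmul w]
    rw [← add_nsmul, Nat.sub_add_cancel (by omega)]
    exact s.hp w
  obtain ⟨w, hw⟩ := exists_ne (0 : V)
  refine ⟨ι, h2, hι, hneg, fun h => hw ?_, ?_⟩
  · have h' := hneg w
    rw [h, one_smul] at h'
    have hord := addOrderOf_dvd_of_nsmul_eq_zero (show (2 : ℕ) • w = 0 by
      rw [two_nsmul]; nth_rewrite 2 [h']; exact add_neg_cancel w)
    have hp' := addOrderOf_dvd_of_nsmul_eq_zero (s.hp w)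
    rcases (Nat.dvd_prime Nat.prime_two).1 hord with h2 | h2
    · exact AddMonoid.addOrderOf_eq_one_iff.1 h2
    · rw [h2] at hp'
      exact absurd ((Nat.prime_dvd_prime_iff_eq Nat.prime_two Fact.out).1 hp').symm s.hp2
  · refine s.hfpf _ (pow_mem hι 2) w hw ?_
    rw [pow_two, mul_smul, hneg, hneg, neg_neg]

variable {s} {ι : s.N} {e : V}

theorem TwoType.commutator_cases (h : s.TwoType ι) (x y : s.N) : ⁅x, y⁆ = 1 ∨ ⁅x, y⁆ = ι := by
  by_cases h1 : ⁅x, y⁆ = 1
  · exact Or.inl h1
  · refine Or.inr (invol_unique s (s.commutator_mem x y) h.mem ?_ h.sq h1 h.ne)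
    rw [← Cfsg.Lib.PGroup.commutatorElement_pow_left s.hcl,
      commutatorElement_eq_one_iff_mul_comm.2 (Subgroup.mem_center_iff.1 (h.sq_mem x) y).symm]

theorem TwoType.commutator_comm (h : s.TwoType ι) (x y : s.N) : ⁅x, y⁆ = ⁅y, x⁆ := by
  rw [← commutatorElement_inv y x]
  rcases h.commutator_cases y x with h1 | h1 <;> rw [h1]
  · exact inv_one
  · exact inv_eq_of_mul_eq_one_right (by rw [← pow_two, h.sq])

theorem TwoType.mul_self_mem (h : s.TwoType ι) (e : V) (q : s.N ⧸ s.mid e) : q * q = 1 := by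
  induction q using QuotientGroup.induction_on with
  | H x => rw [← QuotientGroup.mk_mul, QuotientGroup.eq_one_iff, ← pow_two]; exact s.center_le_mid e (h.sq_mem x)

theorem TwoType.smul_ne (h : s.TwoType ι) [Fact p.Prime] {w : V} (hw : w ≠ 0) : ι • w ≠ w := fun e =>
  h.ne (s.hfpf _ h.mem w hw e)

open scoped Classical in
/-- The translates generated by a list of elements. -/
noncomputable def span (s : Setting A V p) (e : V) : List s.N → Finset (s.N ⧸ s.mid e)
  | [] => {1}
  | g :: L => span s e L ∪ (span s e L).image (fun q => q * (g : s.N ⧸ s.mid e))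

theorem card_span (L : List s.N) : (span s e L).card ≤ 2 ^ L.length := by
  induction L with
  | nil => simp [span]
  | cons g L ih =>
    classical
    rw [span, List.length_cons, pow_succ]
    have := (Finset.card_union_le (span s e L) ((span s e L).image fun q => q * (g : s.N ⧸ s.mid e)))
    have := Finset.card_image_le (s := span s e L) (f := fun q => q * (g : s.N ⧸ s.mid e))
    omega

theorem span_mul_right (h : s.TwoType ι) {L : List s.N} {g : s.N} (hg : g ∈ L) {q : s.N ⧸ s.mid e}
    (hq : q ∈ span s e L) : q * (g : s.N ⧸ s.mid e) ∈ span s e L := by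
  classical
  induction L generalizing q with
  | nil => simp at hg
  | cons a L ih =>
    rw [span, Finset.mem_union, Finset.mem_image] at hq ⊢
    rcases List.mem_cons.1 hg with rfl | hg
    · rcases hq with hq | ⟨q', hq', rfl⟩
      · exact Or.inr ⟨q, hq, rfl⟩
      · left; rwa [mul_assoc, h.mul_self_mem e, mul_one]
    · rcases hq with hq | ⟨q', hq', rfl⟩
      · exact Or.inl (ih hg hq)
      · refine Or.inr ⟨_, ih hg hq', ?_⟩
        rw [mul_assoc, s.mk_commute' e (g : s.N ⧸ s.mid e), mul_assoc]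

theorem mul_mem_span_iff (h : s.TwoType ι) {L : List s.N} {g : s.N} (hg : g ∈ L) (y : s.N) :
    ((y * g : s.N) : s.N ⧸ s.mid e) ∈ span s e L ↔ (y : s.N ⧸ s.mid e) ∈ span s e L := by
  rw [QuotientGroup.mk_mul]
  refine ⟨fun hy => ?_, span_mul_right h hg⟩
  have := span_mul_right h hg hy
  rwa [mul_assoc, h.mul_self_mem e, mul_one] at this

/-- An element outside a span is moved by a line element commuting with the span. -/
theorem TwoType.separate (h : s.TwoType ι) : ∀ (L : List s.N) (y : s.N),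
    (y : s.N ⧸ s.mid e) ∉ span s e L → ∃ x ∈ s.line e, (∀ g ∈ L, ⁅x, g⁆ = 1) ∧ ⁅x, y⁆ = ι := by
  classical
  intro L
  induction L with
  | nil =>
    intro y hy
    rw [span, Finset.mem_singleton, QuotientGroup.eq_one_iff, s.mem_mid] at hy
    push Not at hy
    obtain ⟨x, hx, hxy⟩ := hy
    refine ⟨x, hx, by simp, (h.commutator_cases x y).resolve_left fun h1 => hxy ?_⟩
    exact commutatorElement_eq_one_iff_mul_comm.1 h1
  | cons g L ih =>
    intro y hy
    rw [span, Finset.mem_union, Finset.mem_image, not_or] at hy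
    by_cases hg : (g : s.N ⧸ s.mid e) ∈ span s e L
    · obtain ⟨x, hx, hxL, hxy⟩ := ih y hy.1
      refine ⟨x, hx, ?_, hxy⟩
      intro g' hg'
      rcases List.mem_cons.1 hg' with rfl | hg'
      · -- the centraliser of `x` contains the span
        have key : ∀ (L' : List s.N), (∀ a ∈ L', ⁅x, a⁆ = 1) → ∀ a : s.N, (a : s.N ⧸ s.mid e) ∈ span s e L' →
            ⁅x, a⁆ = 1 := by
          intro L'
          induction L' with
          | nil =>
            intro _ a ha
            rw [span, Finset.mem_singleton, QuotientGroup.eq_one_iff] at ha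
            exact commutatorElement_eq_one_iff_mul_comm.2 (s.mem_mid.1 ha x hx)
          | cons b L' ih' =>
            intro hb a ha
            rw [span, Finset.mem_union, Finset.mem_image] at ha
            rcases ha with ha | ⟨q, hq, hqa⟩
            · exact ih' (fun c hc => hb c (by simp [hc])) a ha
            · have h1 : ((a * b : s.N) : s.N ⧸ s.mid e) ∈ span s e L' := by
                rw [QuotientGroup.mk_mul, ← hqa, mul_assoc, h.mul_self_mem e, mul_one]
                exact hq
              have h2 := ih' (fun c hc => hb c (by simp [hc])) _ h1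
              rwa [Cfsg.Lib.PGroup.commutatorElement_mul_right s.hcl, hb b (by simp), mul_one] at h2
        exact key L hxL _ hg
      · exact hxL g' hg'
    · obtain ⟨x₁, hx₁, hx₁L, hx₁g⟩ := ih g hg
      have hyg : ((y * g : s.N) : s.N ⧸ s.mid e) ∉ span s e L := fun hh => hy.2
        ⟨_, hh, by rw [QuotientGroup.mk_mul, mul_assoc, h.mul_self_mem e, mul_one]⟩
      obtain ⟨g₀, hg₀, hgy⟩ : ∃ g₀ : s.N, (g₀ : s.N ⧸ s.mid e) ∉ span s e L ∧ ⁅x₁, g₀⁆ = 1 ∧
          (g₀ = y ∨ g₀ = y * g) := by
        rcases h.commutator_cases x₁ y with h1 | h1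
        · exact ⟨y, hy.1, h1, Or.inl rfl⟩
        · refine ⟨y * g, hyg, ?_, Or.inr rfl⟩
          rw [Cfsg.Lib.PGroup.commutatorElement_mul_right s.hcl, h1, hx₁g, ← pow_two, h.sq]
      obtain ⟨x, hx, hxL, hxg₀⟩ := ih g₀ hg₀
      obtain ⟨x', hx', hx'L, hx'g, hx'g₀⟩ : ∃ x' ∈ s.line e, (∀ a ∈ L, ⁅x', a⁆ = 1) ∧ ⁅x', g⁆ = 1 ∧
          ⁅x', g₀⁆ = ι := by
        rcases h.commutator_cases x g with h1 | h1
        · exact ⟨x, hx, hxL, h1, hxg₀⟩
        · refine ⟨x * x₁, mul_mem hx hx₁, fun a ha => ?_, ?_, ?_⟩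
          · rw [Cfsg.Lib.PGroup.commutatorElement_mul_left s.hcl, hxL a ha, hx₁L a ha, one_mul]
          · rw [Cfsg.Lib.PGroup.commutatorElement_mul_left s.hcl, h1, hx₁g, ← pow_two, h.sq]
          · rw [Cfsg.Lib.PGroup.commutatorElement_mul_left s.hcl, hxg₀, hgy.1, mul_one]
      refine ⟨x', hx', fun a ha => ?_, ?_⟩
      · rcases List.mem_cons.1 ha with rfl | ha
        exacts [hx'g, hx'L a ha]
      · rcases hgy.2 with e1 | e1
        · rwa [e1] at hx'g₀
        · rwa [e1, Cfsg.Lib.PGroup.commutatorElement_mul_right s.hcl, hx'g, mul_one] at hx'g₀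

/-- Pairs of involutions with prescribed commutators, commuting with given elements of the centraliser. -/
structure Pairs (s : Setting A V p) (ι : s.N) (e : V) {c : ℕ} (X Y : Fin c → s.N) (J : List s.N) : Prop where
  xmem : ∀ i, X i ∈ s.line e
  xfix : ∀ i, X i • e = e
  xsq : ∀ i, X i ^ 2 = 1
  ysq : ∀ i, Y i ^ 2 = 1
  comm : ∀ i j, ⁅X i, Y j⁆ = if i = j then ι else 1
  ycomm : ∀ i j, ⁅Y i, Y j⁆ = 1
  ymid : ∀ i, ∀ g ∈ J, ⁅g, Y i⁆ = 1

theorem TwoType.exists_pairs [Fact p.Prime] (h : s.TwoType ι) (he : e ≠ 0)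
    (hz : s.z = 2 ∨ (∀ x : s.N, x ^ s.z = 1))
    (J : List s.N) (hJ : ∀ g ∈ J, g ∈ s.mid e)
    (hfix : ∀ y : s.N, ∃ μ ∈ s.mid e, ∀ g ∈ J, ⁅g, y * μ⁆ = 1) :
    ∀ c : ℕ, 2 ^ c ≤ 2 * Nat.card (s.N ⧸ s.mid e) - 1 → ∃ X Y : Fin c → s.N, s.Pairs ι e X Y J := by
  classical
  intro c
  induction c with
  | zero =>
    exact fun _ => ⟨Fin.elim0, Fin.elim0,
      ⟨fun i => i.elim0, fun i => i.elim0, fun i => i.elim0, fun i => i.elim0, fun i => i.elim0,
        fun i => i.elim0, fun i => i.elim0⟩⟩
  | succ c ih =>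
    intro hc
    rw [pow_succ] at hc
    obtain ⟨X, Y, P⟩ := ih (by omega)
    obtain ⟨y₀, hy₀⟩ : ∃ y : s.N, (y : s.N ⧸ s.mid e) ∉ span s e (List.ofFn Y) := by
      by_contra hall
      push Not at hall
      haveI := Fintype.ofFinite (s.N ⧸ s.mid e)
      have h1 : (Finset.univ : Finset (s.N ⧸ s.mid e)) ⊆ span s e (List.ofFn Y) := fun q _ => by
        induction q using QuotientGroup.induction_on with
        | H y => exact hall y
      have h2 := (Finset.card_le_card h1).trans (card_span _)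
      rw [List.length_ofFn, Finset.card_univ, ← Nat.card_eq_fintype_card] at h2
      have h3 : 0 < Nat.card (s.N ⧸ s.mid e) := Nat.card_pos
      generalize Nat.card (s.N ⧸ s.mid e) = n at hc h2 h3
      generalize 2 ^ c = a at hc h2
      omega
    -- commuting with the line elements already chosen
    obtain ⟨y₁, hy₁, hy₁X⟩ : ∃ y : s.N, (y : s.N ⧸ s.mid e) ∉ span s e (List.ofFn Y) ∧ ∀ i, ⁅X i, y⁆ = 1 := by
      suffices ∀ S : Finset (Fin c), ∃ y : s.N, (y : s.N ⧸ s.mid e) ∉ span s e (List.ofFn Y) ∧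
          ∀ i ∈ S, ⁅X i, y⁆ = 1 by
        obtain ⟨y, h1, h2⟩ := this Finset.univ
        exact ⟨y, h1, fun i => h2 i (Finset.mem_univ i)⟩
      intro S
      induction S using Finset.induction with
      | empty => exact ⟨y₀, hy₀, by simp⟩
      | insert a S ha ihS =>
        obtain ⟨y, h1, h2⟩ := ihS
        rcases h.commutator_cases (X a) y with h3 | h3
        · exact ⟨y, h1, Finset.forall_mem_insert _ _ _ |>.2 ⟨h3, h2⟩⟩
        · refine ⟨y * Y a, fun hh => h1 ((mul_mem_span_iff h (List.mem_ofFn.2 ⟨a, rfl⟩) y).1 hh), fun i hi => ?_⟩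
          rw [Cfsg.Lib.PGroup.commutatorElement_mul_right s.hcl, P.comm]
          rcases Finset.mem_insert.1 hi with rfl | hi
          · rw [if_pos rfl, h3, ← pow_two, h.sq]
          · rw [if_neg (fun e' : i = a => ha (e' ▸ hi)), h2 i hi, mul_one]
    obtain ⟨μ, hμ, hμJ⟩ := hfix y₁
    have hy₂ : ((y₁ * μ : s.N) : s.N ⧸ s.mid e) ∉ span s e (List.ofFn Y) := by
      rwa [QuotientGroup.mk_mul, (QuotientGroup.eq_one_iff μ).2 hμ, mul_one]
    obtain ⟨x₀, hx₀, hx₀Y, hx₀y⟩ := h.separate _ _ hy₂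
    obtain ⟨k, hk, hke⟩ := id hx₀
    set x : s.N := k⁻¹ * x₀ with hxdef
    have hxm : x ∈ s.line e := mul_mem (inv_mem (s.center_le_line e hk)) hx₀
    have hxe : x • e = e := by rw [hxdef, mul_smul, hke, inv_smul_smul]
    have hxc : ∀ g : s.N, ⁅x, g⁆ = ⁅x₀, g⁆ := fun g => by
      rw [hxdef, Cfsg.Lib.PGroup.commutatorElement_mul_left s.hcl, commutatorElement_eq_one_iff_mul_comm.2
        (Subgroup.mem_center_iff.1 (inv_mem hk) g).symm, one_mul]
    have hxsq : x ^ 2 = 1 := s.hfpf _ (h.sq_mem x) e he (by rw [pow_two, mul_smul, hxe, hxe])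
    have hlineJ : ∀ u ∈ s.line e, ∀ g ∈ J, ⁅g, u⁆ = 1 := fun u hu g hg =>
      commutatorElement_eq_one_iff_mul_comm.2 (s.mem_mid.1 (hJ g hg) u hu).symm
    -- commuting with the translates already chosen
    obtain ⟨y₃, hy₃X, hy₃x, hy₃J, hy₃Y⟩ : ∃ y : s.N, (∀ i, ⁅X i, y⁆ = 1) ∧ ⁅x, y⁆ = ι ∧
        (∀ g ∈ J, ⁅g, y⁆ = 1) ∧ ∀ i, ⁅Y i, y⁆ = 1 := by
      suffices ∀ S : Finset (Fin c), ∃ y : s.N, (∀ i, ⁅X i, y⁆ = 1) ∧ ⁅x, y⁆ = ι ∧
          (∀ g ∈ J, ⁅g, y⁆ = 1) ∧ ∀ i ∈ S, ⁅Y i, y⁆ = 1 by
        obtain ⟨y, h1, h2, h3, h4⟩ := this Finset.univ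
        exact ⟨y, h1, h2, h3, fun i => h4 i (Finset.mem_univ i)⟩
      intro S
      induction S using Finset.induction with
      | empty =>
        refine ⟨y₁ * μ, fun i => ?_, by rw [hxc]; exact hx₀y, hμJ, by simp⟩
        rw [Cfsg.Lib.PGroup.commutatorElement_mul_right s.hcl, hy₁X,
          commutatorElement_eq_one_iff_mul_comm.2 (s.mem_mid.1 hμ _ (P.xmem i)), one_mul]
      | insert a S ha ihS =>
        obtain ⟨y, h1, h2, h3, h4⟩ := ihS
        rcases h.commutator_cases (Y a) y with h5 | h5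
        · exact ⟨y, h1, h2, h3, Finset.forall_mem_insert _ _ _ |>.2 ⟨h5, h4⟩⟩
        · refine ⟨y * X a, fun i => ?_, ?_, fun g hg => ?_, fun i hi => ?_⟩
          · rw [Cfsg.Lib.PGroup.commutatorElement_mul_right s.hcl, h1,
              commutatorElement_eq_one_iff_mul_comm.2 (s.commute_of_mem_line he (P.xmem i) (P.xmem a)).eq, one_mul]
          · rw [Cfsg.Lib.PGroup.commutatorElement_mul_right s.hcl, h2,
              commutatorElement_eq_one_iff_mul_comm.2 (s.commute_of_mem_line he hxm (P.xmem a)).eq, mul_one]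
          · rw [Cfsg.Lib.PGroup.commutatorElement_mul_right s.hcl, h3 g hg, hlineJ _ (P.xmem a) g hg, one_mul]
          · rw [Cfsg.Lib.PGroup.commutatorElement_mul_right s.hcl, h.commutator_comm (Y i) (X a), P.comm]
            rcases Finset.mem_insert.1 hi with rfl | hi
            · rw [if_pos rfl, h5, ← pow_two, h.sq]
            · rw [if_neg (fun e' : a = i => ha (e'.symm ▸ hi)), h4 i hi, mul_one]
    -- squaring to one
    have hxY : ∀ i, ⁅x, Y i⁆ = 1 := fun i => by rw [hxc]; exact hx₀Y _ (List.mem_ofFn.2 ⟨i, rfl⟩)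
    obtain ⟨t, ht, ht2⟩ : ∃ t : s.N, (t = 1 ∨ t = x ∨ t ∈ Subgroup.center s.N) ∧ (y₃ * t) ^ 2 = 1 := by
      rcases hz with hz2 | hzall
      · by_cases h1 : y₃ ^ 2 = 1
        · exact ⟨1, Or.inl rfl, by rw [mul_one, h1]⟩
        refine ⟨x, Or.inr (Or.inl rfl), ?_⟩
        have hy2 : y₃ ^ 2 = ι := invol_unique s (h.sq_mem y₃) h.mem (by
          have := s.pow_z (h.sq_mem y₃)
          rwa [hz2] at this) h.sq h1 h.ne
        rw [Cfsg.Lib.PGroup.mul_pow_of_class_two s.hcl, Nat.choose_self, pow_one, hxsq, mul_one, hy2, hy₃x,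
          ← pow_two, h.sq]
      · haveI := s.isCyclic_center
        obtain ⟨ω, hω⟩ := IsCyclic.exists_generator (α := Subgroup.center s.N)
        obtain ⟨i, hi⟩ := Subgroup.mem_zpowers_iff.1 (hω ⟨y₃ ^ 2, h.sq_mem y₃⟩)
        have hev : Even i := by
          have h1 := hzall y₃
          obtain ⟨d, hd⟩ := s.z_even
          have hd0 : d ≠ 0 := by have := s.z_pos; omega
          rw [hd, ← two_mul, pow_mul] at h1
          have h2 : ω ^ (i * (d : ℤ)) = 1 := by
            rw [zpow_mul, hi, zpow_natCast]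
            exact Subtype.ext h1
          have h3 := orderOf_dvd_iff_zpow_eq_one.2 h2
          have hord : orderOf ω = s.z := orderOf_eq_card_of_forall_mem_zpowers hω
          rw [hord, hd] at h3
          obtain ⟨r, hr⟩ := h3
          exact ⟨r, mul_right_cancel₀ (by exact_mod_cast hd0 : (d : ℤ) ≠ 0) (by push_cast at hr; linarith)⟩
        obtain ⟨r, hr⟩ := hev
        refine ⟨((ω ^ r : Subgroup.center s.N) : s.N)⁻¹, Or.inr (Or.inr (inv_mem (ω ^ r).2)), ?_⟩
        have hpow : (((ω ^ r : Subgroup.center s.N) : s.N)) ^ 2 = y₃ ^ 2 := by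
          rw [← SubgroupClass.coe_pow, ← zpow_natCast, ← zpow_mul, show r * ((2 : ℕ) : ℤ) = i by push_cast; omega,
            hi]
        rw [(show Commute y₃ ((ω ^ r : Subgroup.center s.N) : s.N)⁻¹ from
          Subgroup.mem_center_iff.1 (inv_mem (ω ^ r).2) y₃).mul_pow, inv_pow, hpow, mul_inv_cancel]
    have htc : ∀ g : s.N, (⁅g, x⁆ = 1) → ⁅g, t⁆ = 1 := fun g hg => by
      rcases ht with rfl | rfl | ht
      · exact commutatorElement_one_right g
      · exact hg
      · exact commutatorElement_eq_one_iff_mul_comm.2 (Subgroup.mem_center_iff.1 ht g)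
    have hnew : ∀ g : s.N, ⁅g, x⁆ = 1 → ⁅g, y₃ * t⁆ = ⁅g, y₃⁆ := fun g hg => by
      rw [Cfsg.Lib.PGroup.commutatorElement_mul_right s.hcl, htc g hg, mul_one]
    have hxx : ∀ u ∈ s.line e, ⁅u, x⁆ = 1 := fun u hu =>
      commutatorElement_eq_one_iff_mul_comm.2 (s.commute_of_mem_line he hu hxm).eq
    have hYx : ∀ i, ⁅Y i, x⁆ = 1 := fun i => by rw [h.commutator_comm]; exact hxY i
    refine ⟨Fin.snoc X x, Fin.snoc Y (y₃ * t), ⟨?_, ?_, ?_, ?_, ?_, ?_, ?_⟩⟩
    · intro i; cases i using Fin.lastCases <;> simp [hxm, P.xmem]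
    · intro i; cases i using Fin.lastCases <;> simp [hxe, P.xfix]
    · intro i; cases i using Fin.lastCases <;> simp [hxsq, P.xsq]
    · intro i; cases i using Fin.lastCases <;> simp [ht2, P.ysq]
    · intro i j
      cases i using Fin.lastCases with
      | last =>
        cases j using Fin.lastCases with
        | last => simp [hnew x (commutatorElement_self x), hy₃x]
        | cast j => simp [hxY, (Fin.castSucc_lt_last j).ne']
      | cast i =>
        cases j using Fin.lastCases with
        | last => simp [hnew (X i) (hxx _ (P.xmem i)), hy₃X, (Fin.castSucc_lt_last i).ne]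
        | cast j => simp [P.comm, Fin.castSucc_inj]
    · intro i j
      cases i using Fin.lastCases with
      | last =>
        cases j using Fin.lastCases with
        | last => simp [commutatorElement_self]
        | cast j =>
          simp only [Fin.snoc_last, Fin.snoc_castSucc]
          rw [h.commutator_comm, hnew _ (hYx j)]
          exact hy₃Y j
      | cast i =>
        cases j using Fin.lastCases with
        | last => simp [hnew _ (hYx i), hy₃Y]
        | cast j => simp [P.ycomm]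
    · intro i g hg
      cases i using Fin.lastCases with
      | last => simp [hnew g (hlineJ _ hxm g hg), hy₃J g hg]
      | cast i => simp [P.ymid i g hg]

/-- Two elements of the centraliser outside the line stabiliser anticommute unless their product is in it. -/
theorem TwoType.anti (h : s.TwoType ι) (he : s.Max e) (hz : s.z = 2) {a b : s.N} (ha : a ∈ s.mid e)
    (hb : b ∈ s.mid e) (haU : a ∉ s.line e) (hbU : b ∉ s.line e) (hab : a * b ∉ s.line e) : ⁅b, a⁆ = ι := by
  refine (h.commutator_cases b a).resolve_left fun h1 => hab (he.maxc _ (mul_mem ha hb) ?_)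
  have hsq : ∀ c ∈ s.mid e, c ∉ s.line e → c ^ 2 = ι := fun c hc hcU => by
    refine invol_unique s (h.sq_mem c) h.mem ?_ h.sq (fun hh => hcU (he.maxc c hc (by rw [hz]; exact hh))) h.ne
    have := s.pow_z (h.sq_mem c)
    rwa [hz] at this
  rw [hz, Cfsg.Lib.PGroup.mul_pow_of_class_two s.hcl, h1, one_pow, mul_one, hsq a ha haU, hsq b hb hbU, ← pow_two, h.sq]

/-- The centraliser contains two anticommuting elements outside the line stabiliser, if larger than it. -/
theorem TwoType.exists_anti (h : s.TwoType ι) (he : s.Max e) (hz : s.z = 2) (hM : s.mid e ≠ s.line e) :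
    ∃ i ∈ s.mid e, ∃ j ∈ s.mid e, i ^ 2 = ι ∧ j ^ 2 = ι ∧ ⁅i, j⁆ = ι ∧
      ∀ d ∈ s.mid e, ⁅i, d⁆ = 1 → ⁅j, d⁆ = 1 → d ∈ s.line e := by
  classical
  obtain ⟨i, hi, hiU⟩ := SetLike.exists_of_lt (lt_of_le_of_ne (s.line_le_mid he.ne) hM.symm)
  obtain ⟨j, hj, hij⟩ : ∃ j ∈ s.mid e, ⁅i, j⁆ = ι := by
    by_contra hall
    push Not at hall
    have hcomm : ∀ d ∈ s.mid e, ⁅i, d⁆ = 1 := fun d hd => (h.commutator_cases i d).resolve_right (hall d hd)
    have key : ∀ L : List s.N, ∃ u ∈ s.line e, ∀ g ∈ L, ⁅i * u, g⁆ = 1 := by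
      intro L
      induction L with
      | nil => exact ⟨1, one_mem _, by simp⟩
      | cons g L ih =>
        obtain ⟨u, hu, huL⟩ := ih
        rcases h.commutator_cases (i * u) g with h1 | h1
        · exact ⟨u, hu, fun g' hg' => (List.mem_cons.1 hg').elim (fun e' => e' ▸ h1) (huL g')⟩
        have hg : (g : s.N ⧸ s.mid e) ∉ span s e L := by
          intro hg
          have h2 : ∀ (L' : List s.N), (∀ a ∈ L', ⁅i * u, a⁆ = 1) → ∀ a : s.N,
              (a : s.N ⧸ s.mid e) ∈ span s e L' → ⁅i * u, a⁆ = 1 := by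
            intro L'
            induction L' with
            | nil =>
              intro _ a ha
              rw [span, Finset.mem_singleton, QuotientGroup.eq_one_iff] at ha
              rw [Cfsg.Lib.PGroup.commutatorElement_mul_left s.hcl, hcomm a ha,
                commutatorElement_eq_one_iff_mul_comm.2 (s.mem_mid.1 ha u hu), one_mul]
            | cons b L' ih' =>
              intro hb a ha
              rw [span, Finset.mem_union, Finset.mem_image] at ha
              rcases ha with ha | ⟨q, hq, hqa⟩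
              · exact ih' (fun c hc => hb c (by simp [hc])) a ha
              · have h3 : ((a * b : s.N) : s.N ⧸ s.mid e) ∈ span s e L' := by
                  rw [QuotientGroup.mk_mul, ← hqa, mul_assoc, h.mul_self_mem e, mul_one]
                  exact hq
                have h4 := ih' (fun c hc => hb c (by simp [hc])) _ h3
                rwa [Cfsg.Lib.PGroup.commutatorElement_mul_right s.hcl, hb b (by simp), mul_one] at h4
          exact h.ne (h1.symm.trans (h2 L huL g hg))
        obtain ⟨x, hx, hxL, hxg⟩ := h.separate L g hg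
        refine ⟨u * x, mul_mem hu hx, fun g' hg' => ?_⟩
        rw [← mul_assoc, Cfsg.Lib.PGroup.commutatorElement_mul_left s.hcl]
        rcases List.mem_cons.1 hg' with rfl | hg'
        · rw [h1, hxg, ← pow_two, h.sq]
        · rw [huL g' hg', hxL g' hg', one_mul]
    haveI := Fintype.ofFinite s.N
    obtain ⟨u, hu, hall'⟩ := key (Finset.univ : Finset s.N).toList
    have hc : i * u ∈ Subgroup.center s.N := Subgroup.mem_center_iff.2 fun g =>
      (commutatorElement_eq_one_iff_mul_comm.1 (hall' g (Finset.mem_toList.2 (Finset.mem_univ g)))).symm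
    exact hiU ((Subgroup.mul_mem_cancel_right _ hu).1 (s.center_le_line e hc))
  have hjU : j ∉ s.line e := fun hjl => h.ne (hij.symm.trans
    (commutatorElement_eq_one_iff_mul_comm.2 (s.mem_mid.1 hi j hjl).symm))
  have hsq : ∀ c ∈ s.mid e, c ∉ s.line e → c ^ 2 = ι := fun c hc hcU => by
    refine invol_unique s (h.sq_mem c) h.mem ?_ h.sq (fun hh => hcU (he.maxc c hc (by rw [hz]; exact hh))) h.ne
    have := s.pow_z (h.sq_mem c)
    rwa [hz] at this
  refine ⟨i, hi, j, hj, hsq i hi hiU, hsq j hj hjU, hij, fun d hd hdi hdj => ?_⟩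
  by_contra hdU
  by_cases hdi' : d * i ∈ s.line e
  · refine h.ne ?_
    have h1 : ⁅j, d * i⁆ = 1 := commutatorElement_eq_one_iff_mul_comm.2 (s.mem_mid.1 hj _ hdi').symm
    rwa [Cfsg.Lib.PGroup.commutatorElement_mul_right s.hcl, hdj, one_mul, h.commutator_comm j i, hij] at h1
  · exact h.ne ((h.anti he hz hd hi hdU hiU hdi').symm.trans hdi)

end Setting

end Cfsg.Lib.CoprimeBase
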