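import Mathlib.Algebra.BigOperators.Intervals
import Mathlib.Algebra.Module.BigOperators
import Mathlib.Algebra.GroupWithZero.Action.Defs
import Mathlib.Algebra.Module.Basic
import Mathlib.Algebra.BigOperators.GroupWithZero.Action
import Mathlib.Tactic.Ring
import Mathlib.Tactic.Abel
import Mathlib.Tactic.Linarith
import Mathlib.Data.Nat.Prime.Basic

/-!
Bases of vectors obtained by repeated doubling with commuting elements, and the matrices of elements on them.
-/

set_option autoImplicit false
set_option linter.unusedSectionVars false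

namespace Cfsg.Lib.CoprimeBase.Tower

variable {G V : Type*} [Group G] [AddCommGroup V] [DistribMulAction G V]

/-- A linear combination of the first vectors of a family. -/
def comb (n : ℕ) (B : ℕ → V) (f : ℕ → ℕ) : V := ∑ i ∈ Finset.range n, f i • B i

/-- The doubled family. -/
def double (n : ℕ) (y : G) (B : ℕ → V) : ℕ → V := fun i => if i < n then B i else y • B (i - n)

/-- An element has the given matrix on the family. -/
def Realises (n : ℕ) (B : ℕ → V) (g : G) (M : ℕ → ℕ → ℕ) : Prop := ∀ i < n, g • B i = comb n B fun j => M j i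

/-- The matrix on the doubled family of an element commuting with the new element. -/
def ext (n : ℕ) (M : ℕ → ℕ → ℕ) : ℕ → ℕ → ℕ := fun j i =>
  if i < n then (if j < n then M j i else 0) else (if j < n then 0 else M (j - n) (i - n))

/-- The matrix of an element fixing the old family and negating the new one. -/
def signM (p n : ℕ) : ℕ → ℕ → ℕ := fun j i => if j = i then (if i < n then 1 else p - 1) else 0

/-- The matrix of the doubling involution. -/
def swapM (n : ℕ) : ℕ → ℕ → ℕ := fun j i => if j = (if i < n then i + n else i - n) then 1 else 0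

theorem comb_single {n k : ℕ} (B : ℕ → V) (hk : k < n) (a : ℕ) :
    comb n B (fun j => if j = k then a else 0) = a • B k := by
  rw [comb, Finset.sum_eq_single_of_mem k (Finset.mem_range.2 hk) fun j _ hj => by rw [if_neg hj, zero_smul],
    if_pos rfl]

theorem comb_double (n : ℕ) (y : G) (B : ℕ → V) (f : ℕ → ℕ) :
    comb (n + n) (double n y B) f = comb n B f + y • comb n B fun i => f (n + i) := by
  simp only [comb, Finset.sum_range_add, Finset.smul_sum]
  congr 1
  · exact Finset.sum_congr rfl fun i hi => by rw [double, if_pos (Finset.mem_range.1 hi)]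
  · refine Finset.sum_congr rfl fun i _ => ?_
    rw [double, if_neg (by omega), Nat.add_sub_cancel_left, smul_comm]

theorem comb_congr {n : ℕ} {B : ℕ → V} {f g : ℕ → ℕ} (h : ∀ i < n, f i = g i) : comb n B f = comb n B g :=
  Finset.sum_congr rfl fun i hi => by rw [h i (Finset.mem_range.1 hi)]

theorem comb_zero (n : ℕ) (B : ℕ → V) : comb n B (fun _ => 0) = 0 := by simp [comb]

theorem double_old {n i : ℕ} (y : G) (B : ℕ → V) (hi : i < n) : double n y B i = B i := if_pos hi

theorem double_new {n i : ℕ} (y : G) (B : ℕ → V) (hi : ¬ i < n) : double n y B i = y • B (i - n) := if_neg hi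

theorem realises_ext {n : ℕ} {B : ℕ → V} {g y : G} {M : ℕ → ℕ → ℕ} (h : Realises n B g M)
    (hc : ∀ w : V, g • y • w = y • g • w) : Realises (n + n) (double n y B) g (ext n M) := by
  intro i hi
  rw [comb_double]
  by_cases hin : i < n
  · rw [double_old y B hin, h i hin]
    have e2 : (comb n B fun j => ext n M (n + j) i) = 0 := by
      rw [← comb_zero n B]
      exact comb_congr fun j _ => by simp [ext, hin]
    rw [e2, smul_zero, add_zero]
    exact comb_congr fun j hj => by simp [ext, hin, hj]
  · rw [double_new y B hin, hc, h (i - n) (by omega)]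
    have e1 : (comb n B fun j => ext n M j i) = 0 := by
      rw [← comb_zero n B]
      exact comb_congr fun j hj => by simp [ext, hin, hj]
    rw [e1, zero_add]
    congr 1
    exact comb_congr fun j _ => by simp [ext, hin]

theorem realises_sign {p n : ℕ} (hp : ∀ w : V, p • w = 0) (hp0 : 0 < p) {B : ℕ → V} {x y : G}
    (hx : ∀ i < n, x • B i = B i) (hc : ∀ w : V, x • y • w = -(y • x • w)) :
    Realises (n + n) (double n y B) x (signM p n) := by
  have hneg : ∀ w : V, (p - 1) • w = -w := fun w => by
    rw [eq_neg_iff_add_eq_zero, ← succ_nsmul, Nat.sub_add_cancel hp0, hp]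
  intro i hi
  rw [show (fun j => signM p n j i) = fun j => if j = i then (if i < n then 1 else p - 1) else 0 from rfl,
    comb_single _ hi]
  by_cases hin : i < n
  · rw [if_pos hin, one_smul, double_old y B hin, hx i hin]
  · rw [if_neg hin, double_new y B hin, hc, hx (i - n) (by omega), hneg]

theorem realises_swap {n : ℕ} {B : ℕ → V} {y : G} (hy : ∀ w : V, y • y • w = w) :
    Realises (n + n) (double n y B) y (swapM n) := by
  intro i hi
  have ht : (if i < n then i + n else i - n) < n + n := by split_ifs <;> omega
  rw [show (fun j => swapM n j i) = fun j => if j = (if i < n then i + n else i - n) then 1 else 0 from rfl,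
    comb_single _ ht, one_smul]
  by_cases hin : i < n
  · rw [if_pos hin, double_old y B hin, double_new y B (by omega), Nat.add_sub_cancel]
  · rw [if_neg hin, double_new y B hin, double_old y B (by omega), hy]

/-- Independence modulo the characteristic. -/
def Indep (p n : ℕ) (B : ℕ → V) : Prop := ∀ f, comb n B f = 0 → ∀ i < n, p ∣ f i

theorem indep_double {p n : ℕ} [Fact p.Prime] (hp2 : p ≠ 2) (hp : ∀ w : V, p • w = 0) {B : ℕ → V}
    (hB : Indep p n B) {x y : G} (hx : ∀ i < n, x • B i = B i) (hc : ∀ w : V, x • y • w = -(y • x • w)) :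
    Indep p (n + n) (double n y B) := by
  intro f hf i hi
  rw [comb_double] at hf
  set a := comb n B f with ha
  set b := comb n B fun i => f (n + i) with hb
  have hxa : ∀ g : ℕ → ℕ, x • comb n B g = comb n B g := fun g => by
    simp only [comb, Finset.smul_sum]
    exact Finset.sum_congr rfl fun k hk => by rw [smul_comm, hx k (Finset.mem_range.1 hk)]
  have h1 := congrArg (x • ·) hf
  simp only [smul_add, smul_zero, hc, hxa, ha, hb] at h1
  have h2 : a + a = 0 := by
    have h3 := congrArg₂ (· + ·) hf h1
    simp only [add_zero, ← ha, ← hb] at h3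
    rw [← h3]; abel
  have ha0 : a = 0 := by
    obtain ⟨c, hc'⟩ := (Fact.out : p.Prime).odd_of_ne_two hp2
    have h4 := hp a
    rw [hc', succ_nsmul, mul_comm, mul_smul, two_nsmul, h2, smul_zero, zero_add] at h4
    exact h4
  have hb0 : b = 0 := by
    rw [ha0, zero_add, smul_eq_zero_iff_eq] at hf
    exact hf
  by_cases hin : i < n
  · exact hB f ha0 i hin
  · have := hB _ hb0 (i - n) (by omega)
    simpa [Nat.add_sub_cancel' (not_lt.1 hin)] using this

theorem span_double {p n : ℕ} [Fact p.Prime] (hp2 : p ≠ 2) (hp : ∀ w : V, p • w = 0) {B : ℕ → V} {x y : G}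
    (P : V → Prop) (hadd : ∀ u w, P u → P w → P (u + w)) (hnsmul : ∀ (k : ℕ) w, P w → P (k • w))
    (hxP : ∀ w, P w → P (x • w)) (hyP : ∀ w, P w → P (y • w))
    (hc : ∀ w : V, x • y • w = -(y • x • w)) (hx2 : ∀ w : V, x • x • w = w) (hy2 : ∀ w : V, y • y • w = w)
    (hspan : ∀ w, P w → x • w = w → ∃ f, comb n B f = w) :
    ∀ w, P w → ∃ f, comb (n + n) (double n y B) f = w := by
  obtain ⟨c, hpc⟩ := (Fact.out : p.Prime).odd_of_ne_two hp2
  intro w hw
  have hneg : ∀ u : V, (p - 1) • u = -u := fun u => by
    rw [eq_neg_iff_add_eq_zero, ← succ_nsmul, Nat.sub_add_cancel (Fact.out : p.Prime).pos, hp]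
  set u := (c + 1) • (w + x • w) with hu
  set u' := (c + 1) • (w + (p - 1) • x • w) with hu'
  have hxu : x • u = u := by rw [hu, smul_comm, smul_add, hx2, add_comm (x • w) w]
  have hxu' : x • u' = -u' := by
    rw [hu', smul_comm, smul_add, smul_comm x (p - 1), hx2, hneg, hneg, ← smul_neg]
    congr 1
    abel
  obtain ⟨f, hf⟩ := hspan u (hnsmul _ _ (hadd _ _ hw (hxP _ hw))) hxu
  obtain ⟨g, hg⟩ := hspan (y • u') (hyP _ (hnsmul _ _ (hadd _ _ hw (hnsmul _ _ (hxP _ hw))))) (by
    rw [hc, hxu', smul_neg, neg_neg])
  refine ⟨fun i => if i < n then f i else g (i - n), ?_⟩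
  rw [comb_double, comb_congr (g := f) (fun i hi => if_pos hi),
    comb_congr (f := fun i => if n + i < n then f (n + i) else g (n + i - n)) (g := g)
      (fun i _ => by rw [if_neg (by omega), Nat.add_sub_cancel_left]), hf, hg, hy2, hu, hu', hneg, ← smul_add,
    show w + x • w + (w + -(x • w)) = (2 : ℕ) • w by rw [two_nsmul]; abel, smul_smul,
    show (c + 1) * 2 = p + 1 by omega, add_smul, hp, zero_add, one_smul]

end Cfsg.Lib.CoprimeBase.Tower
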