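import Cfsg.Agent.Lib.CoprimeBase.Real
import Cfsg.Agent.Lib.CoprimeBase.Pauli
import Cfsg.Agent.Lib.CoprimeBase.Tower

/-!
Dual pairs and a base of the eigenspace give a realised model.
-/

set_option autoImplicit false
set_option linter.unusedSectionVars false
set_option linter.style.haveILetI false

namespace Cfsg.Lib.CoprimeBase

open MulAction Cfsg.Lib.OddBase
open scoped commutatorElement

universe v

namespace Tower

variable {G V : Type*} [Group G] [AddCommGroup V] [DistribMulAction G V]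

/-- The repeatedly doubled family. -/
def tower (d : ℕ) (Y : ℕ → G) (β : ℕ → V) : ℕ → ℕ → V
  | 0 => β
  | k + 1 => double (d * 2 ^ k) (Y k) (tower d Y β k)

/-- A matrix extended through further doublings. -/
def lift (d j : ℕ) (M : ℕ → ℕ → ℕ) : ℕ → ℕ → ℕ → ℕ
  | 0 => M
  | t + 1 => ext (d * 2 ^ (j + t)) (lift d j M t)

theorem size_succ (d k : ℕ) : d * 2 ^ (k + 1) = d * 2 ^ k + d * 2 ^ k := by rw [pow_succ]; ring

theorem realises_lift {d j : ℕ} {Y : ℕ → G} {β : ℕ → V} {g : G} {M : ℕ → ℕ → ℕ}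
    (h : Realises (d * 2 ^ j) (tower d Y β j) g M) : ∀ t : ℕ,
    (∀ k, j ≤ k → k < j + t → ∀ w : V, g • Y k • w = Y k • g • w) →
      Realises (d * 2 ^ (j + t)) (tower d Y β (j + t)) g (lift d j M t)
  | 0, _ => h
  | t + 1, hc => by
    rw [← add_assoc, size_succ]
    exact realises_ext (realises_lift h t fun k h1 h2 => hc k h1 (by omega)) (hc _ (by omega) (by omega))

theorem tower_fix {d : ℕ} {Y : ℕ → G} {β : ℕ → V} {g : G} (hβ : ∀ i < d, g • β i = β i) : ∀ k,
    (∀ j < k, ∀ w : V, g • Y j • w = Y j • g • w) → ∀ i < d * 2 ^ k, g • tower d Y β k i = tower d Y β k i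
  | 0, _, i, hi => hβ i (by simpa using hi)
  | k + 1, hc, i, hi => by
    rw [size_succ] at hi
    have ih := tower_fix hβ k fun j hj => hc j (by omega)
    by_cases h : i < d * 2 ^ k
    · rw [tower, double_old _ _ h]; exact ih i h
    · rw [tower, double_new _ _ h, hc k (by omega), ih _ (by omega)]

theorem comb_add (n : ℕ) (B : ℕ → V) (f g : ℕ → ℕ) : comb n B (f + g) = comb n B f + comb n B g := by
  simp only [comb, Pi.add_apply, add_smul, Finset.sum_add_distrib]

theorem comb_nsmul (n : ℕ) (B : ℕ → V) (k : ℕ) (f : ℕ → ℕ) : comb n B (fun i => k * f i) = k • comb n B f := by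
  simp only [comb, mul_smul, Finset.smul_sum]

/-- An independent family of the right length spans. -/
theorem span_of_card {p d : ℕ} [Fact p.Prime] (hp : ∀ w : V, p • w = 0) {β : ℕ → V} (hind : Indep p d β)
    {E : AddSubgroup V} [Finite E] (hmem : ∀ i < d, β i ∈ E) (hcard : Nat.card E = p ^ d) :
    ∀ w ∈ E, ∃ f, comb d β f = w := by
  classical
  haveI := Fintype.ofFinite E
  have hp0 := (Fact.out : p.Prime).pos
  let ev : (Fin d → Fin p) → E := fun f => ⟨comb d β (fun i => if h : i < d then (f ⟨i, h⟩ : ℕ) else 0),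
    sum_mem fun i hi => nsmul_mem (hmem i (Finset.mem_range.1 hi)) _⟩
  have hinj : Function.Injective ev := by
    intro f g hfg
    have h1 := congrArg Subtype.val hfg
    simp only [ev] at h1
    set F := fun i => if h : i < d then (f ⟨i, h⟩ : ℕ) else 0
    set H := fun i => if h : i < d then (g ⟨i, h⟩ : ℕ) else 0
    have h2 : comb d β (F + fun i => (p - 1) * H i) = 0 := by
      rw [comb_add, comb_nsmul, h1]
      nth_rewrite 1 [← one_nsmul (comb d β H)]
      rw [← add_smul, Nat.add_sub_cancel' hp0, hp]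
    funext i
    have h3 := hind _ h2 i i.2
    simp only [Pi.add_apply, F, H, dif_pos i.2] at h3
    have h4 : ((f i : ℕ) : ZMod p) = (g i : ℕ) := by
      have := (ZMod.natCast_eq_zero_iff _ _).2 h3
      push_cast [Nat.one_le_iff_ne_zero.2 hp0.ne'] at this
      simpa [sub_mul, sub_eq_zero, ← sub_eq_add_neg] using this
    refine Fin.ext ?_
    have h5 := congrArg ZMod.val h4
    rwa [ZMod.val_natCast, ZMod.val_natCast, Nat.mod_eq_of_lt (f i).2, Nat.mod_eq_of_lt (g i).2] at h5
  intro w hw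
  obtain ⟨f, hf⟩ := ((Fintype.bijective_iff_injective_and_card ev).2 ⟨hinj, by
    rw [← Nat.card_eq_fintype_card, ← Nat.card_eq_fintype_card, hcard]; simp⟩).2 ⟨w, hw⟩
  exact ⟨_, congrArg Subtype.val hf⟩

end Tower

namespace Cert

/-- The operators act on the unit vectors by pairwise different maps. -/
def distinctB (m : Model) : Bool :=
  decide (m.table.map fun o => (List.range m.n).map fun i => app m.p o (16 ^ i)).Nodup

/-- An operator has the given matrix. -/
def matchB (m : Model) (M : ℕ → ℕ → ℕ) (o : Op) : Bool :=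
  (List.range m.n).all fun i => app m.p o (16 ^ i) == packAt m.p m.n fun j => M j i

end Cert

open Cert Tower

variable {A V : Type v} [Group A] [Finite A] [AddCommGroup V] [Finite V] [DistribMulAction A V] {p : ℕ}

namespace Setting

variable (s : Setting A V p)

/-- Dual pairs and a base of the eigenspace. -/
structure Kit (ι : s.N) (e : V) (d c : ℕ) where
  two : s.TwoType ι
  ne : e ≠ 0
  J : List s.N
  jmid : ∀ g ∈ J, g ∈ s.mid e
  jlast : ∀ x ∈ s.mid e, (∀ g ∈ J, ⁅g, x⁆ = 1) → x ∈ s.line e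
  X : Fin c → s.N
  Y : Fin c → s.N
  pairs : s.Pairs ι e X Y J
  β : ℕ → V
  pos : 0 < d
  bmem : ∀ i < d, β i ∈ s.eig e
  bindep : Indep p d β
  bcard : Nat.card (s.eig e) = p ^ d

variable {s} {ι : s.N} {e : V} {d c : ℕ} (K : s.Kit ι e d c)

/-- The second elements of the pairs, indexed by all numbers. -/
def Kit.Yn : ℕ → s.N := fun k => if h : k < c then K.Y ⟨k, h⟩ else 1

/-- The base of the model. -/
def Kit.B (k : ℕ) : ℕ → V := tower d K.Yn K.β k

/-- The common subgroup. -/
def Kit.sub : Subgroup s.N := s.line e ⊓ Subgroup.centralizer (Set.range K.Y)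

theorem Kit.mem_sub {u : s.N} : u ∈ K.sub ↔ u ∈ s.line e ∧ ∀ i, Commute u (K.Y i) := by
  simp only [Kit.sub, Subgroup.mem_inf, Subgroup.mem_centralizer_iff, Set.forall_mem_range]
  exact and_congr_right fun _ => forall_congr' fun i => ⟨fun h => h.symm, fun h => h.symm.eq⟩

theorem Kit.Yn_eq (i : Fin c) : K.Yn i = K.Y i := dif_pos i.2

theorem smul_comm_of {a b : s.N} (h : Commute a b) (w : V) : a • b • w = b • a • w := by
  rw [smul_smul, smul_smul, h.eq]

theorem TwoType.anticomm (h : s.TwoType ι) {a b : s.N} (hab : ⁅a, b⁆ = ι) (w : V) : a • b • w = -(b • a • w) := by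
  rw [← h.act, smul_smul, smul_smul, smul_smul, ← hab, commutatorElement_def]
  congr 1
  group

theorem Kit.commute_Y (i j : Fin c) (h : i ≠ j) : Commute (K.X i) (K.Y j) :=
  commutatorElement_eq_one_iff_mul_comm.1 (by rw [K.pairs.comm, if_neg h])

theorem Kit.commute_YY (i j : Fin c) : Commute (K.Y i) (K.Y j) :=
  commutatorElement_eq_one_iff_mul_comm.1 (K.pairs.ycomm i j)

theorem Kit.smul_B {u k : s.N} (hk : k ∈ Subgroup.center s.N) (hue : u • e = k • e) : ∀ n,
    (∀ j : Fin c, (j : ℕ) < n → Commute u (K.Y j)) → n ≤ c → ∀ i < d * 2 ^ n, u • K.B n i = k • K.B n i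
  | 0, _, _, i, hi => K.bmem i (by simpa using hi) u k hk hue
  | n + 1, hc, hn, i, hi => by
    rw [size_succ] at hi
    have ih := Kit.smul_B hk hue n (fun j hj => hc j (by omega)) (by omega)
    by_cases h : i < d * 2 ^ n
    · simp only [Kit.B, tower, double_old _ _ h]; exact ih i h
    · have hY : K.Yn n = K.Y ⟨n, by omega⟩ := K.Yn_eq ⟨n, by omega⟩
      simp only [Kit.B, tower, double_new _ _ h, hY]
      rw [smul_comm_of (hc ⟨n, by omega⟩ (by simp)), ← s.comm_center hk]
      exact congrArg _ (ih _ (by omega))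

theorem Kit.X_fix (i : Fin c) : ∀ w ∈ s.eig e, K.X i • w = w := fun w hw => by
  rw [hw (K.X i) 1 (one_mem _) (by rw [one_smul]; exact K.pairs.xfix i), one_smul]

theorem Kit.X_fix_B (i : Fin c) {n : ℕ} (hn : n ≤ i) : ∀ j < d * 2 ^ n, K.X i • K.B n j = K.B n j :=
  tower_fix (fun j hj => K.X_fix i _ (K.bmem j hj)) n fun j hj w => by
    rw [show K.Yn j = K.Y ⟨j, by omega⟩ from K.Yn_eq ⟨j, by omega⟩]
    exact smul_comm_of (K.commute_Y _ _ (fun h => by simp [Fin.ext_iff] at h; omega)) w

theorem Kit.indep [Fact p.Prime] : ∀ n ≤ c, Indep p (d * 2 ^ n) (K.B n)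
  | 0, _ => by simpa [Kit.B, tower] using K.bindep
  | n + 1, hn => by
    rw [size_succ]
    simp only [Kit.B, tower]
    refine indep_double s.hp2 s.hp (Kit.indep n (by omega)) (x := K.X ⟨n, by omega⟩) (K.X_fix_B _ le_rfl)
      fun w => ?_
    rw [show K.Yn n = K.Y ⟨n, by omega⟩ from K.Yn_eq ⟨n, by omega⟩]
    exact K.two.anticomm (by rw [K.pairs.comm, if_pos rfl]) w

theorem Kit.span [Fact p.Prime] {w : V}
    (hw : ∀ u ∈ K.sub, ∀ k ∈ Subgroup.center s.N, u • e = k • e → u • w = k • w) :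
    ∃ f, comb (d * 2 ^ c) (K.B c) f = w := by
  classical
  let P : ℕ → V → Prop := fun n w => (∀ u ∈ K.sub, ∀ k ∈ Subgroup.center s.N, u • e = k • e → u • w = k • w) ∧
    ∀ j : Fin c, n ≤ j → K.X j • w = w
  suffices h : ∀ n ≤ c, ∀ w, P n w → ∃ f, comb (d * 2 ^ n) (K.B n) f = w from
    h c le_rfl w ⟨hw, fun j hj => absurd j.2 (not_lt.2 hj)⟩
  intro n
  induction n with
  | zero =>
    intro _ w hw
    simp only [Kit.B, tower, pow_zero, mul_one]
    refine span_of_card s.hp K.bindep K.bmem K.bcard w fun u k hk hue => ?_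
    have hu : u ∈ s.line e := ⟨k, hk, hue⟩
    obtain ⟨t, ht, hte, htw, htY⟩ : ∃ t ∈ s.line e, t • e = e ∧ t • w = w ∧ ∀ j, ⁅u * t, K.Y j⁆ = 1 := by
      suffices ∀ S : Finset (Fin c), ∃ t ∈ s.line e, t • e = e ∧ t • w = w ∧ ∀ j ∈ S, ⁅u * t, K.Y j⁆ = 1 by
        obtain ⟨t, h1, h2, h3, h4⟩ := this Finset.univ
        exact ⟨t, h1, h2, h3, fun j => h4 j (Finset.mem_univ j)⟩
      intro S
      induction S using Finset.induction with
      | empty => exact ⟨1, one_mem _, one_smul _ _, one_smul _ _, by simp⟩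
      | insert a S ha ih =>
        obtain ⟨t, h1, h2, h3, h4⟩ := ih
        rcases K.two.commutator_cases (u * t) (K.Y a) with h5 | h5
        · exact ⟨t, h1, h2, h3, Finset.forall_mem_insert _ _ _ |>.2 ⟨h5, h4⟩⟩
        refine ⟨t * K.X a, mul_mem h1 (K.pairs.xmem a), by rw [mul_smul, K.pairs.xfix, h2],
          by rw [mul_smul, hw.2 a (Nat.zero_le _), h3], fun j hj => ?_⟩
        rw [← mul_assoc, Cfsg.Lib.PGroup.commutatorElement_mul_left s.hcl, K.pairs.comm]
        rcases Finset.mem_insert.1 hj with rfl | hj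
        · rw [h5, if_pos rfl, ← pow_two, K.two.sq]
        · rw [h4 j hj, if_neg (fun e' : a = j => ha (e'.symm ▸ hj)), one_mul]
    have h := hw.1 (u * t) (K.mem_sub.2 ⟨mul_mem hu ht, fun j => commutatorElement_eq_one_iff_mul_comm.1 (htY j)⟩)
      k hk (by rw [mul_smul, hte, hue])
    rwa [mul_smul, htw] at h
  | succ n ih =>
    intro hn w hw
    have hY : K.Yn n = K.Y ⟨n, by omega⟩ := K.Yn_eq ⟨n, by omega⟩
    rw [size_succ]
    simp only [Kit.B, tower, hY]
    refine span_double s.hp2 s.hp (x := K.X ⟨n, by omega⟩) (P (n + 1)) ?_ ?_ ?_ ?_ ?_ ?_ ?_ ?_ w hw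
    · rintro a b ⟨ha, ha'⟩ ⟨hb, hb'⟩
      exact ⟨fun u hu k hk h => by simp only [smul_add, ha u hu k hk h, hb u hu k hk h],
        fun j hj => by rw [smul_add, ha' j hj, hb' j hj]⟩
    · rintro r a ⟨ha, ha'⟩
      exact ⟨fun u hu k hk h => by rw [smul_comm, ha u hu k hk h, smul_comm],
        fun j hj => by rw [smul_comm, ha' j hj]⟩
    · rintro a ⟨ha, ha'⟩
      refine ⟨fun u hu k hk h => ?_, fun j hj => ?_⟩
      · rw [smul_comm_of (s.commute_of_mem_line K.ne (K.mem_sub.1 hu).1 (K.pairs.xmem _)), ha u hu k hk h,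
          ← s.comm_center hk]
      · rw [smul_comm_of (s.commute_of_mem_line K.ne (K.pairs.xmem _) (K.pairs.xmem _)), ha' j hj]
    · rintro a ⟨ha, ha'⟩
      refine ⟨fun u hu k hk h => ?_, fun j hj => ?_⟩
      · rw [smul_comm_of ((K.mem_sub.1 hu).2 _), ha u hu k hk h, ← s.comm_center hk]
      · rw [smul_comm_of (K.commute_Y j _ (fun e' => by rw [e'] at hj; simp at hj)), ha' j hj]
    · exact K.two.anticomm (by rw [K.pairs.comm, if_pos rfl])
    · exact fun a => by rw [smul_smul, ← pow_two, K.pairs.xsq, one_smul]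
    · exact fun a => by rw [smul_smul, ← pow_two, K.pairs.ysq, one_smul]
    · intro a ha hxa
      refine ih (by omega) a ⟨ha.1, fun j hj => ?_⟩
      rcases Nat.lt_or_eq_of_le hj with hlt | heq
      · exact ha.2 j hlt
      · rw [show j = ⟨n, by omega⟩ from Fin.ext heq.symm]; exact hxa

theorem toV_eq_comb {m : Cert.Model} (B : ℕ → V) (l : ℕ) :
    toV (m := m) (fun i => B i) l = Tower.comb m.n B (Cert.get l) := by
  simp only [toV, Tower.comb]
  exact Fin.sum_univ_eq_sum_range (fun i => Cert.get l i • B i) m.n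

theorem Kit.X_realises [Fact p.Prime] (i : Fin c) : Realises (d * 2 ^ c) (K.B c) (K.X i)
    (lift d (i + 1) (signM p (d * 2 ^ (i : ℕ))) (c - (i + 1))) := by
  have h : Realises (d * 2 ^ ((i : ℕ) + 1)) (K.B (i + 1)) (K.X i) (signM p (d * 2 ^ (i : ℕ))) := by
    rw [size_succ]
    simp only [Kit.B, tower, K.Yn_eq i]
    exact realises_sign s.hp (Fact.out : p.Prime).pos (K.X_fix_B i le_rfl)
      (K.two.anticomm (by rw [K.pairs.comm, if_pos rfl]))
  have h' := realises_lift h (c - (i + 1)) fun k hk1 hk2 w => by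
    rw [show K.Yn k = K.Y ⟨k, by omega⟩ from K.Yn_eq ⟨k, by omega⟩]
    exact smul_comm_of (K.commute_Y _ _ (fun e' => by simp [Fin.ext_iff] at e'; omega)) w
  rwa [Nat.add_sub_cancel' (by omega)] at h'

theorem Kit.Y_realises (i : Fin c) : Realises (d * 2 ^ c) (K.B c) (K.Y i)
    (lift d (i + 1) (swapM (d * 2 ^ (i : ℕ))) (c - (i + 1))) := by
  have h : Realises (d * 2 ^ ((i : ℕ) + 1)) (K.B (i + 1)) (K.Y i) (swapM (d * 2 ^ (i : ℕ))) := by
    rw [size_succ]
    simp only [Kit.B, tower, K.Yn_eq i]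
    exact realises_swap fun w => by rw [smul_smul, ← pow_two, K.pairs.ysq, one_smul]
  have h' := realises_lift h (c - (i + 1)) fun k hk1 hk2 w => by
    rw [show K.Yn k = K.Y ⟨k, by omega⟩ from K.Yn_eq ⟨k, by omega⟩]
    exact smul_comm_of (K.commute_YY _ _) w
  rwa [Nat.add_sub_cancel' (by omega)] at h'

theorem Kit.base_realises {g : s.N} (hg : g ∈ Subgroup.center s.N ∨ g ∈ K.J) {M : ℕ → ℕ → ℕ}
    (h : Realises d K.β g M) : Realises (d * 2 ^ c) (K.B c) g (lift d 0 M c) := by
  have h0 : Realises (d * 2 ^ 0) (K.B 0) g M := by simpa [Kit.B, tower] using h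
  have h' := realises_lift h0 c fun k _ hk w => by
    rw [show K.Yn k = K.Y ⟨k, by omega⟩ from K.Yn_eq ⟨k, by omega⟩]
    refine smul_comm_of ?_ w
    rcases hg with hg | hg
    · exact (Subgroup.mem_center_iff.1 hg _).symm
    · exact commutatorElement_eq_one_iff_mul_comm.1 (K.pairs.ymid _ g hg)
  rw [Nat.zero_add] at h'
  exact h'

/-- A realised model from generators with the right matrices. -/
theorem Kit.real [Fact p.Prime] (m : Cert.Model) (hmn : m.n = d * 2 ^ c) (hmp : m.p = p) (hwf : wf m = true)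
    (htab : tableOK m = true) (hdist : distinctB m = true) (hcard : m.table.length = 2 ^ (2 * c + K.J.length) * s.z)
    {gens : List s.N} (hops : List.Forall₂ (fun g o => (∀ u ∈ K.sub, Commute g u) ∧
      ∃ M, Realises (d * 2 ^ c) (K.B c) g M ∧ matchB m M o = true) gens m.ops) :
    ∃ R : s.Real m, R.sub = K.sub := by
  classical
  obtain ⟨h0, h16, hwell⟩ := wf_iff hwf
  have h1 : 1 < m.p := hmp ▸ (Fact.out : p.Prime).one_lt
  have hpV : ∀ w : V, m.p • w = 0 := fun w => by rw [hmp]; exact s.hp w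
  set b : Fin m.n → V := fun i => K.B c i with hb
  have hinj : ∀ l l', Canon m.p m.n l → Canon m.p m.n l' → toV b l = toV b l' → l = l' := by
    intro l l' hl hl' h
    rw [hb, toV_eq_comb, toV_eq_comb] at h
    refine ext_get hl.1 hl'.1 fun i hi => ?_
    have h2 : Tower.comb m.n (K.B c) (Cert.get l + fun j => (m.p - 1) * Cert.get l' j) = 0 := by
      rw [comb_add, comb_nsmul, h]
      nth_rewrite 1 [← one_nsmul (Tower.comb m.n (K.B c) (Cert.get l'))]
      rw [← add_smul, Nat.add_sub_cancel' h0, hpV]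
    rw [hmn] at h2
    have h3 : m.p ∣ Cert.get l i + (m.p - 1) * Cert.get l' i := hmp ▸ K.indep c le_rfl _ h2 i (hmn ▸ hi)
    have h4 : Cert.get l i ≡ Cert.get l' i [MOD m.p] := by
      refine Nat.ModEq.add_right_cancel' ((m.p - 1) * Cert.get l' i) ?_
      refine (Nat.modEq_zero_iff_dvd.2 h3).trans ((Nat.modEq_zero_iff_dvd.2 ?_).symm)
      refine ⟨Cert.get l' i, ?_⟩
      rw [Nat.sub_mul, one_mul, Nat.add_sub_cancel' (Nat.le_mul_of_pos_left _ h0)]
    exact Nat.ModEq.eq_of_lt_of_lt h4 (hl.2 i hi) (hl'.2 i hi)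
  have hmem : ∀ u ∈ K.sub, ∃ k ∈ Subgroup.center s.N, u • e = k • e := fun u hu => (K.mem_sub.1 hu).1
  have hscal : ∀ u ∈ K.sub, ∀ k ∈ Subgroup.center s.N, u • e = k • e → ∀ i, u • b i = k • b i :=
    fun u hu k hk h i => K.smul_B hk h c (fun j _ => (K.mem_sub.1 hu).2 j) le_rfl i (hmn ▸ i.2)
  -- generators on canonical vectors
  have hone : ∀ (g : s.N) (o : Op), o ∈ m.ops → (∃ M, Realises (d * 2 ^ c) (K.B c) g M ∧ matchB m M o = true) →
      ∀ l, g • toV b l = toV b (app m.p o l) := by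
    rintro g o ho ⟨M, hM, hmatch⟩ l
    obtain ⟨hol, horow⟩ := hwell o (List.mem_append_left _ ho)
    refine realises_of_basis hpV h0 h16 hol horow (DistribSMul.toAddMonoidHom V g) (fun i => ?_) l
    simp only [matchB, List.all_eq_true, List.mem_range, beq_iff_eq] at hmatch
    rw [hmatch i i.2, toV_packAt hpV h0 h16, DistribSMul.toAddMonoidHom_apply, hb]
    refine (hM i (hmn ▸ i.2)).trans ?_
    rw [← hmn]
    exact (Fin.sum_univ_eq_sum_range (fun j => M j i • K.B c j) m.n).symm
  have hgen : List.Forall₂ (fun g o => (∀ u ∈ K.sub, Commute g u) ∧ ∀ l, g • toV b l = toV b (app m.p o l))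
      gens m.ops := by
    have aux : ∀ (L : List s.N) (os : List Op), os ⊆ m.ops →
        List.Forall₂ (fun g o => (∀ u ∈ K.sub, Commute g u) ∧
          ∃ M, Realises (d * 2 ^ c) (K.B c) g M ∧ matchB m M o = true) L os →
        List.Forall₂ (fun g o => (∀ u ∈ K.sub, Commute g u) ∧ ∀ l, g • toV b l = toV b (app m.p o l)) L os := by
      intro L os hsub h
      induction h with
      | nil => exact List.Forall₂.nil
      | @cons g o L os hgo _ ih =>
        refine List.Forall₂.cons ?_ (ih fun x hx => hsub (List.mem_cons_of_mem _ hx))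
        exact ⟨hgo.1, hone g o (hsub List.mem_cons_self) hgo.2⟩
    exact aux _ _ (List.Subset.refl _) hops
  have hact : ∀ (k : ℕ), ∃ x : s.N, (∀ u ∈ K.sub, Commute x u) ∧ ∀ l, x • toV b l = toV b (act m.p m.ops k l) := by
    have aux : ∀ (L : List s.N) (os : List Op),
        List.Forall₂ (fun g o => (∀ u ∈ K.sub, Commute g u) ∧ ∀ l, g • toV b l = toV b (app m.p o l)) L os →
        ∀ k, ∃ x : s.N, (∀ u ∈ K.sub, Commute x u) ∧ ∀ l, x • toV b l = toV b (act m.p os k l) := by
      intro L os h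
      induction h with
      | nil => exact fun k => ⟨1, fun u _ => Commute.one_left u, fun l => by rw [one_smul, act]⟩
      | @cons g o L os hgo _ ih =>
        intro k
        by_cases hk : k % 2 = 1
        · obtain ⟨x, hx, hxl⟩ := ih (k / 2)
          refine ⟨x * g, fun u hu => (hx u hu).mul_left (hgo.1 u hu), fun l => ?_⟩
          rw [mul_smul, hgo.2, hxl, act, force_eq]
          simp [hk]
        · obtain ⟨x, hx, hxl⟩ := ih (k / 2)
          refine ⟨x, hx, fun l => ?_⟩
          rw [hxl, act, force_eq]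
          simp [hk]
    exact aux _ _ hgen
  simp only [tableOK, Bool.and_eq_true, decide_eq_true_eq, List.all_eq_true, List.mem_range, beq_iff_eq] at htab
  have hhit : ∀ o ∈ m.table, ∃ x : s.N, (∀ u ∈ K.sub, Commute x u) ∧ ∀ l, x • toV b l = toV b (app m.p o l) := by
    intro o ho
    obtain ⟨k, hk, rfl⟩ := List.mem_iff_getElem.1 ho
    obtain ⟨x, hx, hxl⟩ := hact k
    obtain ⟨hol, horow⟩ := hwell _ (List.mem_append_right _ ho)
    refine ⟨x, hx, fun l => realises_of_basis hpV h0 h16 hol horow (DistribSMul.toAddMonoidHom V x) (fun i => ?_) l⟩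
    rw [DistribSMul.toAddMonoidHom_apply, ← toV_pow (b := b) i, hxl, ← htab.2 k hk i i.2,
      List.getD_eq_getElem m.table [] hk]
  -- counting the actions
  let S := {f : Fin m.n → V // ∃ x : s.N, (∀ u ∈ K.sub, Commute x u) ∧ ∀ i, x • b i = f i}
  let gs : Fin c ⊕ Fin c ⊕ Fin K.J.length → s.N := Sum.elim K.X (Sum.elim K.Y fun j => K.J[j])
  have hzero : ∀ x : s.N, (∀ u ∈ K.sub, Commute x u) → (∀ t, ⁅x, gs t⁆ = 1) →
      ∃ k ∈ Subgroup.center s.N, ∀ i, x • b i = k • b i := by
    intro x hx hall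
    have hxm : x ∈ s.mid e := s.mem_mid.2 fun u hu => by
      obtain ⟨t, ht, htY, htx⟩ : ∃ t ∈ s.line e, (∀ j, ⁅u * t, K.Y j⁆ = 1) ∧ Commute x t := by
        suffices ∀ T : Finset (Fin c), ∃ t ∈ s.line e, (∀ j ∈ T, ⁅u * t, K.Y j⁆ = 1) ∧ Commute x t by
          obtain ⟨t, h1, h2, h3⟩ := this Finset.univ
          exact ⟨t, h1, fun j => h2 j (Finset.mem_univ j), h3⟩
        intro T
        induction T using Finset.induction with
        | empty => exact ⟨1, one_mem _, by simp, Commute.one_right x⟩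
        | insert a T ha ih =>
          obtain ⟨t, h1, h2, h3⟩ := ih
          rcases K.two.commutator_cases (u * t) (K.Y a) with h5 | h5
          · exact ⟨t, h1, Finset.forall_mem_insert _ _ _ |>.2 ⟨h5, h2⟩, h3⟩
          refine ⟨t * K.X a, mul_mem h1 (K.pairs.xmem a), fun j hj => ?_,
            h3.mul_right (commutatorElement_eq_one_iff_mul_comm.1 (hall (Sum.inl a)))⟩
          rw [← mul_assoc, Cfsg.Lib.PGroup.commutatorElement_mul_left s.hcl, K.pairs.comm]
          rcases Finset.mem_insert.1 hj with rfl | hj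
          · rw [h5, if_pos rfl, ← pow_two, K.two.sq]
          · rw [h2 j hj, if_neg (fun e' : a = j => ha (e'.symm ▸ hj)), one_mul]
      have h : Commute x (u * t) :=
        hx _ (K.mem_sub.2 ⟨mul_mem hu ht, fun j => commutatorElement_eq_one_iff_mul_comm.1 (htY j)⟩)
      have h' := h.mul_right htx.inv_right
      rw [mul_assoc, mul_inv_cancel, mul_one] at h'
      exact h'.symm.eq
    have hline : x ∈ s.line e := K.jlast x hxm fun g hg => by
      obtain ⟨j, hj, rfl⟩ := List.mem_iff_getElem.1 hg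
      rw [K.two.commutator_comm]
      exact hall (Sum.inr (Sum.inr ⟨j, hj⟩))
    have hY : ∀ j, Commute x (K.Y j) := fun j => commutatorElement_eq_one_iff_mul_comm.1 (hall (Sum.inr (Sum.inl j)))
    obtain ⟨k, hk, hke⟩ := hline
    exact ⟨k, hk, hscal x (K.mem_sub.2 ⟨⟨k, hk, hke⟩, hY⟩) k hk hke⟩
  have hS : Nat.card S ≤ m.table.length := by
    let sig : s.N → Fin c ⊕ Fin c ⊕ Fin K.J.length → Bool := fun x t => decide (⁅x, gs t⁆ = 1)
    let rep : (Fin c ⊕ Fin c ⊕ Fin K.J.length → Bool) → s.N := fun σ =>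
      if h : ∃ x : s.N, (∀ u ∈ K.sub, Commute x u) ∧ sig x = σ then h.choose else 1
    let φ : (Fin c ⊕ Fin c ⊕ Fin K.J.length → Bool) × Subgroup.center s.N → Fin m.n → V :=
      fun q i => rep q.1 • (q.2 : s.N) • b i
    have hsurj : ∀ f : S, ∃ q, φ q = f.1 := by
      rintro ⟨f, x, hx, hxf⟩
      have hex : ∃ y : s.N, (∀ u ∈ K.sub, Commute y u) ∧ sig y = sig x := ⟨x, hx, rfl⟩
      obtain ⟨hy, hysig⟩ := hex.choose_spec
      have hrep : rep (sig x) = hex.choose := dif_pos hex
      obtain ⟨k, hk, hkb⟩ := hzero (hex.choose⁻¹ * x) (fun u hu => (hy u hu).inv_left.mul_left (hx u hu)) fun t => by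
        rw [Cfsg.Lib.PGroup.commutatorElement_mul_left s.hcl]
        have h1 : decide (⁅hex.choose, gs t⁆ = 1) = decide (⁅x, gs t⁆ = 1) := congrFun hysig t
        rw [decide_eq_decide] at h1
        have h2 : ⁅hex.choose⁻¹, gs t⁆ = ⁅hex.choose, gs t⁆⁻¹ := by
          refine eq_inv_of_mul_eq_one_left ?_
          rw [← Cfsg.Lib.PGroup.commutatorElement_mul_left s.hcl, inv_mul_cancel, commutatorElement_one_left]
        rw [h2]
        rcases K.two.commutator_cases x (gs t) with h3 | h3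
        · rw [h3, h1.2 h3, inv_one, one_mul]
        · rcases K.two.commutator_cases hex.choose (gs t) with h4 | h4
          · exact absurd ((h1.1 h4).symm.trans h3).symm K.two.ne
          · rw [h3, h4, inv_mul_cancel]
      refine ⟨(sig x, ⟨k, hk⟩), funext fun i => ?_⟩
      simp only [φ, hrep]
      rw [← hkb, smul_smul, mul_inv_cancel_left, hxf]
    choose q hq using hsurj
    refine (Nat.card_le_card_of_injective q fun f g h => Subtype.ext (by rw [← hq f, ← hq g, h])).trans_eq ?_
    rw [Nat.card_prod, Nat.card_fun, Nat.card_sum, Nat.card_sum, Nat.card_fin, Nat.card_fin, hcard,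
      show Nat.card Bool = 2 by simp, two_mul, add_assoc]
    rfl
  choose xo hxo hxol using hhit
  let ψ : Fin m.table.length → S := fun k =>
    ⟨fun i => toV b (app m.p m.table[k] (16 ^ (i : ℕ))), xo _ (List.getElem_mem k.2), hxo _ _, fun i => by
      conv_lhs => rw [← toV_pow (b := b) i]
      exact hxol _ _ _⟩
  have hψ : Function.Injective ψ := by
    intro k k' h
    simp only [distinctB, decide_eq_true_eq] at hdist
    refine Fin.ext ((hdist.getElem_inj_iff (hi := by simp) (hj := by simp)).1 ?_)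
    simp only [List.getElem_map]
    refine List.map_congr_left fun i hi => ?_
    have hi' := List.mem_range.1 hi
    exact hinj _ _ (canon_app h0 h16 (hwell _ (List.mem_append_right _ (List.getElem_mem k.2))).1 _)
      (canon_app h0 h16 (hwell _ (List.mem_append_right _ (List.getElem_mem k'.2))).1 _)
      (congrFun (congrArg Subtype.val h) ⟨i, hi'⟩)
  haveI := Fintype.ofFinite S
  have hbij : Function.Bijective ψ := (Fintype.bijective_iff_injective_and_card ψ).2
    ⟨hψ, le_antisymm (Fintype.card_le_of_injective ψ hψ) (by rw [← Nat.card_eq_fintype_card, Fintype.card_fin]; exact hS)⟩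
  refine ⟨{
    b := b
    sub := K.sub
    center_le := fun k hk => K.mem_sub.2 ⟨s.center_le_line e hk, fun j => (Subgroup.mem_center_iff.1 hk _).symm⟩
    scalar := fun u hu => by
      obtain ⟨k, hk, h⟩ := hmem u hu
      exact ⟨k, hk, hscal u hu k hk h⟩
    inj := hinj
    spanned := fun w hw => by
      obtain ⟨f, hf⟩ := K.span (w := w) fun u hu k hk h => hw u hu k hk (hscal u hu k hk h)
      refine ⟨packAt m.p m.n f, ⟨packAt_lt h0 h16 _ _, fun i hi => ?_⟩, ?_⟩
      · rw [get_packAt h0 h16 _ _ _ hi]; exact Nat.mod_lt _ h0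
      · rw [toV_packAt hpV h0 h16, ← hf, hb, ← hmn]
        exact Fin.sum_univ_eq_sum_range (fun j => f j • K.B c j) m.n
    dec := fun x hx => by
      obtain ⟨k, hk⟩ := hbij.2 ⟨fun i => x • b i, x, hx, fun i => rfl⟩
      refine ⟨m.table[k], List.getElem_mem k.2, fun l => ?_⟩
      obtain ⟨hol, horow⟩ := hwell _ (List.mem_append_right _ (List.getElem_mem k.2))
      exact realises_of_basis hpV h0 h16 hol horow (DistribSMul.toAddMonoidHom V x)
        (fun i => (congrFun (congrArg Subtype.val hk) i).symm) l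
    hit := fun o ho => ⟨xo o ho, hxo o ho, hxol o ho⟩
    prime := hmp
    wellFormed := hwf }, rfl⟩

end Setting

end Cfsg.Lib.CoprimeBase
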