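import Cfsg.Agent.Lib.CoprimeBase.Count
import Cfsg.Agent.Lib.Core.Cores
import Mathlib.GroupTheory.SchurZassenhaus
import Mathlib.GroupTheory.Nilpotent

/-!
From pairs in coprime actions of soluble groups to three conjugates of a Hall subgroup of a `π`-soluble group
meeting in `O_π`.
-/

set_option autoImplicit false
set_option linter.unusedSectionVars false
set_option linter.style.haveILetI false

namespace Cfsg.Lib.CoprimeBase

open MulAction
open scoped Pointwise

universe u

/-- A normal series from `1` to the group whose factors are `p`-groups for `p` in `π`, or `π'`-groups. -/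
def PiChain (π : Set ℕ) (G : Type u) [Group G] : Prop :=
  ∃ (n : ℕ) (N : Fin (n + 1) → Subgroup G), N 0 = ⊥ ∧ N (Fin.last n) = ⊤ ∧ Monotone N ∧ (∀ i, (N i).Normal) ∧
    ∀ i : Fin n, (∃ p ∈ π, p.Prime ∧ ∃ k : ℕ, (N i.castSucc).relIndex (N i.succ) = p ^ k) ∨
      (∀ q : ℕ, q.Prime → q ∣ (N i.castSucc).relIndex (N i.succ) → q ∉ π)

theorem relIndex_map_dvd {G G' : Type*} [Group G] [Group G'] (f : G →* G') (A B : Subgroup G) :
    (A.map f).relIndex (B.map f) ∣ A.relIndex B := by
  have h := Subgroup.index_map_dvd (H := A.subgroupOf B) (f := f.subgroupMap B) (f.subgroupMap_surjective B)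
  refine dvd_trans ?_ h
  refine Subgroup.index_dvd_of_le ?_
  rintro _ ⟨a, ha, rfl⟩
  exact ⟨(a : G), ha, rfl⟩

theorem PiChain.map {π : Set ℕ} {G G' : Type u} [Group G] [Group G'] (h : PiChain π G) (f : G →* G')
    (hf : Function.Surjective f) : PiChain π G' := by
  obtain ⟨n, N, h0, h1, hmono, hn, hfac⟩ := h
  refine ⟨n, fun i => (N i).map f, ?_, ?_, fun i j hij => Subgroup.map_mono (hmono hij),
    fun i => (hn i).map f hf, fun i => ?_⟩
  · show (N 0).map f = ⊥
    rw [h0, Subgroup.map_bot]
  · show (N (Fin.last n)).map f = ⊤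
    rw [h1, Subgroup.map_top_of_surjective f hf]
  rcases hfac i with ⟨p, hp, hpp, k, hk⟩ | hq
  · obtain ⟨j, -, hj⟩ := (Nat.dvd_prime_pow hpp).1 (hk ▸ relIndex_map_dvd f (N i.castSucc) (N i.succ))
    exact Or.inl ⟨p, hp, hpp, j, hj⟩
  · exact Or.inr fun q hqp hd => hq q hqp (hd.trans (relIndex_map_dvd f _ _))

variable {G : Type u} [Group G] [Finite G] {π : Set ℕ}

theorem isSolvable_of_piSub (hch : PiChain π G) {H : Subgroup G} (hH : Core.IsPiSub π H) :
    Group.IsSolvable H := by
  obtain ⟨n, N, h0, h1, hmono, hn, hfac⟩ := hch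
  suffices h : ∀ i : Fin (n + 1), Group.IsSolvable (N i ⊓ H : Subgroup G) by
    have := h (Fin.last n)
    rw [h1, top_inf_eq] at this
    exact this
  intro i
  induction i using Fin.induction with
  | zero => rw [h0, bot_inf_eq]; exact Group.isSolvable_of_comm fun a b => Subsingleton.elim _ _
  | succ i ih =>
    haveI := ih
    haveI := hn i.castSucc
    let f : (N i.succ ⊓ H : Subgroup G) →* G ⧸ N i.castSucc :=
      (QuotientGroup.mk' _).comp (Subgroup.subtype _)
    haveI hrange : Group.IsSolvable f.range := by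
      have hd1 : Nat.card f.range ∣ (N i.castSucc).relIndex (N i.succ) := by
        have hker := Subgroup.relIndex_ker (N i.succ) (QuotientGroup.mk' (N i.castSucc))
        rw [QuotientGroup.ker_mk'] at hker
        rw [hker]
        refine Subgroup.card_dvd_of_le (K := (N i.succ).map (QuotientGroup.mk' _)) ?_
        rintro _ ⟨x, rfl⟩
        exact ⟨x, x.2.1, rfl⟩
      have hd2 : Nat.card f.range ∣ Nat.card H :=
        (Subgroup.card_range_dvd f).trans (Subgroup.card_dvd_of_le inf_le_right)
      rcases hfac i with ⟨p, -, hpp, k, hk⟩ | hq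
      · haveI := Fact.mk hpp
        obtain ⟨j, -, hj⟩ := (Nat.dvd_prime_pow hpp).1 (hk ▸ hd1)
        haveI := (IsPGroup.of_card (n := j) hj).isNilpotent
        infer_instance
      · have h1 : Nat.card f.range = 1 := by
          by_contra hne
          obtain ⟨q, hqp, hqd⟩ := Nat.exists_prime_and_dvd hne
          exact hq q hqp (hqd.trans hd1) (hH q hqp (hqd.trans hd2))
        haveI := (Nat.card_eq_one_iff_unique.1 h1).1
        exact Group.isSolvable_of_comm fun a b => Subsingleton.elim _ _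
    haveI hkers : Group.IsSolvable f.ker := by
      have hle : ∀ x : f.ker, ((x : (N i.succ ⊓ H : Subgroup G)) : G) ∈ N i.castSucc ⊓ H := fun x =>
        ⟨(QuotientGroup.eq_one_iff _).1 x.2, x.1.2.2⟩
      let g : f.ker →* (N i.castSucc ⊓ H : Subgroup G) :=
        (Subgroup.subtype _ |>.comp f.ker.subtype).codRestrict _ hle
      exact Group.isSolvable_of_isSolvable_injective (f := g) fun x y hxy =>
        Subtype.ext (Subtype.ext (congrArg (fun z : (N i.castSucc ⊓ H : Subgroup G) => (z : G)) hxy))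
    exact Group.isSolvable_of_ker_le_range f.ker.subtype f.rangeRestrict (by
      intro x hx
      exact ⟨⟨x, congrArg Subtype.val hx⟩, rfl⟩)

/-- Hall–Higman: if `O_π = 1`, the centraliser of `O_π'` is contained in it. -/
theorem centralizer_piCore_compl_le (hch : PiChain π G) (h : Cfsg.piCore π G = ⊥) :
    Subgroup.centralizer (Cfsg.piCore πᶜ G : Set G) ≤ Cfsg.piCore πᶜ G := by
  set K := Cfsg.piCore πᶜ G with hK
  set C := Subgroup.centralizer (K : Set G) with hC
  haveI hCn : C.Normal := Subgroup.normal_centralizer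
  obtain ⟨n, N, h0, h1, hmono, hn, hfac⟩ := hch
  suffices hs : ∀ i : Fin (n + 1), C ⊓ N i ≤ K by
    have := hs (Fin.last n)
    rwa [h1, inf_top_eq] at this
  intro i
  induction i using Fin.induction with
  | zero => rw [h0, inf_bot_eq]; exact bot_le
  | succ i ih =>
    haveI := hn i.castSucc
    haveI := hn i.succ
    set D := C ⊓ N i.succ with hD
    haveI hDn : D.Normal := Subgroup.normal_inf_normal _ _
    have hle : C ⊓ N i.castSucc ≤ D ⊓ K :=
      le_inf (inf_le_inf_left C (hmono i.castSucc_le_succ)) ih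
    have hdvd : (D ⊓ K).relIndex D ∣ (N i.castSucc).relIndex (N i.succ) := by
      refine (Subgroup.relIndex_dvd_of_le_left D hle).trans ?_
      have hker : ∀ L : Subgroup G,
          (N i.castSucc).relIndex L = Nat.card (L.map (QuotientGroup.mk' (N i.castSucc))) := fun L => by
        rw [← Subgroup.relIndex_ker, QuotientGroup.ker_mk']
      rw [hker (N i.succ)]
      rw [show (C ⊓ N i.castSucc).relIndex D = (N i.castSucc).relIndex D by
        rw [← Subgroup.inf_relIndex_right (N i.castSucc) D]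
        congr 1
        rw [hD, ← inf_assoc, inf_comm (N i.castSucc) C, inf_assoc,
          inf_eq_left.2 (hmono i.castSucc_le_succ)]]
      rw [hker D]
      exact Subgroup.card_dvd_of_le (K := (N i.succ).map _) (Subgroup.map_mono inf_le_right)
    have hidx : Nat.card D = Nat.card (D ⊓ K : Subgroup G) * (D ⊓ K).relIndex D := by
      rw [← Subgroup.card_mul_index ((D ⊓ K).subgroupOf D),
        Nat.card_congr (Subgroup.subgroupOfEquivOfLe (inf_le_left : D ⊓ K ≤ D)).toEquiv]
      rfl
    rcases hfac i with ⟨p, hpπ, hpp, k, hk⟩ | hq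
    · haveI := Fact.mk hpp
      obtain ⟨j, -, hj⟩ := (Nat.dvd_prime_pow hpp).1 (hk ▸ hdvd)
      have hpK : ∀ q : ℕ, q.Prime → q ∣ Nat.card (D ⊓ K : Subgroup G) → q ∉ π := fun q hq hd =>
        (Core.piCore_isPiSub πᶜ G).mono inf_le_right q hq hd
      have hcop : (Nat.card ((D ⊓ K).subgroupOf D)).Coprime ((D ⊓ K).subgroupOf D).index := by
        show (Nat.card ((D ⊓ K).subgroupOf D)).Coprime ((D ⊓ K).relIndex D)
        rw [Nat.card_congr (Subgroup.subgroupOfEquivOfLe (inf_le_left : D ⊓ K ≤ D)).toEquiv, hj]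
        exact Nat.Coprime.pow_right j ((hpp.coprime_iff_not_dvd).2 fun hd => hpK p hpp hd hpπ).symm
      obtain ⟨P, hP⟩ := Subgroup.exists_right_complement'_of_coprime hcop
      have hPc : Nat.card P = p ^ j := by
        rw [← hP.symm.index_eq_card]; exact hj
      -- the complement consists of the elements killed by its order
      have hchar : ∀ d : D, d ^ Nat.card P = 1 → d ∈ P := by
        intro d hd
        have hmul : d ∈ (((D ⊓ K).subgroupOf D : Set D) * (P : Set D)) := by
          rw [Subgroup.IsComplement.mul_eq hP]; trivial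
        obtain ⟨z, hz, x, hx, rfl⟩ := hmul
        have hzx : Commute z x := Subtype.ext
          (Subgroup.mem_centralizer_iff.1 x.2.1 (z : G) hz.2)
        have hz1 : z ^ Nat.card P = 1 := by
          have := hd
          rw [hzx.mul_pow, show x ^ Nat.card P = 1 from congrArg Subtype.val
            (pow_card_eq_one' (x := (⟨x, hx⟩ : P))), mul_one] at this
          exact this
        have hz2 : z ^ Nat.card ((D ⊓ K).subgroupOf D) = 1 := congrArg Subtype.val
          (pow_card_eq_one' (x := (⟨z, hz⟩ : (D ⊓ K).subgroupOf D)))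
        have hcop' : (Nat.card ((D ⊓ K).subgroupOf D)).Coprime (Nat.card P) := by
          rw [← hP.symm.index_eq_card]; exact hcop
        have := pow_gcd_eq_one.2 ⟨hz2, hz1⟩
        rw [hcop', pow_one] at this
        show z * x ∈ P
        rw [this, one_mul]
        exact hx
      have hPn : (P.map D.subtype).Normal := ⟨fun x hx g => by
        obtain ⟨d, hd, rfl⟩ := hx
        refine ⟨⟨g * d * g⁻¹, hDn.conj_mem _ d.2 g⟩, hchar _ (Subtype.ext ?_), rfl⟩
        show (g * d * g⁻¹) ^ Nat.card P = 1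
        rw [conj_pow, show (d : G) ^ Nat.card P = 1 from congrArg (fun x : P => ((x : D) : G))
          (pow_card_eq_one' (x := (⟨d, hd⟩ : P))), mul_one, mul_inv_cancel]⟩
      have hP1 : Nat.card P = 1 := by
        have hpi : Core.IsPiSub π (P.map D.subtype) := fun q hq hd => by
          rw [Subgroup.card_map_of_injective D.subtype_injective, hPc] at hd
          rwa [(Nat.prime_dvd_prime_iff_eq hq hpp).1 (hq.dvd_of_dvd_pow hd)]
        have h2 := Core.le_piCore' hPn hpi
        rw [h, le_bot_iff, Subgroup.map_eq_bot_iff, D.ker_subtype, le_bot_iff] at h2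
        rw [h2, Subgroup.card_bot]
      rw [hPc] at hP1
      rw [hj, hP1, mul_one] at hidx
      exact (Subgroup.eq_of_le_of_card_ge (inf_le_left : D ⊓ K ≤ D) hidx.le).ge.trans inf_le_right
    · refine Core.le_piCore' hDn fun q hqp hd => ?_
      rw [hidx] at hd
      rcases hqp.dvd_mul.1 hd with h2 | h2
      · exact (Core.piCore_isPiSub πᶜ G).mono inf_le_right q hqp h2
      · exact hq q hqp (h2.trans hdvd)

/-- Three conjugates of a Hall subgroup meeting in `O_π`. -/
theorem hall_three_conjugates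
    (hpair : ∀ (A K : Type u) [Group A] [Finite A] [Group K] [Finite K] [MulDistribMulAction A K],
      Group.IsSolvable A → (Nat.card A).Coprime (Nat.card K) → HasPair A K)
    (hch : PiChain π G) (H : Subgroup G) (hH : Cfsg.IsPiHall π H) :
    ∃ x y : G, H ⊓ MulAut.conj x • H ⊓ MulAut.conj y • H = Cfsg.piCore π G := by
  set O := Cfsg.piCore π G with hO
  have hOH : O ≤ H := by
    have hpiHO : Core.IsPiSub π (H ⊔ O : Subgroup G) := Core.IsPiSub.sup hH.1 (Core.piCore_isPiSub π G)
    have h2 : H.relIndex (H ⊔ O) = 1 := by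
      by_contra hne
      obtain ⟨q, hq, hd⟩ := Nat.exists_prime_and_dvd hne
      exact hH.2 q hq (hpiHO q hq (hd.trans (Subgroup.relIndex_dvd_card H (H ⊔ O))))
        (hd.trans (Subgroup.relIndex_dvd_index_of_le le_sup_left))
    exact le_sup_right.trans (Subgroup.relIndex_eq_one.1 h2)
  let f := QuotientGroup.mk' O
  have hsurj : Function.Surjective f := QuotientGroup.mk'_surjective O
  have hfker : f.ker = O := QuotientGroup.ker_mk' O
  set H' := H.map f with hH'
  have hO' : Cfsg.piCore π (G ⧸ O) = ⊥ := Core.piCore_quotient_eq_bot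
  have hpi' : Core.IsPiSub π H' := Core.IsPiSub.map hH.1 f
  set K := Cfsg.piCore πᶜ (G ⧸ O) with hKdef
  have hKH : ∀ g, g ∈ K → g ∈ H' → g = 1 := by
    intro g hg hg'
    by_contra hne
    obtain ⟨q, hq, hd⟩ := Nat.exists_prime_and_dvd (mt orderOf_eq_one_iff.1 hne)
    exact (Core.piCore_isPiSub πᶜ (G ⧸ O) q hq (hd.trans (Subgroup.orderOf_dvd_natCard _ hg)))
      (hpi' q hq (hd.trans (Subgroup.orderOf_dvd_natCard _ hg')))
  letI : MulDistribMulAction H' K := MulDistribMulAction.compHom K
    ((MulAut.conjNormal : (G ⧸ O) →* MulAut K).comp H'.subtype)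
  have hsmul : ∀ (a : H') (k : K), ((a • k : K) : G ⧸ O) = (a : G ⧸ O) * k * (a : G ⧸ O)⁻¹ :=
    fun a k => MulAut.conjNormal_apply _ _
  have hcop : (Nat.card H').Coprime (Nat.card K) := by
    refine Nat.coprime_of_dvd fun q hq h1 h2 => ?_
    exact Core.piCore_isPiSub πᶜ (G ⧸ O) q hq h2 (hpi' q hq h1)
  obtain ⟨x, y, hxy⟩ := hpair H' K (isSolvable_of_piSub (hch.map f hsurj) hpi') hcop
  obtain ⟨x₀, hx₀⟩ := hsurj x
  obtain ⟨y₀, hy₀⟩ := hsurj y
  refine ⟨x₀, y₀, le_antisymm ?_ ?_⟩
  · rintro g ⟨⟨hg, hgx⟩, hgy⟩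
    have key : ∀ (z : K) (z₀ : G), f z₀ = z → g ∈ MulAut.conj z₀ • H →
        (⟨f g, g, hg, rfl⟩ : H') • z = z := by
      intro z z₀ hz hgz
      obtain ⟨h, hh, rfl⟩ := hgz
      have e : f ((MulAut.conj z₀) h) = (z : G ⧸ O) * f h * (z : G ⧸ O)⁻¹ := by
        rw [← hz, MulAut.conj_apply, map_mul, map_mul, map_inv]
      have h1 : f ((MulAut.conj z₀) h) * (f h)⁻¹ = 1 := by
        refine hKH _ ?_ (mul_mem ⟨_, hg, rfl⟩ (inv_mem ⟨h, hh, rfl⟩))
        rw [e, show (z : G ⧸ O) * f h * (z : G ⧸ O)⁻¹ * (f h)⁻¹ =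
          (z : G ⧸ O) * (f h * (z : G ⧸ O)⁻¹ * (f h)⁻¹) by group]
        exact mul_mem z.2 ((inferInstance : K.Normal).conj_mem _ (inv_mem z.2) _)
      rw [mul_inv_eq_one] at h1
      refine Subtype.ext ?_
      rw [hsmul]
      show f ((MulAut.conj z₀) h) * (z : G ⧸ O) * (f ((MulAut.conj z₀) h))⁻¹ = z
      have h2 : f h = (z : G ⧸ O) * f h * (z : G ⧸ O)⁻¹ := h1.symm.trans e
      rw [h1, mul_inv_eq_iff_eq_mul]
      nth_rewrite 1 [h2]
      group
    have hfix := hxy ⟨f g, g, hg, rfl⟩ (key x x₀ hx₀ hgx) (key y y₀ hy₀ hgy)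
    have hcen : f g ∈ Subgroup.centralizer (K : Set (G ⧸ O)) := Subgroup.mem_centralizer_iff.2 fun k hk => by
      have := congrArg Subtype.val (hfix ⟨k, hk⟩)
      rw [hsmul] at this
      rw [mul_inv_eq_iff_eq_mul] at this
      exact this.symm
    have := hKH _ (centralizer_piCore_compl_le (hch.map f hsurj) hO' hcen) ⟨g, hg, rfl⟩
    rwa [← MonoidHom.mem_ker, hfker] at this
  · refine le_inf (le_inf hOH ?_) ?_ <;> intro g hg <;> rw [Subgroup.mem_pointwise_smul_iff_inv_smul_mem] <;>
      apply hOH <;> rw [← map_inv, MulAut.smul_def, MulAut.conj_apply, inv_inv]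
    · have := (inferInstance : O.Normal).conj_mem g hg x₀⁻¹
      rwa [inv_inv] at this
    · have := (inferInstance : O.Normal).conj_mem g hg y₀⁻¹
      rwa [inv_inv] at this

end Cfsg.Lib.CoprimeBase
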