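import Cfsg.Agent.Lib.CoprimeBase.Generic
import Cfsg.Agent.Lib.CoprimeBase.Pauli

/-!
The case in which the eigenspace of a vector is the whole module.
-/

set_option autoImplicit false
set_option linter.unusedSectionVars false
set_option linter.style.haveILetI false

namespace Cfsg.Lib.CoprimeBase

open MulAction Cfsg.Lib.OddBase
open scoped commutatorElement

universe v

variable {A V : Type v} [Group A] [Finite A] [AddCommGroup V] [Finite V] [DistribMulAction A V] {p : ℕ}

namespace Setting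

variable {s : Setting A V p} {e : V}

theorem Max.whole_pair [FaithfulSMul A V] [Fact p.Prime] (he : s.Max e) (htop : s.eig e = ⊤) : HasPair A V := by
  haveI := s.normal
  have hmem : ∀ w : V, w ∈ s.eig e := fun w => htop ▸ AddSubgroup.mem_top w
  have hext : ∀ x y : s.N, (∀ w : V, x • w = y • w) → x = y := fun x y h =>
    Subtype.ext (FaithfulSMul.eq_of_smul_eq_smul (M := A) h)
  have hline : ∀ u ∈ s.line e, u ∈ Subgroup.center s.N := by
    rintro u ⟨k, hk, hue⟩
    rw [hext u k fun w => hmem w u k hk hue]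
    exact hk
  have hmid : ∀ u : s.N, u ∈ s.mid e := fun u => s.mem_mid.2 fun y hy =>
    (Subgroup.mem_center_iff.1 (hline y hy) u).symm
  have hfree : ∀ u : s.N, u • e = e → u = 1 := by
    intro u hu
    refine hext u 1 fun w => ?_
    rw [one_smul, hmem w u 1 (one_mem _) (by rw [one_smul, hu]), one_smul]
  haveI := s.isCyclic_center
  obtain ⟨ωc, hωc⟩ := IsCyclic.exists_generator (α := Subgroup.center s.N)
  set ω : s.N := (ωc : s.N) with hωdef
  have hω : ∀ k ∈ Subgroup.center s.N, ∃ i : ℤ, ω ^ i = k := fun k hk => by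
    obtain ⟨i, hi⟩ := Subgroup.mem_zpowers_iff.1 (hωc ⟨k, hk⟩)
    exact ⟨i, congrArg Subtype.val hi⟩
  -- an element fixing the vector and one translate fixes its conjugate
  have hfix : ∀ (a : A) (g : s.N), a • e = e → a • g • e = g • e → MulAut.conjNormal a g = g := by
    intro a g hae hag
    have h : (MulAut.conjNormal a g : s.N) • e = g • e := by
      conv_lhs => rw [← hae]
      rw [← hag]
      show ((MulAut.conjNormal a g : s.N) : A) • a • e = a • (g : A) • e
      rw [MulAut.conjNormal_apply, smul_smul, smul_smul, inv_mul_cancel_right]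
    rw [← inv_mul_eq_one]
    exact hfree _ (by rw [mul_smul, ← h, inv_smul_smul])
  -- an element acting as an inner automorphism and fixing the vector is trivial
  have hinner : ∀ (a : A) (g : s.N), a • e = e →
      (∀ y : s.N, MulAut.conjNormal a y = g * y * g⁻¹) → a = 1 := by
    intro a g hae hc
    have hb : (g : A)⁻¹ * a ∈ s.N := s.hCN (Subgroup.mem_centralizer_iff.2 fun y hy => by
      have h := congrArg Subtype.val (hc ⟨y, hy⟩)
      rw [MulAut.conjNormal_apply] at h
      simp only [Subgroup.coe_mul, InvMemClass.coe_inv] at h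
      calc y * ((g : A)⁻¹ * a) = (g : A)⁻¹ * ((g : A) * y * (g : A)⁻¹) * a := by group
        _ = (g : A)⁻¹ * (a * y * a⁻¹) * a := by rw [h]
        _ = (g : A)⁻¹ * a * y := by group)
    have ha : a ∈ s.N := by
      have := mul_mem g.2 hb
      rwa [mul_inv_cancel_left] at this
    exact congrArg Subtype.val (hfree ⟨a, ha⟩ hae)
  by_cases hM : s.mid e = s.line e
  · -- the subgroup is cyclic
    refine ⟨e, ω • e, fun a hae haω z => ?_⟩
    have hφω := hfix a ω hae haω
    suffices a = 1 by rw [this, one_smul]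
    refine hinner a 1 hae fun y => ?_
    obtain ⟨i, rfl⟩ := hω y (hline y (hM ▸ hmid y))
    rw [map_zpow, hφω, one_mul, inv_one, mul_one]
  obtain ⟨x₀, -, hx₀⟩ := SetLike.exists_of_lt (lt_of_le_of_ne (s.line_le_mid he.ne) (Ne.symm hM))
  have hsqc : ∀ y : s.N, y ^ 2 ∈ Subgroup.center s.N := fun y => hline _ (he.sq_mem_line (hmid y))
  obtain ⟨hodd, hinv⟩ := he.mid_dichotomy.resolve_left hM
  haveI : Nontrivial V := ⟨⟨e, 0, he.ne⟩⟩
  obtain ⟨ι, h2⟩ := s.exists_twoType hsqc
  have hout : ∀ y : s.N, y ∉ Subgroup.center s.N → y ^ s.z = ι := fun y hy => by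
    refine invol_unique s (s.pow_z_mem y) h2.mem (hinv y) h2.sq (fun h1 => hy (hline y (he.maxc y (hmid y) h1))) h2.ne
  -- a square root of the generator of the centre
  obtain ⟨x, hx, hxω⟩ : ∃ x : s.N, x ∉ Subgroup.center s.N ∧ x ^ 2 = ω := by
    obtain ⟨i, hi⟩ := hω _ (hsqc x₀)
    have hx₀Z : x₀ ∉ Subgroup.center s.N := fun h => hx₀ (s.center_le_line e h)
    rcases Int.even_or_odd i with ⟨t, ht⟩ | ⟨t, ht⟩
    · exfalso
      refine h2.ne ((hout x₀ hx₀Z).symm.trans ?_)
      obtain ⟨d, hd⟩ := s.z_even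
      rw [hd, ← two_mul, pow_mul, ← hi, ← zpow_natCast, ← zpow_mul, ht,
        show (t + t) * (d : ℤ) = t * ((s.z : ℕ) : ℤ) by rw [hd]; push_cast; ring, zpow_mul, zpow_natCast]
      exact s.pow_z (zpow_mem ωc.2 t)
    · refine ⟨x₀ * ω ^ (-t), fun h => hx₀Z ((Subgroup.mul_mem_cancel_right _ (zpow_mem ωc.2 _)).1 h), ?_⟩
      rw [(show Commute x₀ (ω ^ (-t)) from Subgroup.mem_center_iff.1 (zpow_mem ωc.2 _) x₀).mul_pow, ← hi,
        ← zpow_natCast (ω ^ (-t)), ← zpow_mul, ← zpow_add, show i + -t * ((2 : ℕ) : ℤ) = 1 by push_cast; omega,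
        zpow_one]
  have hCx : ∀ u : s.N, ⁅x, u⁆ = 1 → u ∈ Subgroup.center s.N ∨ x * u ∈ Subgroup.center s.N := by
    intro u hu
    by_contra hcon
    push Not at hcon
    refine hcon.2 (hline _ (he.maxc _ (hmid _) ?_))
    rw [(show Commute x u from commutatorElement_eq_one_iff_mul_comm.1 hu).mul_pow, hout x hx, hout u hcon.1, ← pow_two,
      h2.sq]
  obtain ⟨y₀, hy₀⟩ : ∃ y₀ : s.N, ⁅x, y₀⁆ = ι := by
    by_contra hall
    push Not at hall
    exact hx (Subgroup.mem_center_iff.2 fun y => (commutatorElement_eq_one_iff_mul_comm.1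
      ((h2.commutator_cases x y).resolve_right (hall y))).symm)
  have hconj : ∀ g y : s.N, g * y * g⁻¹ = ⁅g, y⁆ * y := fun g y => by rw [commutatorElement_def]; group
  have hdec : ∀ φ : s.N ≃* s.N, (∀ k ∈ Subgroup.center s.N, φ k = k) → φ x = x → ∀ g : s.N,
      ⁅g, x⁆ = 1 → φ y₀ = g * y₀ * g⁻¹ → ∀ y, φ y = g * y * g⁻¹ := by
    intro φ hZ hφx g hgx hg
    let S : Subgroup s.N := MonoidHom.eqLocus φ.toMonoidHom (MulAut.conj g).toMonoidHom
    have hS : ∀ y, y ∈ S ↔ φ y = g * y * g⁻¹ := fun y => Iff.rfl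
    have hxS : x ∈ S := (hS x).2 (by rw [hφx, hconj, hgx, one_mul])
    have hZS : ∀ k ∈ Subgroup.center s.N, k ∈ S := fun k hk => (hS k).2 (by
      rw [hZ k hk, Subgroup.mem_center_iff.1 hk g, mul_inv_cancel_right])
    have hCS : ∀ u : s.N, ⁅x, u⁆ = 1 → u ∈ S := fun u hu => by
      rcases hCx u hu with h | h
      · exact hZS u h
      · exact (Subgroup.mul_mem_cancel_left S hxS).1 (hZS _ h)
    intro y
    refine (hS y).1 ?_
    rcases h2.commutator_cases x y with h | h
    · exact hCS y h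
    · refine (Subgroup.mul_mem_cancel_right S ((hS y₀).2 hg)).1 (hCS _ ?_)
      rw [Cfsg.Lib.PGroup.commutatorElement_mul_right s.hcl, h, hy₀, ← pow_two, h2.sq]
  refine ⟨e, x • e, fun a hae hax z => ?_⟩
  suffices a = 1 by rw [this, one_smul]
  set φ : s.N ≃* s.N := MulAut.conjNormal a with hφ
  have hφx : φ x = x := hfix a x hae hax
  have hZ : ∀ k ∈ Subgroup.center s.N, φ k = k := fun k hk => by
    obtain ⟨i, rfl⟩ := hω k hk
    rw [← hxω, ← zpow_natCast, ← zpow_mul, map_zpow, hφx]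
  set u := y₀⁻¹ * φ y₀ with hu
  have hφy : φ y₀ = y₀ * u := by rw [hu, mul_inv_cancel_left]
  have hxu : ⁅x, u⁆ = 1 := by
    have h := map_commutatorElement φ.toMonoidHom x y₀
    simp only [MulEquiv.coe_toMonoidHom, hφx, hy₀, hZ ι h2.mem] at h
    rw [hφy, Cfsg.Lib.PGroup.commutatorElement_mul_right s.hcl, hy₀] at h
    exact mul_left_cancel (a := ι) (by rw [← h, mul_one])
  have hu2 : u ^ 2 * ⁅u, y₀⁆ = 1 := by
    have h := map_pow φ y₀ 2
    rw [hZ _ (hsqc y₀), hφy, Cfsg.Lib.PGroup.mul_pow_of_class_two s.hcl, Nat.choose_self, pow_one, mul_assoc] at h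
    exact mul_left_cancel (a := y₀ ^ 2) (by rw [← h, mul_one])
  rcases hCx u hxu with huZ | huX
  · have hu1 : u ^ 2 = 1 := by
      rwa [commutatorElement_eq_one_iff_mul_comm.2 (Subgroup.mem_center_iff.1 huZ y₀).symm, mul_one] at hu2
    by_cases h1 : u = 1
    · exact hinner a 1 hae (hdec φ hZ hφx 1 (commutatorElement_one_left x) (by simp [hφy, h1]))
    · refine hinner a x hae (hdec φ hZ hφx x (commutatorElement_self x) ?_)
      rw [hφy, invol_unique s huZ h2.mem hu1 h2.sq h1 h2.ne, hconj, hy₀, Subgroup.mem_center_iff.1 h2.mem]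
  · have huy : ⁅u, y₀⁆ = ι := by
      rw [show u = x⁻¹ * (x * u) by group, Cfsg.Lib.PGroup.commutatorElement_mul_left s.hcl,
        commutatorElement_eq_one_iff_mul_comm.2 (Subgroup.mem_center_iff.1 huX y₀).symm, mul_one]
      refine (h2.commutator_cases x⁻¹ y₀).resolve_left fun h => h2.ne ?_
      have h' := Cfsg.Lib.PGroup.commutatorElement_mul_left s.hcl x x⁻¹ y₀
      rw [mul_inv_cancel, commutatorElement_one_left, h, mul_one, hy₀] at h'
      exact h'.symm
    have hu2' : u ^ 2 = ι := by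
      rw [huy] at hu2
      rw [← mul_one (u ^ 2), ← h2.sq, pow_two ι, ← mul_assoc, hu2, one_mul]
    have hφu : φ u = u := by
      rw [show u = x⁻¹ * (x * u) by group, map_mul, map_inv, hφx, hZ _ huX]
    have h2a : φ (φ y₀) = y₀ * ι := by rw [hφy, map_mul, hφu, hφy, mul_assoc, ← pow_two, hu2']
    have hφ2 : ∀ y, (MulAut.conjNormal (a * a) : MulAut s.N) y = φ (φ y) := fun y => by
      rw [hφ, map_mul, MulAut.mul_apply]
    have ha2 : a * a = 1 := hinner (a * a) x (by rw [mul_smul, hae, hae])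
      (hdec (MulAut.conjNormal (a * a)) (fun k hk => by rw [hφ2, hZ k hk, hZ k hk]) (by rw [hφ2, hφx, hφx]) x
        (commutatorElement_self x) (by rw [hφ2, h2a, hconj, hy₀, Subgroup.mem_center_iff.1 h2.mem]))
    exfalso
    apply h2.ne
    have h := hφ2 y₀
    rw [ha2, map_one, h2a, MulAut.one_apply] at h
    exact mul_left_cancel (a := y₀) (by rw [← h, mul_one])

end Setting

end Cfsg.Lib.CoprimeBase
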