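import Cfsg.Agent.Lib.CoprimeBase.Instances
import Cfsg.Agent.Lib.CoprimeBase.Whole
import Cfsg.Agent.Lib.CoprimeBase.Colours
import Cfsg.Agent.Lib.CoprimeBase.Pi

/-!
The primitive case, and regular pairs for soluble groups of coprime order.
-/

set_option autoImplicit false
set_option linter.unusedSectionVars false
set_option linter.style.haveILetI false

namespace Cfsg.Lib.CoprimeBase

open MulAction Cfsg.Lib.OddBase
open scoped commutatorElement

universe v

namespace Setting

variable {A V : Type v} [Group A] [Finite A] [AddCommGroup V] [Finite V] [DistribMulAction A V] {p : ℕ}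

theorem prime_eq [Fact p.Prime] {q n : ℕ} (hn : q.Prime) {k : ℕ} (h : q ^ k = p ^ n) (hk : k ≠ 0) : p = q :=
  ((Nat.prime_dvd_prime_iff_eq hn Fact.out).1 (hn.dvd_of_dvd_pow (h ▸ dvd_pow_self q hk))).symm

/-- A regular pair on the eigenspace of a vector of maximal line stabiliser gives one on the module. -/
theorem pair_of_max [FaithfulSMul A V] [Fact p.Prime] {s : Setting A V p} {e e₂ : V} (he : s.Max e)
    (he₂ : e₂ ∈ s.eig e)
    (hpair : ∀ a : A, (∀ w ∈ s.eig e, a • w ∈ s.eig e) → a • e = e → a • e₂ = e₂ → ∀ w ∈ s.eig e, a • w = w) :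
    HasPair A V := by
  classical
  rcases he.threeClasses_or with h3 | hexc
  · exact he.generic_pair he₂ hpair (Or.inl h3)
  by_cases hsmall : Nat.card {q : s.N ⧸ s.mid e // q ^ 2 = 1} ≤ 2
  · exact he.generic_pair he₂ hpair (Or.inr hsmall)
  obtain ⟨k, -, hkz, hk, hsq⟩ := s.exists_exponent
  have hk2 : k ∣ 2 := by
    have h4 : ¬ 4 ∣ k := fun h => hsq 2 Nat.prime_two h
    have hk8 : k ∣ 8 := hkz.trans (by
      rcases hexc with ⟨-, -, h | h | h⟩ | ⟨-, h, -⟩ <;> rw [h] <;> norm_num)
    have : k ∈ Nat.divisors 8 := Nat.mem_divisors.2 ⟨hk8, by norm_num⟩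
    rw [show Nat.divisors 8 = {1, 2, 4, 8} by decide] at this
    simp only [Finset.mem_insert, Finset.mem_singleton] at this
    rcases this with rfl | rfl | rfl | rfl
    · norm_num
    · norm_num
    · exact absurd dvd_rfl h4
    · exact absurd (by norm_num) h4
  haveI : Nontrivial V := ⟨⟨e, 0, he.ne⟩⟩
  obtain ⟨ι, h2⟩ := s.exists_twoType fun x => by
    obtain ⟨r, hr⟩ := hk2
    rw [hr, pow_mul]
    exact pow_mem (hk x) r
  have hQ : 2 < Nat.card (s.N ⧸ s.mid e) :=
    (not_le.1 hsmall).trans_le (Nat.card_le_card_of_injective _ Subtype.val_injective)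
  obtain ⟨f, hf0, hf⟩ := s.exists_q
  rcases hexc with ⟨hM, hE, hz | hz | hz⟩ | ⟨hM, hz, hE⟩
  · rw [hz] at hE hf
    exact plus_pair he h2 (prime_eq Nat.prime_three (k := 1) (by simpa using hf) one_ne_zero) hz hM hE hQ
  · rw [hz] at hE hf
    exact five_pair he h2 (prime_eq (by norm_num : Nat.Prime 5) (k := 1) (by simpa using hf) one_ne_zero) hz hM hE hQ
  · rw [hz] at hE hf
    exact nine_pair he h2 (prime_eq Nat.prime_three (k := 2) (by simpa using hf) two_ne_zero) hz hM hE hQ
  · rw [hz] at hf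
    exact minus_pair he h2 (prime_eq Nat.prime_three (k := 1) (by simpa using hf) one_ne_zero) hz hM hE hQ

/-- The setting of a maximal soluble group gives a regular pair. -/
theorem pair [FaithfulSMul A V] [Fact p.Prime] [Nontrivial V] (s : Setting A V p) (hA : Group.IsSolvable A)
    (hcop : (Nat.card A).Coprime (Nat.card V)) (hb : PairSmaller.{v} (Nat.card V)) : HasPair A V := by
  classical
  obtain ⟨e, he⟩ := s.exists_max
  by_cases htop : s.eig e = ⊤
  · exact he.whole_pair htop
  let B : Subgroup A :=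
    { carrier := {a | ∀ w, w ∈ s.eig e ↔ a • w ∈ s.eig e}
      one_mem' := fun w => by rw [one_smul]
      mul_mem' := fun {a b} ha hb w => by rw [mul_smul]; exact (hb w).trans (ha _)
      inv_mem' := fun {a} ha w => by rw [ha (a⁻¹ • w), smul_inv_smul] }
  letI := Cfsg.Lib.OddBase.subAct (A := B) (s.eig e) fun a w hw => (a.2 w).1 hw
  haveI := hA
  obtain ⟨⟨y₁, hy₁⟩, ⟨y₂, hy₂⟩, hy⟩ := hb B (s.eig e) (by
      obtain ⟨y, -, hy⟩ := SetLike.exists_of_lt (Ne.lt_top htop)
      exact Finite.card_subtype_lt (p := (· ∈ s.eig e)) hy) inferInstance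
    ((hcop.coprime_dvd_left B.card_subgroup_dvd_card).coprime_dvd_right (s.eig e).card_addSubgroup_dvd_card)
  obtain ⟨e', he', hE, hfix⟩ : ∃ e', s.Max e' ∧ s.eig e' = s.eig e ∧ ∀ a : A, a • e' = e' → a • y₁ = y₁ := by
    by_cases h0 : y₁ = 0
    · exact ⟨e, he, rfl, fun a _ => by rw [h0, smul_zero]⟩
    · obtain ⟨hm, hE⟩ := he.transfer hy₁ h0
      exact ⟨y₁, hm, hE, fun a ha => ha⟩
  refine pair_of_max he' (e₂ := y₂) (hE ▸ hy₂) fun a hstab ha1 ha2 w hw => ?_
  rw [hE] at hstab hw
  have haB : a ∈ B := by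
    intro u
    refine ⟨hstab u, fun hu => ?_⟩
    let g : s.eig e → s.eig e := fun v => ⟨a • (v : V), hstab v v.2⟩
    have hg : Function.Injective g := fun v v' h => Subtype.ext (smul_left_cancel a (congrArg Subtype.val h))
    obtain ⟨v, hv⟩ := Finite.injective_iff_surjective.1 hg ⟨_, hu⟩
    rw [← smul_left_cancel a (congrArg Subtype.val hv)]
    exact v.2
  exact congrArg Subtype.val (hy ⟨a, haB⟩ (Subtype.ext (hfix a ha1)) (Subtype.ext ha2) ⟨w, hw⟩)

end Setting

theorem primitiveProp : PrimitiveProp.{v} := by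
  intro V _ _ _ p _ hp2 hp A hA hpA hmax hirr himp hb
  obtain ⟨s⟩ := exists_setting hp2 hp hA hpA hmax hirr himp
  haveI : FaithfulSMul A V := ⟨fun {a b} h => Subtype.ext (Units.ext (AddMonoidHom.ext h))⟩
  refine s.pair hA ?_ hb
  obtain ⟨d, hd⟩ := card_eq_pow hp
  rw [hd]
  exact Nat.Coprime.pow_right d ((Fact.out : p.Prime).coprime_iff_not_dvd.2 hpA).symm

/-- Soluble groups of coprime order have regular pairs on abelian groups. -/
theorem pair_coprime' (A V : Type v) [Group A] [Finite A] [AddCommGroup V] [Finite V] [DistribMulAction A V]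
    (hA : Group.IsSolvable A) (hcop : (Nat.card A).Coprime (Nat.card V)) : HasPair A V :=
  pair_main (fun p hp h2 => colourProp.{v} p hp h2) primitiveProp _ A V rfl hA hcop

universe u

/-- Soluble groups of coprime order have regular pairs on abelian groups, in any universes. -/
theorem pair_coprime (A : Type u) (V : Type v) [Group A] [Finite A] [AddCommGroup V] [Finite V]
    [DistribMulAction A V] (hA : Group.IsSolvable A) (hcop : (Nat.card A).Coprime (Nat.card V)) : HasPair A V := by
  haveI := hA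
  let φ := (DistribMulAction.toAddMonoidEnd A V).toHomUnits
  obtain ⟨x, y, h⟩ := pair_coprime'.{v} φ.range V (Group.isSolvable_of_surjective φ.rangeRestrict_surjective)
    (hcop.coprime_dvd_left (Subgroup.card_range_dvd φ))
  exact ⟨x, y, fun a e₁ e₂ z => h ⟨φ a, a, rfl⟩ e₁ e₂ z⟩

/-- Soluble groups of coprime order have regular pairs. -/
theorem pair_coprime_group {A : Type u} [Group A] [Finite A] (hA : Group.IsSolvable A) (K : Type v) [Group K]
    [Finite K] [MulDistribMulAction A K] (hcop : (Nat.card A).Coprime (Nat.card K)) : HasPair A K :=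
  hasPair_of_abelian (fun A V => pair_coprime A V) hA _ K rfl hcop

end Cfsg.Lib.CoprimeBase
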