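import Cfsg.Agent.Lib.CoprimeBase.Centre
import Cfsg.Agent.Lib.CoprimeBase.Rigid
import Cfsg.Agent.Lib.CoprimeBase.Trick

/-!
A small model realised on an eigenspace of a subgroup gives a frame, and with certificates a regular pair.
-/

set_option autoImplicit false
set_option linter.unusedSectionVars false
set_option linter.style.haveILetI false

namespace Cfsg.Lib.CoprimeBase

open MulAction Cfsg.Lib.OddBase Cert
open scoped commutatorElement

universe v

variable {A V : Type v} [Group A] [Finite A] [AddCommGroup V] [Finite V] [DistribMulAction A V] {p : ℕ}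

namespace Setting

variable (s : Setting A V p)

/-- The model acts on a common eigenspace of a subgroup through the centraliser of that subgroup. -/
structure Real (m : Cert.Model) where
  b : Fin m.n → V
  sub : Subgroup s.N
  center_le : Subgroup.center s.N ≤ sub
  scalar : ∀ u ∈ sub, ∃ k ∈ Subgroup.center s.N, ∀ i, u • b i = k • b i
  inj : ∀ l l', Canon m.p m.n l → Canon m.p m.n l' → toV b l = toV b l' → l = l'
  spanned : ∀ w : V, (∀ u ∈ sub, ∀ k ∈ Subgroup.center s.N, (∀ i, u • b i = k • b i) → u • w = k • w) →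
    ∃ l, Canon m.p m.n l ∧ toV b l = w
  dec : ∀ x : s.N, (∀ u ∈ sub, Commute x u) → ∃ o ∈ m.table, ∀ l, x • toV b l = toV b (app m.p o l)
  hit : ∀ o ∈ m.table, ∃ x : s.N, (∀ u ∈ sub, Commute x u) ∧ ∀ l, x • toV b l = toV b (app m.p o l)
  prime : m.p = p
  wellFormed : wf m = true

variable {s} {m : Cert.Model} (R : s.Real m)
include R

theorem Real.bounds : 0 < m.p ∧ m.p ≤ 16 ∧ ∀ o ∈ m.table, o.length = m.n := by
  obtain ⟨h0, h16, h⟩ := wf_iff R.wellFormed
  exact ⟨h0, h16, fun o ho => (h o (List.mem_append_right _ ho)).1⟩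

theorem Real.hp : ∀ w : V, m.p • w = 0 := fun w => by rw [R.prime]; exact s.hp w

omit R in
theorem smul_toV {G : Type*} [Monoid G] [DistribMulAction G V] (g : G) {n : ℕ} (b : Fin n → V) (f : Fin n → ℕ) :
    g • ∑ i, f i • b i = ∑ i, f i • g • b i := by
  rw [Finset.smul_sum]
  exact Finset.sum_congr rfl fun i _ => map_nsmul (DistribSMul.toAddMonoidHom V g) (f i) (b i)

theorem Real.smul_eq (x : s.N) (w : V) (hx : ∀ i, x • R.b i = R.b i) (l : ℕ) (hw : toV R.b l = w) :
    x • w = w := by
  rw [← hw, toV, smul_toV x]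
  simp only [hx]

theorem Real.smul_eq' (a : A) (ha : ∀ i, a • R.b i = R.b i) (l : ℕ) : a • toV R.b l = toV R.b l := by
  rw [toV, smul_toV a]
  simp only [ha]

theorem Real.scalar_toV {u k : s.N} (h : ∀ i, u • R.b i = k • R.b i) (l : ℕ) :
    u • toV R.b l = k • toV R.b l := by
  simp only [toV, smul_toV, h]

theorem Real.canon_app' {o : Op} (ho : o ∈ m.table) (l : ℕ) : Canon m.p m.n (app m.p o l) :=
  canon_app R.bounds.1 R.bounds.2.1 (R.bounds.2.2 o ho) l

theorem Real.fix_of_regular {lv : ℕ} (hr : regular m lv = true) {x : s.N} (hx : ∀ u ∈ R.sub, Commute x u)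
    (hfix : x • toV R.b lv = toV R.b lv) : ∀ l, x • toV R.b l = toV R.b l := by
  simp only [regular, Bool.and_eq_true, List.all_eq_true, Bool.or_eq_true, Bool.not_eq_true', List.mem_range,
    beq_eq_false_iff_ne, beq_iff_eq] at hr
  obtain ⟨hc, hall⟩ := hr
  obtain ⟨o, ho, hox⟩ := R.dec x hx
  have h1 : app m.p o lv = lv := R.inj _ _ (R.canon_app' ho lv) (canon_of_canonB hc) (by rw [← hox, hfix])
  have h2 := (hall o ho).resolve_left fun h => h h1
  refine fun l => R.smul_eq x _ (fun i => ?_) l rfl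
  rw [← toV_pow (b := R.b) i, hox, h2 i i.2]

section Frame

variable {lv : ℕ} (hr : regular m lv = true) (hv0 : toV R.b lv ≠ 0)
include hr hv0

theorem Real.sub_le_line : R.sub ≤ s.line (toV R.b lv) := fun u hu => by
  obtain ⟨k, hk, h⟩ := R.scalar u hu
  exact ⟨k, hk, R.scalar_toV h lv⟩

theorem Real.line_scalar {y : s.N} {c : s.N} (hc : c ∈ Subgroup.center s.N)
    (hy : y • toV R.b lv = c • toV R.b lv) : ∀ l, y • toV R.b l = c • toV R.b l := by
  have hcomm : ∀ u ∈ R.sub, Commute (c⁻¹ * y) u := by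
    intro u hu
    obtain ⟨k, hk, h⟩ := R.scalar u hu
    have hyu : Commute y u := by
      refine commutatorElement_eq_one_iff_mul_comm.1 (s.hfpf _ (s.commutator_mem y u) _ hv0 ?_)
      have e1 : (y * u) • toV R.b lv = (k * c) • toV R.b lv := by
        rw [mul_smul, R.scalar_toV h, s.comm_center hk, hy, smul_smul]
      have e2 : (u * y) • toV R.b lv = (k * c) • toV R.b lv := by
        rw [mul_smul, hy, s.comm_center hc, R.scalar_toV h, smul_smul, Subgroup.mem_center_iff.1 hk c]
      rw [show y * u = ⁅y, u⁆ * (u * y) by rw [commutatorElement_def]; group, mul_smul, e2, ← mul_smul,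
        Subgroup.mem_center_iff.1 (mul_mem hk hc) ⁅y, u⁆, mul_smul] at e1
      exact smul_left_cancel _ e1
    exact (Commute.inv_left (show Commute c u from (Subgroup.mem_center_iff.1 hc u).symm)).mul_left hyu
  intro l
  have h := R.fix_of_regular hr hcomm (by rw [mul_smul, hy, inv_smul_smul]) l
  rw [mul_smul, inv_smul_eq_iff] at h
  exact h

theorem Real.toV_mem_eig (l : ℕ) : toV R.b l ∈ s.eig (toV R.b lv) := fun _ _ hk hy =>
  R.line_scalar hr hv0 hk hy l

theorem Real.exists_toV {w : V} (hw : w ∈ s.eig (toV R.b lv)) : ∃ l, Canon m.p m.n l ∧ toV R.b l = w :=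
  R.spanned w fun _ _ k hk h => hw _ k hk (R.scalar_toV h lv)

theorem Real.mem_mid_iff (x : s.N) : x ∈ s.mid (toV R.b lv) ↔ ∀ u ∈ R.sub, Commute x u := by
  rw [s.mem_mid]
  constructor
  · exact fun h u hu => (h u (R.sub_le_line hr hv0 hu)).symm
  · intro h y hy
    obtain ⟨c, hc, hyc⟩ := hy
    obtain ⟨o, ho, hox⟩ := R.dec x h
    refine commutatorElement_eq_one_iff_mul_comm.1 (s.hfpf _ (s.commutator_mem y x) _ hv0 ?_)
    have e1 : (y * x) • toV R.b lv = (x * y) • toV R.b lv := by
      rw [mul_smul, mul_smul, hox, R.line_scalar hr hv0 hc hyc, ← hox, hyc, s.comm_center hc]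
    rw [show y * x = ⁅y, x⁆ * (x * y) by rw [commutatorElement_def]; group, mul_smul] at e1
    have hne : (x * y) • toV R.b lv ≠ 0 := fun h0 => hv0 ((smul_eq_zero_iff_eq _).1 h0)
    exact (s.hfpf.eq_of_smul_eq (s.commutator_mem y x) (one_mem _) hne (by rw [one_smul]; exact e1)) ▸ one_smul _ _

theorem Real.normalises {a : A} (hav : a • toV R.b lv = toV R.b lv) :
    Normalises R.b (DistribSMul.toAddMonoidHom V a) := by
  haveI := s.normal
  intro o ho
  obtain ⟨x, hxc, hxo⟩ := R.hit o ho
  set φ : s.N ≃* s.N := MulAut.conjNormal a with hφ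
  have hact : ∀ (y : s.N) (w : V), a • y • w = φ y • a • w := fun y w => by
    show a • ((y : A) • w) = ((φ y : s.N) : A) • a • w
    rw [hφ, MulAut.conjNormal_apply, smul_smul, smul_smul, inv_mul_cancel_right]
  have hm : φ x ∈ s.mid (toV R.b lv) := by
    rw [s.mem_mid]
    intro y hy
    obtain ⟨y, rfl⟩ := φ.surjective y
    obtain ⟨k, hk, hyk⟩ := hy
    obtain ⟨k, rfl⟩ := φ.surjective k
    have hk' : k ∈ Subgroup.center s.N := by
      simpa using Subgroup.characteristic_iff_le_comap.1 inferInstance φ.symm hk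
    have hyline : y ∈ s.line (toV R.b lv) := by
      refine ⟨k, hk', smul_left_cancel a ?_⟩
      rw [hact, hact, hav]
      exact hyk
    rw [← map_mul, ← map_mul, s.mem_mid.1 ((R.mem_mid_iff hr hv0 x).2 hxc) y hyline]
  obtain ⟨o', ho', hxo'⟩ := R.dec (φ x) ((R.mem_mid_iff hr hv0 _).1 hm)
  refine ⟨o', ho', fun l l' _ _ hll => ?_⟩
  simp only [DistribSMul.toAddMonoidHom_apply] at hll ⊢
  rw [← hxo, hact, hll, hxo']

end Frame

omit R in
theorem toV_one (b : Fin m.n → V) (i : Fin m.n) : toV b ((one m).getD i 0) = b i := by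
  rw [one, List.getD_eq_getElem _ _ (by simp), List.getElem_map, List.getElem_range, toV_pow]

/-- The pair of a certificate is regular, or some group element realises a listed non-trivial matrix. -/
theorem Real.pair_or {d : Cert.Data} {c : ℕ} (hd : checkAll m d c = true)
    (hdr : (regular m d.v && canonB m d.w) = true) (hv0 : toV R.b d.v ≠ 0) :
    (∀ a : A, (∀ w ∈ s.eig (toV R.b d.v), a • w ∈ s.eig (toV R.b d.v)) → a • toV R.b d.v = toV R.b d.v →
      a • toV R.b d.w = toV R.b d.w → ∀ w ∈ s.eig (toV R.b d.v), a • w = w) ∨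
    ∃ M ∈ d.sols, ∃ a : A, ∀ i, a • R.b i = toV R.b (M.getD i 0) := by
  rw [Bool.and_eq_true] at hdr
  by_cases hall : ∀ a : A, (∀ w ∈ s.eig (toV R.b d.v), a • w ∈ s.eig (toV R.b d.v)) →
      a • toV R.b d.v = toV R.b d.v → a • toV R.b d.w = toV R.b d.w →
      ∀ w ∈ s.eig (toV R.b d.v), a • w = w
  · exact Or.inl hall
  right
  push Not at hall
  obtain ⟨a, hstab, hav, haw, w, hw, hne⟩ := hall
  have hcv : Canon m.p m.n d.v := by
    have := hdr.1
    simp only [regular, Bool.and_eq_true] at this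
    exact canon_of_canonB this.1
  obtain ⟨M, hM, hMa⟩ := Cert.sound R.hp R.wellFormed R.inj d hd hcv (canon_of_canonB hdr.2)
    (a := DistribSMul.toAddMonoidHom V a) hav haw (R.normalises hdr.1 hv0 hav)
    (fun l _ h => (smul_eq_zero_iff_eq a).1 h)
  simp only [DistribSMul.toAddMonoidHom_apply] at hMa
  rcases List.mem_cons.1 hM with rfl | hM
  · refine absurd ?_ hne
    obtain ⟨l, _, rfl⟩ := R.exists_toV hdr.1 hv0 hw
    exact R.smul_eq' a (fun i => by rw [hMa, toV_one]) l
  · exact ⟨M, hM, a, hMa⟩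

/-- Three regular classes of a model. -/
def Classes (m : Cert.Model) (L : List ℕ) : Prop :=
  ∃ f₀ f₁ f₂, L = [f₀, f₁, f₂] ∧ L.all (regular m) = true ∧ apart m f₀ f₁ = true ∧ apart m f₀ f₂ = true ∧
    apart m f₁ f₂ = true

/-- A regular pair from a model and one pair of vectors on it. -/
theorem Real.pair_of_base [FaithfulSMul A V] [Fact p.Prime] (h2 : ∀ x : s.N, x ^ 2 ∈ Subgroup.center s.N)
    {lv lw : ℕ} (hr : regular m lv = true) (hv0 : toV R.b lv ≠ 0)
    (hpair : ∀ a : A, (∀ w ∈ s.eig (toV R.b lv), a • w ∈ s.eig (toV R.b lv)) → a • toV R.b lv = toV R.b lv →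
      a • toV R.b lw = toV R.b lw → ∀ w ∈ s.eig (toV R.b lv), a • w = w)
    {L : List ℕ} (hcls : Classes m L ∨ Nat.card (s.N ⧸ s.mid (toV R.b lv)) ≤ 2) : HasPair A V := by
  classical
  set e := toV R.b lv with he
  have hmk : ∀ a b : s.N ⧸ s.mid e, a * b = b * a := s.mk_commute' e
  letI : CommGroup (s.N ⧸ s.mid e) := { (inferInstance : Group (s.N ⧸ s.mid e)) with mul_comm := hmk }
  have hexp : ∀ q : s.N ⧸ s.mid e, q ^ 2 = 1 := fun q => by
    induction q using QuotientGroup.induction_on with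
    | H x => rw [← QuotientGroup.mk_pow, QuotientGroup.eq_one_iff]; exact s.center_le_mid e (h2 x)
  obtain ⟨lab, hlab1, hlabcard, hlabtwo, -, -, hlabrig⟩ := exists_rigid (Q := s.N ⧸ s.mid e) (k := 2) hexp
    (fun r hr h => by
      have h1 := Nat.le_of_dvd two_pos h
      have h2 := hr.two_le
      nlinarith)
  obtain ⟨F, hF, hFne⟩ : ∃ F : Fin 3 → V,
      (∀ i, ∃ l, regular m l = true ∧ toV R.b l = F i ∧ F i ≠ 0) ∧
      (Nat.card (s.N ⧸ s.mid e) ≤ 2 ∨ ∀ i i', i ≠ i' → ∀ u ∈ s.mid e, u • F i ≠ F i') := by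
    rcases hcls with ⟨f₀, f₁, f₂, rfl, hreg, h01, h02, h12⟩ | h
    · simp only [List.all_cons, List.all_nil, Bool.and_true, Bool.and_eq_true] at hreg
      obtain ⟨r0, r1, r2⟩ := hreg
      have hne : ∀ {f : ℕ}, regular m f = true → ∀ g, apart m f g = true ∨ apart m g f = true →
          toV R.b f ≠ 0 := by
        intro f hf g hfg h0
        have h0' : f = 0 := by
          have hc : Canon m.p m.n f := by
            simp only [regular, Bool.and_eq_true] at hf
            exact canon_of_canonB hf.1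
          exact R.inj _ _ hc ⟨by positivity, fun i _ => by rw [get_zero_left]; exact R.bounds.1⟩
            (by rw [h0, toV_zero])
        subst h0'
        -- a scalar of the model fixes zero
        obtain ⟨k, hk, hkw⟩ := s.hnat 2 fun h => by
          have := Nat.le_of_dvd two_pos h
          have := (Fact.out : p.Prime).two_le
          have := s.hp2
          omega
        have hfix := R.fix_of_regular hf (fun u hu => (Subgroup.mem_center_iff.1 hk u).symm) (by
          rw [h0, smul_zero]) lv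
        rw [hkw, two_nsmul, add_eq_left] at hfix
        exact hv0 hfix
      have hap : ∀ {f g : ℕ}, regular m f = true → regular m g = true → apart m f g = true →
          ∀ u ∈ s.mid e, u • toV R.b f ≠ toV R.b g ∧ u • toV R.b g ≠ toV R.b f := by
        intro f g hf hg h u hu
        simp only [apart, List.all_eq_true, Bool.and_eq_true, Bool.not_eq_true', beq_eq_false_iff_ne] at h
        obtain ⟨o, ho, hou⟩ := R.dec u ((R.mem_mid_iff hr hv0 u).1 hu)
        simp only [regular, Bool.and_eq_true] at hf hg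
        constructor <;> intro he'
        · exact (h o ho).1 (R.inj _ _ (R.canon_app' ho _) (canon_of_canonB hg.1) (by rw [← hou, he']))
        · exact (h o ho).2 (R.inj _ _ (R.canon_app' ho _) (canon_of_canonB hf.1) (by rw [← hou, he']))
      refine ⟨![toV R.b f₀, toV R.b f₁, toV R.b f₂], fun i => ?_, Or.inr fun i i' hii u hu => ?_⟩
      · fin_cases i
        exacts [⟨f₀, r0, rfl, hne r0 f₁ (Or.inl h01)⟩, ⟨f₁, r1, rfl, hne r1 f₂ (Or.inl h12)⟩,
          ⟨f₂, r2, rfl, hne r2 f₁ (Or.inr h12)⟩]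
      · fin_cases i <;> fin_cases i'
        · exact absurd rfl hii
        · exact (hap r0 r1 h01 u hu).1
        · exact (hap r0 r2 h02 u hu).1
        · exact (hap r0 r1 h01 u hu).2
        · exact absurd rfl hii
        · exact (hap r1 r2 h12 u hu).1
        · exact (hap r0 r2 h02 u hu).2
        · exact (hap r1 r2 h12 u hu).2
        · exact absurd rfl hii
    · exact ⟨fun _ => e, fun _ => ⟨lv, hr, rfl, hv0⟩, Or.inl h⟩
  let col : Fin 4 → V := ![0, F 0, F 1, F 2]
  let f : s.N ⧸ s.mid e → V := fun q => if q = 1 then toV R.b lw else col (lab q)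
  let rep : s.N ⧸ s.mid e → s.N := fun q => if q = 1 then 1 else q.out
  have hrep : ∀ q, (rep q : s.N ⧸ s.mid e) = q := fun q => by
    simp only [rep]
    split_ifs with h
    · rw [h]; rfl
    · exact QuotientGroup.out_eq' q
  have hcol : ∀ l : Fin 4, l ≠ 0 → ∃ k, regular m k = true ∧ toV R.b k = col l ∧ col l ≠ 0 := by
    intro l hl
    fin_cases l
    exacts [absurd rfl hl, hF 0, hF 1, hF 2]
  have hcol0 : ∀ l : Fin 4, col l = 0 → l = 0 := fun l hl => by
    by_contra h
    obtain ⟨k, _, _, hk⟩ := hcol l h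
    exact hk hl
  refine s.frame_pair hv0 rep hrep (if_pos rfl) f (fun q => ?_) (if_pos rfl) hpair (fun q hq1 hq m' hm hmf => ?_) ?_
    (fun φ _ π hπ => hlabrig π fun q hq => ?_)
  · simp only [f]
    split_ifs
    · exact R.toV_mem_eig hr hv0 _
    · by_cases h0 : lab q = 0
      · rw [h0]; exact zero_mem _
      · obtain ⟨k, _, hk, _⟩ := hcol _ h0
        rw [← hk]
        exact R.toV_mem_eig hr hv0 _
  · intro w hw
    simp only [f, if_neg hq1] at hq hmf
    obtain ⟨k, hkr, hk, _⟩ := hcol (lab q) fun h => hq (by rw [h]; rfl)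
    rw [← hk] at hmf
    obtain ⟨l, _, rfl⟩ := R.exists_toV hr hv0 hw
    exact R.fix_of_regular hkr ((R.mem_mid_iff hr hv0 m').1 hm) hmf l
  · refine lt_of_le_of_lt (Nat.mul_le_mul_left 4 (Nat.card_le_card_of_injective
      (fun q => (⟨q.1, ?_⟩ : {q : s.N ⧸ s.mid e // lab q = 0}))
      fun x y h => Subtype.ext (congrArg (fun t : {q : s.N ⧸ s.mid e // lab q = 0} => t.1) h))) hlabcard
    have h := q.2.2
    simp only [f, if_neg q.2.1] at h
    exact hcol0 _ h
  · obtain ⟨u, hu, -, hfu⟩ := hπ q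
    have hq1 : q ≠ 1 := fun h => Nat.not_prime_one (by rwa [h, orderOf_one] at hq)
    have hπq1 : π q ≠ 1 := fun h => hq1 (π.map_eq_one_iff.1 h)
    simp only [f, if_neg hq1, if_neg hπq1] at hfu
    rcases hFne with hsmall | hne
    · have hsub : Nat.card {x : s.N ⧸ s.mid e // x ^ 2 = 1} ≤ 2 :=
        (Nat.card_le_card_of_injective _ Subtype.val_injective).trans hsmall
      rw [hlabtwo hsub q (hexp q), hlabtwo hsub _ (hexp _)]
    revert hfu
    generalize lab q = l
    generalize lab (π q) = l'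
    intro hfu
    by_contra hll
    fin_cases l <;> fin_cases l'
    all_goals first
      | exact hll rfl
      | exact hne _ _ (by decide) u hu hfu.symm
      | (obtain ⟨_, _, _, hk⟩ := hF 0; first
          | exact hk (hfu.trans (smul_zero u))
          | exact hk ((smul_eq_zero_iff_eq u).1 hfu.symm))
      | (obtain ⟨_, _, _, hk⟩ := hF 1; first
          | exact hk (hfu.trans (smul_zero u))
          | exact hk ((smul_eq_zero_iff_eq u).1 hfu.symm))
      | (obtain ⟨_, _, _, hk⟩ := hF 2; first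
          | exact hk (hfu.trans (smul_zero u))
          | exact hk ((smul_eq_zero_iff_eq u).1 hfu.symm))

theorem Real.toV_ne {l : ℕ} (hc : canonB m l = true) (hl : l ≠ 0) : toV R.b l ≠ 0 := fun h0 =>
  hl (R.inj _ _ (canon_of_canonB hc) ⟨by positivity, fun i _ => by rw [get_zero_left]; exact R.bounds.1⟩
    (by rw [h0, toV_zero]))

omit R in
/-- A usable certificate. -/
def Usable (m : Cert.Model) (d : Cert.Data) : Prop :=
  (∃ c, checkAll m d c = true) ∧ (regular m d.v && canonB m d.w) = true ∧ d.v ≠ 0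

theorem Real.pair_or' [FaithfulSMul A V] [Fact p.Prime] (h2 : ∀ x : s.N, x ^ 2 ∈ Subgroup.center s.N)
    {d : Cert.Data} (hd : Usable m d) {L : List ℕ} (hcls : Classes m L ∨ R.sub ≤ Subgroup.center s.N) :
    HasPair A V ∨ ∃ M ∈ d.sols, ∃ a : A, ∀ i, a • R.b i = toV R.b (M.getD i 0) := by
  obtain ⟨⟨c, hc⟩, hdr, hv⟩ := hd
  have hr : regular m d.v = true := (Bool.and_eq_true _ _ ▸ hdr).1
  have hv0 : toV R.b d.v ≠ 0 := R.toV_ne (by
    have := hr
    simp only [regular, Bool.and_eq_true] at this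
    exact this.1) hv
  refine (R.pair_or hc hdr hv0).imp_left fun hpair => R.pair_of_base h2 hr hv0 hpair (hcls.imp_right fun hsub => ?_)
  have htop : s.mid (toV R.b d.v) = ⊤ := eq_top_iff.2 fun x _ =>
    (R.mem_mid_iff hr hv0 x).2 fun u hu => Subgroup.mem_center_iff.1 (hsub hu) x
  rw [htop, show Nat.card (s.N ⧸ (⊤ : Subgroup s.N)) = 1 from Subgroup.index_top]
  norm_num

/-- A regular pair from a certificate without solutions. -/
theorem Real.pair_of_data [FaithfulSMul A V] [Fact p.Prime] (h2 : ∀ x : s.N, x ^ 2 ∈ Subgroup.center s.N)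
    {d : Cert.Data} (hd : Usable m d) (hsols : d.sols = []) {L : List ℕ}
    (hcls : Classes m L ∨ R.sub ≤ Subgroup.center s.N) : HasPair A V := by
  refine (R.pair_or' h2 hd hcls).resolve_right ?_
  rintro ⟨M, hM, -⟩
  simp [hsols] at hM

/-- A regular pair from certificates whose solutions admit no transversal. -/
theorem Real.pair_of_cover [FaithfulSMul A V] [Fact p.Prime] (h2 : ∀ x : s.N, x ^ 2 ∈ Subgroup.center s.N)
    (hp3 : p = 3) {D : List Cert.Data} (hD : ∀ d ∈ D, Usable m d)
    (hcov : cover m (D.map Cert.Data.sols) [] = true) {L : List ℕ}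
    (hcls : Classes m L ∨ R.sub ≤ Subgroup.center s.N) : HasPair A V := by
  by_contra hno
  refine cover_sound R.hp (by rw [R.prime, hp3]; norm_num) R.bounds.2.1 R.inj (by simpa only [hp3] using s.hpA) _ []
    (fun opts hopts => ?_) (fun M hM => absurd hM (List.not_mem_nil)) hcov
  obtain ⟨d, hd, rfl⟩ := List.mem_map.1 hopts
  exact (R.pair_or' h2 (hD d hd) hcls).resolve_left hno

end Setting

end Cfsg.Lib.CoprimeBase
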